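import Mathlib
import Cfsg.Agent.TcChain36.O7C.Tab

set_option autoImplicit false
set_option maxRecDepth 1000000
set_option linter.all false

namespace Cfsg.Agent.TcChain36.O7C

open Cfsg.Agent.Lib.OutTree36 Cfsg.Agent.Lib.PcClass36

set_option Elab.async false

/-- The certificates of a block. -/
def cd0 : List ℕ := [
nat_lit 0, nat_lit 0x20b70422350783d5a6421, nat_lit 0x3c69a05be4a50dec2024, nat_lit 0x9e149fe9aaebfc4bec, nat_lit 0x41e0fd14be896c140ca64b85ab1, nat_lit 0x576e1b70878f9e2e67c82270,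
nat_lit 0xb373d993b22838e2a, nat_lit 0xf8f88bb3476ab78667c698888c, nat_lit 0xe71550d77ed9d28cbfa00, nat_lit 0x116d8dda, nat_lit 0x630c8706d32f4ec, nat_lit 0x3781442c93ed33c6c8243,
nat_lit 0, nat_lit 0, nat_lit 0, nat_lit 0, nat_lit 0, nat_lit 0,
nat_lit 0xd2ae669, nat_lit 0x24b93e9f793148def65ed1, nat_lit 0x630c8706d352acd, nat_lit 0, nat_lit 0, nat_lit 0,
nat_lit 0, nat_lit 0, nat_lit 0, nat_lit 0x402ca, nat_lit 0x2b5e1bfe3a, nat_lit 0x737355d9a,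
nat_lit 0x1c3ddd1f6a5, nat_lit 0xcf59b993b12ca595875742523, nat_lit 0x1f8f033f034dfbb3fb5842eff2, nat_lit 0x4bebf710b, nat_lit 0x332a891c2efae46ac74ffb5, nat_lit 0x1709fa1488b2ab43dacae1b45,
nat_lit 0, nat_lit 0, nat_lit 0, nat_lit 0, nat_lit 0, nat_lit 0,
nat_lit 0, nat_lit 0, nat_lit 0, nat_lit 0, nat_lit 0, nat_lit 0,
nat_lit 0, nat_lit 0, nat_lit 0, nat_lit 0, nat_lit 0, nat_lit 0,
nat_lit 0x3677b4, nat_lit 0x5964616cd, nat_lit 0x538c18b05, nat_lit 0x1a53f44adc, nat_lit 0x1cb12dd033822a38f6c16, nat_lit 0x1b35b723b98ba4d750127cd27a,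
nat_lit 0x1929392c7b, nat_lit 0x50603a722f238871de03d5d424, nat_lit 0x547570c97295a55e817f498364a3, nat_lit 0, nat_lit 0, nat_lit 0,
nat_lit 0, nat_lit 0, nat_lit 0, nat_lit 0, nat_lit 0, nat_lit 0,
nat_lit 0, nat_lit 0, nat_lit 0, nat_lit 0, nat_lit 0, nat_lit 0,
nat_lit 0, nat_lit 0, nat_lit 0, nat_lit 0x1788776a24, nat_lit 0, nat_lit 0,
nat_lit 0x25b71d57829eb2f80, nat_lit 0, nat_lit 0, nat_lit 0x8e5f50f394224c3, nat_lit 0, nat_lit 0,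
nat_lit 0x97f2a7a9, nat_lit 0, nat_lit 0, nat_lit 0, nat_lit 0, nat_lit 0,
nat_lit 0, nat_lit 0, nat_lit 0, nat_lit 0x1a6b67efc6a, nat_lit 0, nat_lit 0,
nat_lit 0, nat_lit 0, nat_lit 0, nat_lit 0, nat_lit 0, nat_lit 0,
nat_lit 0x27cd695a38fb68b74adce, nat_lit 0, nat_lit 0, nat_lit 0x16638b0a0b5da019f05953, nat_lit 0, nat_lit 0,
nat_lit 0x27cd695a38fb68b74ae14, nat_lit 0, nat_lit 0, nat_lit 0, nat_lit 0, nat_lit 0x85abd4afe8739f3ce1f,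
nat_lit 0, nat_lit 0, nat_lit 0, nat_lit 0, nat_lit 0, nat_lit 0,
nat_lit 0, nat_lit 0x212e5932063fbbf15c9d9d3b86, nat_lit 0, nat_lit 0, nat_lit 0, nat_lit 0,
nat_lit 0, nat_lit 0, nat_lit 0, nat_lit 0x2477b0a895a99f344a, nat_lit 0, nat_lit 0,
nat_lit 0x7893d19a21c8b951, nat_lit 0, nat_lit 0, nat_lit 0x1977fded7a2b12a, nat_lit 0, nat_lit 0,
nat_lit 0, nat_lit 0x5e76304b396a3ae3a70f604f, nat_lit 0, nat_lit 0, nat_lit 0, nat_lit 0,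
nat_lit 0, nat_lit 0, nat_lit 0, nat_lit 0, nat_lit 0, nat_lit 0x24c392bdc8e00e3e463c9a,
nat_lit 0, nat_lit 0, nat_lit 0, nat_lit 0, nat_lit 0, nat_lit 0,
nat_lit 0x178884d2f5, nat_lit 0, nat_lit 0, nat_lit 0xc2a809f5e4335da, nat_lit 0, nat_lit 0,
nat_lit 0x45a5f30246346bd13, nat_lit 0, nat_lit 0, nat_lit 0x191fff9ddbeb209, nat_lit 0, nat_lit 0,
nat_lit 0, nat_lit 0, nat_lit 0, nat_lit 0, nat_lit 0, nat_lit 0,
nat_lit 0x3c23994c759b6, nat_lit 0, nat_lit 0, nat_lit 0, nat_lit 0, nat_lit 0,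
nat_lit 0, nat_lit 0, nat_lit 0, nat_lit 0x24a5b63898737b7884, nat_lit 0, nat_lit 0,
nat_lit 0x507e64e834923, nat_lit 0, nat_lit 0, nat_lit 0x17d158cf6ef8248, nat_lit 0, nat_lit 0,
nat_lit 0, nat_lit 0xa341b6b71991e7bdb751c02251d, nat_lit 0, nat_lit 0, nat_lit 0, nat_lit 0,
nat_lit 0, nat_lit 0, nat_lit 0, nat_lit 0, nat_lit 0, nat_lit 0x60b7cf15c971c5b7fce,
nat_lit 0, nat_lit 0, nat_lit 0, nat_lit 0, nat_lit 0, nat_lit 0,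
nat_lit 0x1c55f0dc0f1c2c1b42068, nat_lit 0, nat_lit 0, nat_lit 0x6ca4fb8cfda32362b784, nat_lit 0, nat_lit 0,
nat_lit 0x8f73135a0f400afe67753e, nat_lit 0, nat_lit 0, nat_lit 0, nat_lit 0, nat_lit 0x19df3c2cbc92e18390561877d,
nat_lit 0, nat_lit 0, nat_lit 0, nat_lit 0, nat_lit 0, nat_lit 0,
nat_lit 0, nat_lit 0x1db9325ca70279a9a55d498104, nat_lit 0, nat_lit 0, nat_lit 0, nat_lit 0,
nat_lit 0, nat_lit 0, nat_lit 0, nat_lit 0x1f07625f09, nat_lit 0x701165a063d12b, nat_lit 0x2361d404dd276,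
nat_lit 0x2446c81bc71a5204b, nat_lit 0x95324a77c4a6f17c44d1fd9f3b, nat_lit 0x10b5dd6093bfb63b2a0a6e9df7f, nat_lit 0x2da564bd5f7c462142de, nat_lit 0x916232fd58b41d39430951d94, nat_lit 0xe71566064c129120bd9ec,
nat_lit 0xcd51011e, nat_lit 0x23698ea6dc2c7b91, nat_lit 0xa2871922c1a6daf53463ddb, nat_lit 0, nat_lit 0, nat_lit 0,
nat_lit 0, nat_lit 0, nat_lit 0, nat_lit 0x3bf1100b7a435, nat_lit 0x20c04775e49ca76e5910c, nat_lit 0x7adbfb56b3bddd3d,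
nat_lit 0, nat_lit 0, nat_lit 0, nat_lit 0, nat_lit 0, nat_lit 0,
nat_lit 0x4582161c428af, nat_lit 0x3899b065e10e0e8e, nat_lit 0x5341b526d289018f, nat_lit 0x137e7dd20e2929, nat_lit 0x1145282ae105406fbbaa9a5, nat_lit 0x51c7aa4a3acdf8ccf886c77db0,
nat_lit 0x32048698d86e1caea756, nat_lit 0x491d4bd18d7d36fdfcfda06, nat_lit 0x41e10469c7f0549703b94d9a03c, nat_lit 0, nat_lit 0, nat_lit 0,
nat_lit 0, nat_lit 0, nat_lit 0, nat_lit 0, nat_lit 0, nat_lit 0,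
nat_lit 0, nat_lit 0, nat_lit 0, nat_lit 0, nat_lit 0, nat_lit 0,
nat_lit 0, nat_lit 0, nat_lit 0, nat_lit 0x2d5de639fc, nat_lit 0x4a1b3a3e39a02, nat_lit 0x3a88255ad5d718,
nat_lit 0x27b6cc12ba75e6512a, nat_lit 0x11aadd0b878fa26f04d2584a0e3, nat_lit 0x81fbff9b44cc1b6001d368, nat_lit 0x90439d46656fa2e880, nat_lit 0x1ba9d6bca664dc3e0e5a13e934, nat_lit 0x751e33b316c4b0331bd5059493,
nat_lit 0, nat_lit 0, nat_lit 0, nat_lit 0, nat_lit 0, nat_lit 0,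
nat_lit 0, nat_lit 0, nat_lit 0, nat_lit 0, nat_lit 0, nat_lit 0,
nat_lit 0, nat_lit 0, nat_lit 0, nat_lit 0, nat_lit 0, nat_lit 0,
nat_lit 0xa8bc1f6bd164f12, nat_lit 0, nat_lit 0, nat_lit 0x25cf890708ef84, nat_lit 0, nat_lit 0,
nat_lit 0x59c039db3f6fd176e76, nat_lit 0, nat_lit 0, nat_lit 0x806ab7f01dfeb48d, nat_lit 0, nat_lit 0,
nat_lit 0, nat_lit 0, nat_lit 0, nat_lit 0, nat_lit 0, nat_lit 0,
nat_lit 0x146c2a5236b0f6282890d36, nat_lit 0, nat_lit 0, nat_lit 0, nat_lit 0, nat_lit 0,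
nat_lit 0, nat_lit 0, nat_lit 0, nat_lit 0x11f77f25e9134a5b06762, nat_lit 0, nat_lit 0,
nat_lit 0x41269f78a78c8799a, nat_lit 0, nat_lit 0, nat_lit 0x18904c750, nat_lit 0, nat_lit 0,
nat_lit 0, nat_lit 0, nat_lit 0x21f6e6d2e84e8aa64, nat_lit 0, nat_lit 0, nat_lit 0,
nat_lit 0, nat_lit 0, nat_lit 0, nat_lit 0, nat_lit 0x80479a26e78c70e40d9, nat_lit 0,
nat_lit 0, nat_lit 0, nat_lit 0, nat_lit 0, nat_lit 0, nat_lit 0,
nat_lit 0x1874f2aa2c225bf, nat_lit 0, nat_lit 0, nat_lit 0xb37c7d8c7436eb0c8, nat_lit 0, nat_lit 0,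
nat_lit 0x8b5625f92cae, nat_lit 0, nat_lit 0, nat_lit 0, nat_lit 0x8104967df95cc09c, nat_lit 0,
nat_lit 0, nat_lit 0, nat_lit 0, nat_lit 0, nat_lit 0, nat_lit 0,
nat_lit 0, nat_lit 0, nat_lit 0x345b2ece8e064f90400394e9, nat_lit 0, nat_lit 0, nat_lit 0,
nat_lit 0, nat_lit 0, nat_lit 0, nat_lit 0x98d57362, nat_lit 0, nat_lit 0,
nat_lit 0x131ad6fc642ce782d1, nat_lit 0, nat_lit 0, nat_lit 0xa2b452215012f424a444bdc, nat_lit 0, nat_lit 0,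
nat_lit 0xb30f43d3220f5b, nat_lit 0, nat_lit 0, nat_lit 0, nat_lit 0, nat_lit 0,
nat_lit 0, nat_lit 0, nat_lit 0, nat_lit 0x89173d5e, nat_lit 0, nat_lit 0,
nat_lit 0, nat_lit 0, nat_lit 0, nat_lit 0, nat_lit 0, nat_lit 0,
nat_lit 0x2796a77a7501e1, nat_lit 0, nat_lit 0, nat_lit 0xffdf8c16f4876c60d58662858, nat_lit 0, nat_lit 0,
nat_lit 0x21d61d1bcf8258, nat_lit 0, nat_lit 0, nat_lit 0, nat_lit 0x102bd3dfcfb320ebc3b5245d4, nat_lit 0,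
nat_lit 0, nat_lit 0, nat_lit 0, nat_lit 0, nat_lit 0, nat_lit 0,
nat_lit 0, nat_lit 0, nat_lit 0x469e6ef5f78a7a31b, nat_lit 0, nat_lit 0, nat_lit 0,
nat_lit 0, nat_lit 0, nat_lit 0, nat_lit 0x5b856e32ba591b55d8959448, nat_lit 0, nat_lit 0,
nat_lit 0x13b3502f9affd7d2fb, nat_lit 0, nat_lit 0, nat_lit 0x40d4c9140da369dc2, nat_lit 0, nat_lit 0,
nat_lit 0, nat_lit 0, nat_lit 0x743148ff1c7c554683f2, nat_lit 0, nat_lit 0, nat_lit 0,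
nat_lit 0, nat_lit 0, nat_lit 0, nat_lit 0, nat_lit 0x5df226525028f008a26f0e3e, nat_lit 0,
nat_lit 0, nat_lit 0, nat_lit 0, nat_lit 0, nat_lit 0, nat_lit 0,
nat_lit 0x258b65accc, nat_lit 0xb32170131fa7bf, nat_lit 0x7011a3b51cb696, nat_lit 0x19ad08b607f90a0c938f9, nat_lit 0x19b0728d58596866d572e90f5, nat_lit 0x369509f9bd3f7f371d594,
nat_lit 0x2446c81bc79dc16ac, nat_lit 0x50f46ed7dec0f752055d0a4c507, nat_lit 0x1f68a569d983fd4d159fa99af1, nat_lit 0x4f811616f4c2b, nat_lit 0xda567b18d8ac9ce, nat_lit 0x409e5764ff511e6e,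
nat_lit 0, nat_lit 0, nat_lit 0, nat_lit 0, nat_lit 0, nat_lit 0,
nat_lit 0xab09966848a0977, nat_lit 0x1b10966983e98bcd443a50, nat_lit 0xc832fb7f060b0d6, nat_lit 0, nat_lit 0, nat_lit 0,
nat_lit 0, nat_lit 0, nat_lit 0, nat_lit 0x3248b48d0a, nat_lit 0x16c439b0aca60ba, nat_lit 0x3a88e7111c0982,
nat_lit 0x3260723dc344b7b62564, nat_lit 0x17226b9a15c0342dbc8da9332, nat_lit 0x2e19fe43d5d0916f6deed171ecf, nat_lit 0x27b6cc12ba75e5a7a2, nat_lit 0x82e042a3846610a184d876c160, nat_lit 0x9b6e691864f9459778bfb6f,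
nat_lit 0, nat_lit 0, nat_lit 0, nat_lit 0, nat_lit 0, nat_lit 0,
nat_lit 0, nat_lit 0, nat_lit 0, nat_lit 0, nat_lit 0, nat_lit 0,
nat_lit 0, nat_lit 0, nat_lit 0, nat_lit 0, nat_lit 0, nat_lit 0,
nat_lit 0xa4a8af0a55f, nat_lit 0x5341b526d3671868, nat_lit 0x38ad150bdf9e25b0, nat_lit 0x58eb99f326b89aa6073, nat_lit 0x2920a07da0807faf9e344477, nat_lit 0x51f6ba23238f25cb70e4c197b4,
nat_lit 0xaf726c6280377f, nat_lit 0xe71555ead00f6561cd4b6, nat_lit 0xe5d0a1cb0f5001dac3b8f01e6, nat_lit 0, nat_lit 0, nat_lit 0,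
nat_lit 0, nat_lit 0, nat_lit 0, nat_lit 0, nat_lit 0, nat_lit 0,
nat_lit 0, nat_lit 0, nat_lit 0, nat_lit 0, nat_lit 0, nat_lit 0,
nat_lit 0, nat_lit 0, nat_lit 0, nat_lit 0xab416104005d619, nat_lit 0, nat_lit 0,
nat_lit 0x1db9a56c25e381ef565e37f3e5, nat_lit 0, nat_lit 0, nat_lit 0xe5a412879c41f4e, nat_lit 0, nat_lit 0,
nat_lit 0x523e2f372, nat_lit 0, nat_lit 0, nat_lit 0, nat_lit 0, nat_lit 0,
nat_lit 0, nat_lit 0, nat_lit 0, nat_lit 0x27379df92, nat_lit 0, nat_lit 0,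
nat_lit 0, nat_lit 0, nat_lit 0, nat_lit 0, nat_lit 0, nat_lit 0,
nat_lit 0x14b6e1bb4390523885ae64d, nat_lit 0, nat_lit 0, nat_lit 0xe34e2a0a7b129bc45b, nat_lit 0, nat_lit 0,
nat_lit 0xe269338406c3d9a, nat_lit 0, nat_lit 0, nat_lit 0, nat_lit 0, nat_lit 0x43bfda9c944d3001314aec9f,
nat_lit 0, nat_lit 0, nat_lit 0, nat_lit 0, nat_lit 0, nat_lit 0,
nat_lit 0, nat_lit 0x35264dbfaf367e34f5e4df1c82b18, nat_lit 0, nat_lit 0, nat_lit 0, nat_lit 0,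
nat_lit 0, nat_lit 0, nat_lit 0, nat_lit 0x40d4c84826a7f9e17, nat_lit 0, nat_lit 0,
nat_lit 0x4853729e4efd0, nat_lit 0, nat_lit 0, nat_lit 0x98e1f4c24e7fd5b2223ddad, nat_lit 0, nat_lit 0,
nat_lit 0, nat_lit 0x1090d9cf59a2f6d9c5439c14c9, nat_lit 0, nat_lit 0, nat_lit 0, nat_lit 0,
nat_lit 0, nat_lit 0, nat_lit 0, nat_lit 0, nat_lit 0, nat_lit 0x5081d526ed07d,
nat_lit 0, nat_lit 0, nat_lit 0, nat_lit 0, nat_lit 0, nat_lit 0,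
nat_lit 0x2c119f04872efb, nat_lit 0, nat_lit 0, nat_lit 0x13f16369a6491878b, nat_lit 0, nat_lit 0,
nat_lit 0x284bd756d721c5c358, nat_lit 0, nat_lit 0, nat_lit 0x11e991662154932a6e, nat_lit 0, nat_lit 0,
nat_lit 0, nat_lit 0, nat_lit 0, nat_lit 0, nat_lit 0, nat_lit 0,
nat_lit 0x485848ab8b6d44141, nat_lit 0, nat_lit 0, nat_lit 0, nat_lit 0, nat_lit 0,
nat_lit 0, nat_lit 0, nat_lit 0, nat_lit 0xc49d613ac614191, nat_lit 0, nat_lit 0,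
nat_lit 0x28de49e9126aab, nat_lit 0, nat_lit 0, nat_lit 0x63d34dd339e9a1401b3e, nat_lit 0, nat_lit 0,
nat_lit 0, nat_lit 0x14a5f3789d6471e101a, nat_lit 0, nat_lit 0, nat_lit 0, nat_lit 0,
nat_lit 0, nat_lit 0, nat_lit 0, nat_lit 0, nat_lit 0, nat_lit 0x37d67b66d82532a79993b8798,
nat_lit 0, nat_lit 0, nat_lit 0, nat_lit 0, nat_lit 0, nat_lit 0,
nat_lit 0x1fda5dee37db2de71aeb, nat_lit 0, nat_lit 0, nat_lit 0x2391e42dc721e39ad8, nat_lit 0, nat_lit 0,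
nat_lit 0x21568701dab260, nat_lit 0, nat_lit 0, nat_lit 0, nat_lit 0, nat_lit 0xb14d7520f95c8308e1,
nat_lit 0, nat_lit 0, nat_lit 0, nat_lit 0, nat_lit 0, nat_lit 0,
nat_lit 0, nat_lit 0x787184a495e90bc23531e9c, nat_lit 0, nat_lit 0, nat_lit 0, nat_lit 0,
nat_lit 0, nat_lit 0, nat_lit 0]

theorem len0 : cd0.length = 729 := by decide +kernel

theorem hC0 : allZ (chkN ap bsL ixL yW 7) cd0 (729 * 0) = true := by decide +kernel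

end Cfsg.Agent.TcChain36.O7C
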