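import Mathlib
import Cfsg.Agent.TcChain36.O7C.Tab

set_option autoImplicit false
set_option maxRecDepth 1000000
set_option linter.all false

namespace Cfsg.Agent.TcChain36.O7C

open Cfsg.Agent.Lib.OutTree36 Cfsg.Agent.Lib.PcClass36

set_option Elab.async false

/-- The certificates of a block. -/
def cd1 : List ℕ := [
nat_lit 0xc411839, nat_lit 0x491d4bd18d7d38ebc509b0a, nat_lit 0x1d734a542ea155b52b2a8261f, nat_lit 0x26df9a73a23d7347f8, nat_lit 0, nat_lit 0,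
nat_lit 0xff9464c158054c3f00d75, nat_lit 0, nat_lit 0, nat_lit 0x20eca122e46ef2a, nat_lit 0x10457f5b4d9ae47f6b19b78ef6a, nat_lit 0x4571433a51527288aca0261241a9,
nat_lit 0, nat_lit 0, nat_lit 0, nat_lit 0, nat_lit 0, nat_lit 0,
nat_lit 0x6de1e517669e99, nat_lit 0x1d80c023ba73206d83cf6c97b, nat_lit 0x2fab3299ec0a1900962735ad420ff, nat_lit 0, nat_lit 0, nat_lit 0,
nat_lit 0, nat_lit 0, nat_lit 0, nat_lit 0x491dbea63b7b652d8ef9212, nat_lit 0x1421e5f1a4973f67b097ca6, nat_lit 0x289b19f81bf83e0b2cba3cad102c,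
nat_lit 0x91799816d4a3bec4dc35095a8, nat_lit 0, nat_lit 0, nat_lit 0x48f8456a85697154b73bacb6be4, nat_lit 0, nat_lit 0,
nat_lit 0, nat_lit 0, nat_lit 0, nat_lit 0, nat_lit 0, nat_lit 0,
nat_lit 0, nat_lit 0, nat_lit 0, nat_lit 0, nat_lit 0, nat_lit 0,
nat_lit 0, nat_lit 0, nat_lit 0, nat_lit 0, nat_lit 0, nat_lit 0,
nat_lit 0xe8c19f599b62d2dc7e3513324, nat_lit 0x19ee8eb4c256fb0dbdb75d275ab0, nat_lit 0x3ae3853d0ac338d675b44a706, nat_lit 0x19a430f3a55da1414c7dc17f8d52ed, nat_lit 0, nat_lit 0,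
nat_lit 0x91b65ff06770cf464713a888c, nat_lit 0, nat_lit 0, nat_lit 0, nat_lit 0, nat_lit 0,
nat_lit 0, nat_lit 0, nat_lit 0, nat_lit 0, nat_lit 0, nat_lit 0,
nat_lit 0, nat_lit 0, nat_lit 0, nat_lit 0, nat_lit 0, nat_lit 0,
nat_lit 0, nat_lit 0, nat_lit 0, nat_lit 0x48a4082bf5c31, nat_lit 0, nat_lit 0,
nat_lit 0x1c564042bb07fd0bfc71d, nat_lit 0, nat_lit 0, nat_lit 0x484a5f87bacc9, nat_lit 0x5df234a0e33fa40cf066917f, nat_lit 0x675f9c2ee6cc19ed470,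
nat_lit 0x130743a8d70f6b5, nat_lit 0, nat_lit 0, nat_lit 0, nat_lit 0, nat_lit 0,
nat_lit 0, nat_lit 0, nat_lit 0, nat_lit 0x40f6dd01ca, nat_lit 0, nat_lit 0,
nat_lit 0, nat_lit 0, nat_lit 0, nat_lit 0, nat_lit 0, nat_lit 0,
nat_lit 0x116bf3549760f53f52c64531e88, nat_lit 0, nat_lit 0, nat_lit 0x9011ee2bab9fed4dec7a122b59f, nat_lit 0, nat_lit 0,
nat_lit 0x1f68a569d994ea1bebbc8b1d02, nat_lit 0xce9063aed02ccb78f68, nat_lit 0x2968f515bce44b9bdbc46e3e7170, nat_lit 0, nat_lit 0, nat_lit 0x14b083d3f5ccb83e644f336,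
nat_lit 0, nat_lit 0, nat_lit 0, nat_lit 0, nat_lit 0, nat_lit 0,
nat_lit 0, nat_lit 0x68de57a5562329f7717d42ef, nat_lit 0, nat_lit 0, nat_lit 0, nat_lit 0,
nat_lit 0, nat_lit 0, nat_lit 0, nat_lit 0x296cf61af1b7fe1b04639e7f489d, nat_lit 0, nat_lit 0,
nat_lit 0x371038a409b92a6c3b4d939a0, nat_lit 0, nat_lit 0, nat_lit 0x51f5523fb500c1a50493d36c60, nat_lit 0x501e5fd9bdd3c40ee05e1bd, nat_lit 0x6ebb91c1cdb42e112d9f,
nat_lit 0, nat_lit 0x34195f643f9f3, nat_lit 0, nat_lit 0, nat_lit 0, nat_lit 0,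
nat_lit 0, nat_lit 0, nat_lit 0, nat_lit 0, nat_lit 0, nat_lit 0x2491f8fe34aaa65ce92e0814d,
nat_lit 0, nat_lit 0, nat_lit 0, nat_lit 0, nat_lit 0, nat_lit 0,
nat_lit 0x2aee553770fcd1, nat_lit 0, nat_lit 0, nat_lit 0x13af0578e5d30e7796e, nat_lit 0, nat_lit 0,
nat_lit 0x896ad3065497, nat_lit 0x92717a35e0a0805df9c5d685ef0, nat_lit 0x491dbeb6042535946e2c82f, nat_lit 0x40f272b181, nat_lit 0, nat_lit 0,
nat_lit 0, nat_lit 0, nat_lit 0, nat_lit 0, nat_lit 0, nat_lit 0,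
nat_lit 0x1ce1e86, nat_lit 0, nat_lit 0, nat_lit 0, nat_lit 0, nat_lit 0,
nat_lit 0, nat_lit 0, nat_lit 0, nat_lit 0x5af7d858755e78d450989a, nat_lit 0, nat_lit 0,
nat_lit 0xb58dea811123cbf467e5b01ae2, nat_lit 0, nat_lit 0, nat_lit 0x50b0bae2a6a8cfd8d5151c8, nat_lit 0x9b6e69152140c030fd52324, nat_lit 0x491dbf71f8e0229992fbf4a,
nat_lit 0, nat_lit 0xce9081c6b25dd629ac9, nat_lit 0, nat_lit 0, nat_lit 0, nat_lit 0,
nat_lit 0, nat_lit 0, nat_lit 0, nat_lit 0, nat_lit 0, nat_lit 0xda74dff13303973,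
nat_lit 0, nat_lit 0, nat_lit 0, nat_lit 0, nat_lit 0, nat_lit 0,
nat_lit 0x661fce39650018e38efa50648fa, nat_lit 0, nat_lit 0, nat_lit 0x1c65d24e5c84cff003d87, nat_lit 0, nat_lit 0,
nat_lit 0x19da20204cb8f5c54c62ff55e, nat_lit 0x172244fd4dc4a221badb62b77, nat_lit 0x109518ece3139bbe595, nat_lit 0, nat_lit 0, nat_lit 0x5e5f0ac069fa9be51296a3cff8d4,
nat_lit 0, nat_lit 0, nat_lit 0, nat_lit 0, nat_lit 0, nat_lit 0,
nat_lit 0, nat_lit 0x4b3136ad0fab1fe22a25, nat_lit 0, nat_lit 0, nat_lit 0, nat_lit 0,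
nat_lit 0, nat_lit 0, nat_lit 0, nat_lit 0x64026c4a027b4ef, nat_lit 0xa729ddb0e37945eadc926ef, nat_lit 0x82de727bbf424339ce61fc8a3c,
nat_lit 0x1001fe047889bfdae1050b759c7, nat_lit 0, nat_lit 0, nat_lit 0x37106d03f5c54a9ccee8c8cac, nat_lit 0, nat_lit 0,
nat_lit 0x13c13eaf5e4013, nat_lit 0x163ead148b7d206, nat_lit 0x1ba84f8bc1b0bbf222f0ef3461, nat_lit 0, nat_lit 0, nat_lit 0,
nat_lit 0, nat_lit 0, nat_lit 0, nat_lit 0x36371255cebac031e, nat_lit 0x350061c59598e2007a526c7d0a118, nat_lit 0x16098dc52b9dd6b9930,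
nat_lit 0, nat_lit 0, nat_lit 0, nat_lit 0, nat_lit 0, nat_lit 0,
nat_lit 0x103075c4062663be4e4605953, nat_lit 0x55026479d355882e8c78f4250869, nat_lit 0x10bb29373c88a8ca379f95ffbac, nat_lit 0x466129bd49a44, nat_lit 0, nat_lit 0,
nat_lit 0x12a1316e7c12cd9d8863e4afcca, nat_lit 0, nat_lit 0, nat_lit 0, nat_lit 0, nat_lit 0,
nat_lit 0, nat_lit 0, nat_lit 0, nat_lit 0, nat_lit 0, nat_lit 0,
nat_lit 0, nat_lit 0, nat_lit 0, nat_lit 0, nat_lit 0, nat_lit 0,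
nat_lit 0, nat_lit 0, nat_lit 0, nat_lit 0x17226737875fc81b58a3234a7, nat_lit 0x476fe587271848c37, nat_lit 0x63bb91e28c4409b4fb7,
nat_lit 0xde79fff31ef, nat_lit 0, nat_lit 0, nat_lit 0x1ef8f5c43888aaab45245deae8, nat_lit 0, nat_lit 0,
nat_lit 0, nat_lit 0, nat_lit 0, nat_lit 0, nat_lit 0, nat_lit 0,
nat_lit 0, nat_lit 0, nat_lit 0, nat_lit 0, nat_lit 0, nat_lit 0,
nat_lit 0, nat_lit 0, nat_lit 0, nat_lit 0, nat_lit 0, nat_lit 0,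
nat_lit 0x639c58a5968209a, nat_lit 0, nat_lit 0, nat_lit 0x3ae1015d2df01d0c42bbd25f1, nat_lit 0, nat_lit 0,
nat_lit 0x492776347f789182752b406bd3a, nat_lit 0x7d44c062f2fcb11fac5d34fa258, nat_lit 0x751d7d4259b3702e0b622076b8, nat_lit 0x28b1a8e0eeaa7574d2, nat_lit 0, nat_lit 0,
nat_lit 0, nat_lit 0, nat_lit 0, nat_lit 0, nat_lit 0, nat_lit 0,
nat_lit 0x7723194a853, nat_lit 0, nat_lit 0, nat_lit 0, nat_lit 0, nat_lit 0,
nat_lit 0, nat_lit 0, nat_lit 0, nat_lit 0x3971e11b5ab16ee7776ca44db322, nat_lit 0, nat_lit 0,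
nat_lit 0x12841612fc1c34236857ae3, nat_lit 0, nat_lit 0, nat_lit 0x22a7fc2000880, nat_lit 0x1eb3d5a0d1f21bf2c29946, nat_lit 0x10275b1ad43ac210451fed085,
nat_lit 0, nat_lit 0, nat_lit 0x5e076549d27ce762032aab00, nat_lit 0, nat_lit 0, nat_lit 0,
nat_lit 0, nat_lit 0, nat_lit 0, nat_lit 0, nat_lit 0x211fffc59dabb336105f33b229, nat_lit 0,
nat_lit 0, nat_lit 0, nat_lit 0, nat_lit 0, nat_lit 0, nat_lit 0,
nat_lit 0x2718b9af75b704cebf, nat_lit 0, nat_lit 0, nat_lit 0x10a72f60304746a38b5f6be3027, nat_lit 0, nat_lit 0,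
nat_lit 0x11bc3d7536d973573d2c2a2, nat_lit 0xc4dbadca514051e32d2, nat_lit 0x2896759be166825fc7186, nat_lit 0, nat_lit 0x3667647c414ffac83649, nat_lit 0,
nat_lit 0, nat_lit 0, nat_lit 0, nat_lit 0, nat_lit 0, nat_lit 0,
nat_lit 0, nat_lit 0, nat_lit 0x3473a598e96af36663ffd742, nat_lit 0, nat_lit 0, nat_lit 0,
nat_lit 0, nat_lit 0, nat_lit 0, nat_lit 0x1984020f1170d78, nat_lit 0, nat_lit 0,
nat_lit 0x142c368f54871bf1a0b35c81f8, nat_lit 0, nat_lit 0, nat_lit 0x2d7cd92ea93a7161f2a5eab6, nat_lit 0x51f51ead10e0557bbf40bc0ba3, nat_lit 0x10afcdeccfd159598722,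
nat_lit 0x128389f90382d011, nat_lit 0, nat_lit 0, nat_lit 0, nat_lit 0, nat_lit 0,
nat_lit 0, nat_lit 0, nat_lit 0, nat_lit 0x2e42fa7902, nat_lit 0, nat_lit 0,
nat_lit 0, nat_lit 0, nat_lit 0, nat_lit 0, nat_lit 0, nat_lit 0,
nat_lit 0x4da1910, nat_lit 0, nat_lit 0, nat_lit 0xe5c9d0a3aea79dac613d1e87b, nat_lit 0, nat_lit 0,
nat_lit 0x751e3678889764f174c537a66b, nat_lit 0x16f39ca4a1f322196b9, nat_lit 0x37814db3020ed76023753, nat_lit 0, nat_lit 0x2ded430778180e8ba1b287d6, nat_lit 0,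
nat_lit 0, nat_lit 0, nat_lit 0, nat_lit 0, nat_lit 0, nat_lit 0,
nat_lit 0, nat_lit 0, nat_lit 0x35227b2a504bc11ead41a51a4, nat_lit 0, nat_lit 0, nat_lit 0,
nat_lit 0, nat_lit 0, nat_lit 0, nat_lit 0x149197051e860139aea0732919, nat_lit 0, nat_lit 0,
nat_lit 0x4990dc2e0d58d738da6769fd906, nat_lit 0, nat_lit 0, nat_lit 0x63f523938d7, nat_lit 0x501e5fd9b1ba9c1b40f8a15, nat_lit 0xf8f88b37a33d8908f0db42dc2a,
nat_lit 0, nat_lit 0, nat_lit 0x112778b88642316d69b, nat_lit 0, nat_lit 0, nat_lit 0,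
nat_lit 0, nat_lit 0, nat_lit 0, nat_lit 0, nat_lit 0xd97aed3087fc727, nat_lit 0,
nat_lit 0, nat_lit 0, nat_lit 0, nat_lit 0, nat_lit 0, nat_lit 0,
nat_lit 0x1c7f223a26ffedecc, nat_lit 0x10307561eadd6bd7be4d25a09, nat_lit 0x9517a84a2c13da8b0e6f0e0ff3, nat_lit 0x50f46ed7dec0f75c40d748f15be, nat_lit 0, nat_lit 0,
nat_lit 0xe6480b7c38e9685e1ae7f3c7c, nat_lit 0, nat_lit 0, nat_lit 0x147243b3c525f45bf1, nat_lit 0x8e6ee349c35a456104305c, nat_lit 0x64855a7f898592acb90f3bd3,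
nat_lit 0, nat_lit 0, nat_lit 0, nat_lit 0, nat_lit 0, nat_lit 0,
nat_lit 0xb2b4bb3e07eb1d66a7191e6, nat_lit 0x147243b3c525f45d95, nat_lit 0xe5c9c80f7049d095cea5a50d9, nat_lit 0, nat_lit 0, nat_lit 0,
nat_lit 0, nat_lit 0, nat_lit 0, nat_lit 0x1cb7be385d2bb78e347628c0, nat_lit 0x312def68b694695130ba13b76, nat_lit 0x20fcf1dae2b86fbf2cda2d,
nat_lit 0x20239e72097f00d18270d5, nat_lit 0, nat_lit 0, nat_lit 0x682279052883173cdfd2a68c51d, nat_lit 0, nat_lit 0,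
nat_lit 0, nat_lit 0, nat_lit 0, nat_lit 0, nat_lit 0, nat_lit 0,
nat_lit 0, nat_lit 0, nat_lit 0, nat_lit 0, nat_lit 0, nat_lit 0,
nat_lit 0, nat_lit 0, nat_lit 0, nat_lit 0, nat_lit 0, nat_lit 0,
nat_lit 0x751e33b319d7dc956e79107509, nat_lit 0xda9b70539fcd8cd7b1, nat_lit 0x2874ab9145d88194d7bc1, nat_lit 0x23743ef4b5d74ee0, nat_lit 0, nat_lit 0,
nat_lit 0x4990d984b3088c9e84ca30360c9, nat_lit 0, nat_lit 0, nat_lit 0, nat_lit 0, nat_lit 0,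
nat_lit 0, nat_lit 0, nat_lit 0, nat_lit 0, nat_lit 0, nat_lit 0,
nat_lit 0, nat_lit 0, nat_lit 0, nat_lit 0, nat_lit 0, nat_lit 0,
nat_lit 0, nat_lit 0, nat_lit 0, nat_lit 0xba6def956012e3fcb321d0a, nat_lit 0, nat_lit 0,
nat_lit 0x8696a1a41778d87299c51ded9a9a42, nat_lit 0, nat_lit 0, nat_lit 0x5de3d96268aa145cbd0d097c, nat_lit 0x1136c1f2e2f608c1fe3a51, nat_lit 0x2f2c7c3f7a08ceb1ae68d380e96d,
nat_lit 0x59b119e10553867, nat_lit 0, nat_lit 0, nat_lit 0, nat_lit 0, nat_lit 0,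
nat_lit 0, nat_lit 0, nat_lit 0, nat_lit 0x20ece47768a61c4, nat_lit 0, nat_lit 0,
nat_lit 0, nat_lit 0, nat_lit 0, nat_lit 0, nat_lit 0, nat_lit 0,
nat_lit 0x38ca63b970c560078fc, nat_lit 0, nat_lit 0, nat_lit 0x91799816d4a3bec4dc34c3524, nat_lit 0, nat_lit 0,
nat_lit 0x491dbb005e3f448d4bfa451, nat_lit 0x111f9ed2c8c8f23c1f1, nat_lit 0x73e15175c5d6417a10f0, nat_lit 0, nat_lit 0, nat_lit 0x34d8358e4d170841d181625db,
nat_lit 0, nat_lit 0, nat_lit 0, nat_lit 0, nat_lit 0, nat_lit 0,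
nat_lit 0, nat_lit 0x11bf9e69444744acebe9a8, nat_lit 0, nat_lit 0, nat_lit 0, nat_lit 0,
nat_lit 0, nat_lit 0, nat_lit 0, nat_lit 0x9b6e69183316c7c272df731, nat_lit 0, nat_lit 0,
nat_lit 0x51f832ab5c25556727280fb7cf, nat_lit 0, nat_lit 0, nat_lit 0x2da562ff40310e49137b, nat_lit 0xe5c9c80f778fb9d4f92592bfe, nat_lit 0x3467280f0bfbbe6393819229,
nat_lit 0, nat_lit 0x19d9c443fda1891c4d221db4e, nat_lit 0, nat_lit 0, nat_lit 0, nat_lit 0,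
nat_lit 0, nat_lit 0, nat_lit 0, nat_lit 0, nat_lit 0, nat_lit 0x328f2a204e22b7693d20,
nat_lit 0, nat_lit 0, nat_lit 0, nat_lit 0, nat_lit 0, nat_lit 0,
nat_lit 0x38caafab85e004b00c1, nat_lit 0, nat_lit 0, nat_lit 0x37106d03f5c604d473e47cc19, nat_lit 0, nat_lit 0,
nat_lit 0x2d8b17700347efe36a061aba0980, nat_lit 0xf08109957591c23e81f8861, nat_lit 0x245b165dc7babc49b19f4a5c8, nat_lit 0x5dbc2f21cd30c4bab, nat_lit 0, nat_lit 0,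
nat_lit 0, nat_lit 0, nat_lit 0, nat_lit 0, nat_lit 0, nat_lit 0,
nat_lit 0x2d29e3d4368aaf, nat_lit 0, nat_lit 0, nat_lit 0, nat_lit 0, nat_lit 0,
nat_lit 0, nat_lit 0, nat_lit 0, nat_lit 0x2e00122227f2f474bd8cf50aa82, nat_lit 0, nat_lit 0,
nat_lit 0x51f554194f01160e271c6eb915, nat_lit 0, nat_lit 0, nat_lit 0x6108f54895dd41e8ec84, nat_lit 0xd035c86ac22849b12e09bf71c, nat_lit 0x19ee9f06284551ce0f180d3963d8,
nat_lit 0, nat_lit 0x211fffc59dacf9d0e225dfbd55, nat_lit 0, nat_lit 0, nat_lit 0, nat_lit 0,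
nat_lit 0, nat_lit 0, nat_lit 0, nat_lit 0, nat_lit 0, nat_lit 0x2920bab6f985be090bd816d8,
nat_lit 0, nat_lit 0, nat_lit 0, nat_lit 0, nat_lit 0, nat_lit 0,
nat_lit 0x337b0dfc8a55a0d5d733e23ec, nat_lit 0, nat_lit 0, nat_lit 0x2e628acd1d718e384a46c169c9ecb, nat_lit 0, nat_lit 0,
nat_lit 0x332a8a523faef903d18dabc, nat_lit 0xb3465840ab1b88660, nat_lit 0x6c857d649c06f77f4713b9cee13, nat_lit 0, nat_lit 0, nat_lit 0x7fdc31de289f62443b2,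
nat_lit 0, nat_lit 0, nat_lit 0, nat_lit 0, nat_lit 0, nat_lit 0,
nat_lit 0, nat_lit 0x166931c080bd5840817, nat_lit 0, nat_lit 0, nat_lit 0, nat_lit 0,
nat_lit 0, nat_lit 0, nat_lit 0]

theorem len1 : cd1.length = 729 := by decide +kernel

theorem hC1 : allZ (chkN ap bsL ixL yW 7) cd1 (729 * 1) = true := by decide +kernel

end Cfsg.Agent.TcChain36.O7C
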