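import Mathlib
import Cfsg.Agent.TcChain36.O7C.Tab

set_option autoImplicit false
set_option maxRecDepth 1000000
set_option linter.all false

namespace Cfsg.Agent.TcChain36.O7C

open Cfsg.Agent.Lib.OutTree36 Cfsg.Agent.Lib.PcClass36

set_option Elab.async false

/-- The certificates of a block. -/
def cd11 : List ℕ := [
nat_lit 0x77229d7794a, nat_lit 0xd035b71f33f128ed16d03581e, nat_lit 0x1ba9d6aeadec425648f37c874c, nat_lit 0xb177a6f3a7974e2b950, nat_lit 0, nat_lit 0,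
nat_lit 0x2d29e3d437f5b9, nat_lit 0, nat_lit 0, nat_lit 0x13f0122bbfe5064b0, nat_lit 0x8d82534, nat_lit 0x270fb5c7d334cb7cd44a723bba304,
nat_lit 0, nat_lit 0, nat_lit 0, nat_lit 0, nat_lit 0, nat_lit 0,
nat_lit 0x20fd4dc8697407aa0d8bdb, nat_lit 0x147243b3c525f45b2d, nat_lit 0x576e1b70c3b4f79571a0f089, nat_lit 0, nat_lit 0, nat_lit 0,
nat_lit 0, nat_lit 0, nat_lit 0, nat_lit 0x34747f63244c22823b082308, nat_lit 0xa6a4ac657ab8881b26d0578, nat_lit 0xa729979faf16f0ae3e84be8,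
nat_lit 0x61e37227f0999d1cac765bb5, nat_lit 0, nat_lit 0, nat_lit 0x28e54712b0f3b9507c77aeaff035, nat_lit 0, nat_lit 0,
nat_lit 0, nat_lit 0, nat_lit 0, nat_lit 0, nat_lit 0, nat_lit 0,
nat_lit 0, nat_lit 0, nat_lit 0, nat_lit 0, nat_lit 0, nat_lit 0,
nat_lit 0, nat_lit 0, nat_lit 0, nat_lit 0, nat_lit 0, nat_lit 0,
nat_lit 0xe8a7e663eaadd20049ee7faf2, nat_lit 0x128bd277b8560abf1909e3a, nat_lit 0x202535c5dfb241bfee976a, nat_lit 0x290ba70beaff7a5f684ece546f71, nat_lit 0, nat_lit 0,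
nat_lit 0xe5c9d0a3aea79dac613caaaa7, nat_lit 0, nat_lit 0, nat_lit 0, nat_lit 0, nat_lit 0,
nat_lit 0, nat_lit 0, nat_lit 0, nat_lit 0, nat_lit 0, nat_lit 0,
nat_lit 0, nat_lit 0, nat_lit 0, nat_lit 0, nat_lit 0, nat_lit 0,
nat_lit 0, nat_lit 0, nat_lit 0, nat_lit 0x10afff09fa9341608ac4, nat_lit 0, nat_lit 0,
nat_lit 0x8879b2d30e9e14f, nat_lit 0x88fbeb5d95c8e52c1769de3, nat_lit 0x19ad07af941b980854e49, nat_lit 0x5a1045b949d250b, nat_lit 0, nat_lit 0,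
nat_lit 0x13e91b79bd9a3ed9b, nat_lit 0, nat_lit 0, nat_lit 0, nat_lit 0, nat_lit 0,
nat_lit 0, nat_lit 0, nat_lit 0, nat_lit 0x482846affba2f2566797, nat_lit 0, nat_lit 0,
nat_lit 0, nat_lit 0, nat_lit 0, nat_lit 0, nat_lit 0, nat_lit 0,
nat_lit 0xcf0b03ad7e0df784a41e2d168813e, nat_lit 0, nat_lit 0, nat_lit 0x23dcd30d7a883dffc29ca8b09, nat_lit 0x34d02a475adc52de0e3cee11a, nat_lit 0x4cb3514094811,
nat_lit 0x1987eb21b6d9678fb91d5436f, nat_lit 0, nat_lit 0, nat_lit 0, nat_lit 0, nat_lit 0x2c2973fb24935b0b7,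
nat_lit 0, nat_lit 0, nat_lit 0, nat_lit 0, nat_lit 0, nat_lit 0,
nat_lit 0, nat_lit 0x5e2f4f2139aafd934e19b23b, nat_lit 0, nat_lit 0, nat_lit 0, nat_lit 0,
nat_lit 0, nat_lit 0, nat_lit 0, nat_lit 0xa1b89d0f098d97aa35810, nat_lit 0, nat_lit 0,
nat_lit 0x8f74aaad4630d73a7999f0, nat_lit 0xe40ce029ca55366e2c, nat_lit 0xd035b13e614171a3ff1602b32, nat_lit 0x661fd3e899a422b97c2c80881b5, nat_lit 0, nat_lit 0,
nat_lit 0, nat_lit 0x2d2a1f37883e24, nat_lit 0, nat_lit 0, nat_lit 0, nat_lit 0,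
nat_lit 0, nat_lit 0, nat_lit 0, nat_lit 0, nat_lit 0, nat_lit 0x68db03341d10e7d5b13167ee,
nat_lit 0, nat_lit 0, nat_lit 0, nat_lit 0, nat_lit 0, nat_lit 0,
nat_lit 0x50d053b3f7d79f2b0fd, nat_lit 0, nat_lit 0, nat_lit 0xb2b8d6451ab3cd, nat_lit 0x8c0bce94d8ce7697e22bda89733, nat_lit 0x2920bb466254ee237e1e53f6,
nat_lit 0x162193a1e9fcf, nat_lit 0, nat_lit 0, nat_lit 0x284c374108f94, nat_lit 0, nat_lit 0,
nat_lit 0, nat_lit 0, nat_lit 0, nat_lit 0, nat_lit 0, nat_lit 0,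
nat_lit 0x43bfda9c9453169d3dac5d86, nat_lit 0, nat_lit 0, nat_lit 0, nat_lit 0, nat_lit 0,
nat_lit 0, nat_lit 0, nat_lit 0, nat_lit 0x23dcd2c5eb9adc583a2277c39, nat_lit 0, nat_lit 0,
nat_lit 0x24e7673268cff23bab174af41357, nat_lit 0x3b95cc0f8590f34d8, nat_lit 0x9a62d33659b1f671403, nat_lit 0x1029f4745083f8c08a3ebb898, nat_lit 0, nat_lit 0,
nat_lit 0, nat_lit 0x2d63e84ee830b93fa67962f9, nat_lit 0, nat_lit 0, nat_lit 0, nat_lit 0,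
nat_lit 0, nat_lit 0, nat_lit 0, nat_lit 0, nat_lit 0, nat_lit 0x51c7aa4a3acdf8ccf886c8096b,
nat_lit 0, nat_lit 0, nat_lit 0, nat_lit 0, nat_lit 0, nat_lit 0,
nat_lit 0x1ef8f5c43888aaab452456ad14, nat_lit 0, nat_lit 0, nat_lit 0x37d67b66d8071752de504b577, nat_lit 0x8b1ab627ee3f5a950f37a11, nat_lit 0x1284181e405c421d0f76f93,
nat_lit 0x48b4db03f55332b1ae30469ebf2, nat_lit 0, nat_lit 0, nat_lit 0, nat_lit 0, nat_lit 0xac08c9b3cddbdd2e5d30e7,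
nat_lit 0, nat_lit 0, nat_lit 0, nat_lit 0, nat_lit 0, nat_lit 0,
nat_lit 0, nat_lit 0x24d0df00e97c815d36, nat_lit 0, nat_lit 0, nat_lit 0, nat_lit 0,
nat_lit 0, nat_lit 0, nat_lit 0, nat_lit 0x19ad0901d661696989ef7, nat_lit 0x19b0728d583bfd82887679499, nat_lit 0x1145282aaf22c29ab5c8f40,
nat_lit 0x61e450070a424bc16fd75368, nat_lit 0, nat_lit 0, nat_lit 0x6344699a63d052847d970824, nat_lit 0, nat_lit 0,
nat_lit 0x1da88ae88553e5eb9ff, nat_lit 0x5d42ce76daa4060885bbe72, nat_lit 0x32f238611f1be22ae250a281b438d, nat_lit 0, nat_lit 0, nat_lit 0,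
nat_lit 0, nat_lit 0, nat_lit 0, nat_lit 0x7590f92a5137, nat_lit 0xe733bf6d6ec60f661d87bad0e, nat_lit 0xda60b8a8d02d20b,
nat_lit 0, nat_lit 0, nat_lit 0, nat_lit 0, nat_lit 0, nat_lit 0,
nat_lit 0x50f7461e0c221d1cf1c8abe8f79, nat_lit 0xe8ab2122b28bd868ea1c08115, nat_lit 0x250e9150ea85c51c1d246e57e120, nat_lit 0x103e3f15a97abb885e3fd9278b8, nat_lit 0, nat_lit 0,
nat_lit 0xc12605248f15834f64c, nat_lit 0, nat_lit 0, nat_lit 0, nat_lit 0, nat_lit 0,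
nat_lit 0, nat_lit 0, nat_lit 0, nat_lit 0, nat_lit 0, nat_lit 0,
nat_lit 0, nat_lit 0, nat_lit 0, nat_lit 0, nat_lit 0, nat_lit 0,
nat_lit 0, nat_lit 0, nat_lit 0, nat_lit 0x34d7eabbb4e01c6a5d03cf2fb, nat_lit 0x35669f0e9ded650f2, nat_lit 0x1cc7dafaa809c64cc2939dd8,
nat_lit 0x682279052883173cdfd2a696058, nat_lit 0, nat_lit 0, nat_lit 0x14b6e1bb4390523885ae50b, nat_lit 0, nat_lit 0,
nat_lit 0, nat_lit 0, nat_lit 0, nat_lit 0, nat_lit 0, nat_lit 0,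
nat_lit 0, nat_lit 0, nat_lit 0, nat_lit 0, nat_lit 0, nat_lit 0,
nat_lit 0, nat_lit 0, nat_lit 0, nat_lit 0, nat_lit 0, nat_lit 0,
nat_lit 0x1ff1d84d6aeb7b948ad6, nat_lit 0, nat_lit 0, nat_lit 0x820d43eb8d481f20d04ce4639c, nat_lit 0xdeb31d2c0417a6e380e387b81c, nat_lit 0x41e096755274ef19e667323b24d,
nat_lit 0x37106d03f5c604d473e47d28d, nat_lit 0, nat_lit 0, nat_lit 0xdc1f71ce4caab84, nat_lit 0, nat_lit 0,
nat_lit 0, nat_lit 0, nat_lit 0, nat_lit 0, nat_lit 0, nat_lit 0,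
nat_lit 0x140afee0c538b7179d0, nat_lit 0, nat_lit 0, nat_lit 0, nat_lit 0, nat_lit 0,
nat_lit 0, nat_lit 0, nat_lit 0, nat_lit 0x3922e0cabb8c733b928f7, nat_lit 0, nat_lit 0,
nat_lit 0x1db9a29895fb3b6d7e1a18fb0e, nat_lit 0x47b6469fe476, nat_lit 0x245b165dc7babc49ad43a1fb0, nat_lit 0x544e5fd6f499105dc411d5ef7690, nat_lit 0, nat_lit 0,
nat_lit 0, nat_lit 0, nat_lit 0x12796c0c0d14dfdc2a84101b49c960, nat_lit 0, nat_lit 0, nat_lit 0,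
nat_lit 0, nat_lit 0, nat_lit 0, nat_lit 0, nat_lit 0x56d11e62f4ee3198f0e1, nat_lit 0,
nat_lit 0, nat_lit 0, nat_lit 0, nat_lit 0, nat_lit 0, nat_lit 0,
nat_lit 0x512608917b2c5ef7ed2, nat_lit 0, nat_lit 0, nat_lit 0xa187958ce245fa82e8a51, nat_lit 0x834b08ca11b54634365a47, nat_lit 0x41e0fea3c7d6ab0d5eb8b7214d4,
nat_lit 0x1029f4745083f58ac01dce62a, nat_lit 0, nat_lit 0, nat_lit 0, nat_lit 0x1536caf858cede06e2, nat_lit 0,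
nat_lit 0, nat_lit 0, nat_lit 0, nat_lit 0, nat_lit 0, nat_lit 0,
nat_lit 0, nat_lit 0, nat_lit 0xe59de20b80790f1, nat_lit 0, nat_lit 0, nat_lit 0,
nat_lit 0, nat_lit 0, nat_lit 0, nat_lit 0x34ba22dc6061f9ab9fcbbbde1, nat_lit 0, nat_lit 0,
nat_lit 0x1f95dba6655fcb9c709cdc, nat_lit 0x1090d9cf5cf2fe706360a85793, nat_lit 0x24a36e1e90608e706d, nat_lit 0x12a9fb894355ec5615936383483, nat_lit 0, nat_lit 0,
nat_lit 0x64bbb478909f989202, nat_lit 0, nat_lit 0, nat_lit 0, nat_lit 0, nat_lit 0,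
nat_lit 0, nat_lit 0, nat_lit 0, nat_lit 0x24864602960, nat_lit 0, nat_lit 0,
nat_lit 0, nat_lit 0, nat_lit 0, nat_lit 0, nat_lit 0, nat_lit 0,
nat_lit 0x9b6e69183316c7c272d5bf6, nat_lit 0, nat_lit 0, nat_lit 0xac81b40e18ec1a1bd57, nat_lit 0xb2b33fd708bfa2f60ad7010, nat_lit 0x8c0bcec12fec9fe8357d2c8270a,
nat_lit 0x1cc8efbaf25b11af70505d94, nat_lit 0, nat_lit 0, nat_lit 0, nat_lit 0x96ddb10dc40e5c6096e0f6191ab, nat_lit 0,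
nat_lit 0, nat_lit 0, nat_lit 0, nat_lit 0, nat_lit 0, nat_lit 0,
nat_lit 0, nat_lit 0, nat_lit 0x128bd27240ebdddadc5104b, nat_lit 0, nat_lit 0, nat_lit 0,
nat_lit 0, nat_lit 0, nat_lit 0, nat_lit 0x64f60746d9d21a12d7, nat_lit 0, nat_lit 0,
nat_lit 0xd035a0f3c25e08f61db93694b, nat_lit 0x26e2b3198575704538, nat_lit 0x369509f8d44c75054563c, nat_lit 0xa2bc4517cee3ad60e592c39, nat_lit 0, nat_lit 0,
nat_lit 0, nat_lit 0, nat_lit 0x21fb6a3f5b61b06b1bdc7, nat_lit 0, nat_lit 0, nat_lit 0,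
nat_lit 0, nat_lit 0, nat_lit 0, nat_lit 0, nat_lit 0x3aeaa76696d816b4f827bb997, nat_lit 0,
nat_lit 0, nat_lit 0, nat_lit 0, nat_lit 0, nat_lit 0, nat_lit 0,
nat_lit 0x469e5cc159d6a1a67, nat_lit 0x2df592a6b907715e334eb3cc, nat_lit 0x751e3c160b624fcb3dabf7dca9, nat_lit 0x9fe6a7e119d1f7bc830ae2a, nat_lit 0, nat_lit 0,
nat_lit 0x1c564151a268765db7a79, nat_lit 0, nat_lit 0, nat_lit 0xb802e6de9b0e009044, nat_lit 0x820d43eb8f435a77c4c7d73de1, nat_lit 0x1eb2238ec8d3a730ddd64f,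
nat_lit 0, nat_lit 0, nat_lit 0, nat_lit 0, nat_lit 0, nat_lit 0,
nat_lit 0x32ff7d6c7d809c23cd6a, nat_lit 0x201adce3d9d7ab1f134d17, nat_lit 0x5e1333e4da92441034ab96cd1b97, nat_lit 0, nat_lit 0, nat_lit 0,
nat_lit 0, nat_lit 0, nat_lit 0, nat_lit 0x41e096755274e72599d9efaab1b, nat_lit 0x12a97ac1f66a023e15710eebef5, nat_lit 0x2c4fbc5d188034bd79475e5c9817d,
nat_lit 0x396d8def813b12bd129509df1f88, nat_lit 0, nat_lit 0, nat_lit 0x2b7a92f5a3f343, nat_lit 0, nat_lit 0,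
nat_lit 0, nat_lit 0, nat_lit 0, nat_lit 0, nat_lit 0, nat_lit 0,
nat_lit 0, nat_lit 0, nat_lit 0, nat_lit 0, nat_lit 0, nat_lit 0,
nat_lit 0, nat_lit 0, nat_lit 0, nat_lit 0, nat_lit 0, nat_lit 0,
nat_lit 0x1cc7edce43d26c12257564b0, nat_lit 0x26964240fbbe, nat_lit 0x3ae3853d143f7564e0d3ee22f, nat_lit 0x3ae1015d2fa3b940e4c9eeac0, nat_lit 0, nat_lit 0,
nat_lit 0x466129bd47553, nat_lit 0, nat_lit 0, nat_lit 0, nat_lit 0, nat_lit 0,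
nat_lit 0, nat_lit 0, nat_lit 0, nat_lit 0, nat_lit 0, nat_lit 0,
nat_lit 0, nat_lit 0, nat_lit 0, nat_lit 0, nat_lit 0, nat_lit 0,
nat_lit 0, nat_lit 0, nat_lit 0, nat_lit 0x21f6d387ce88b7f79, nat_lit 0, nat_lit 0,
nat_lit 0x2df58e724f83b8fb5a3c8197, nat_lit 0x9aecdec90f5edf94a9a7a5, nat_lit 0xf8f88d260e99eb009de7dc4fca, nat_lit 0x296cf61af1b7fe1b04639e7e691c, nat_lit 0, nat_lit 0,
nat_lit 0x356385f11a37fe9d8, nat_lit 0, nat_lit 0, nat_lit 0, nat_lit 0, nat_lit 0,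
nat_lit 0, nat_lit 0, nat_lit 0, nat_lit 0x14988e259cef7290152, nat_lit 0, nat_lit 0,
nat_lit 0, nat_lit 0, nat_lit 0, nat_lit 0, nat_lit 0, nat_lit 0,
nat_lit 0x4101dd4c3a8b13acd292e3a4, nat_lit 0, nat_lit 0, nat_lit 0x231a0c642, nat_lit 0x576e1bc232c960db14efecfc, nat_lit 0x48d084bc3455382d230ea76,
nat_lit 0x34d7eabbb4eb50e397a4c6ed6, nat_lit 0, nat_lit 0, nat_lit 0, nat_lit 0, nat_lit 0x14b570b92f2ad9ba2b5af6c,
nat_lit 0, nat_lit 0, nat_lit 0, nat_lit 0, nat_lit 0, nat_lit 0,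
nat_lit 0, nat_lit 0x953f2e76706b1de11b9d37ef83, nat_lit 0, nat_lit 0, nat_lit 0, nat_lit 0,
nat_lit 0, nat_lit 0, nat_lit 0, nat_lit 0x147124151a30926cb5, nat_lit 0, nat_lit 0,
nat_lit 0x41e0fd14be896c140e241935a0f, nat_lit 0xf6d9b712f9d1e3bb84c601, nat_lit 0xc4cbfde96d7aecfc4ed, nat_lit 0x9fe5b3cb5fd6adcf007ac9a, nat_lit 0, nat_lit 0,
nat_lit 0, nat_lit 0xcc09427c810328, nat_lit 0, nat_lit 0, nat_lit 0, nat_lit 0,
nat_lit 0, nat_lit 0, nat_lit 0, nat_lit 0, nat_lit 0, nat_lit 0xfd36e967547a06a84ee45,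
nat_lit 0, nat_lit 0, nat_lit 0, nat_lit 0, nat_lit 0, nat_lit 0,
nat_lit 0xb115f2ed7ee2a0, nat_lit 0, nat_lit 0, nat_lit 0x2926327d874859924fbf445fd779, nat_lit 0x20ead58b1d15cade543a26, nat_lit 0x410381c271d9c63f70ce8e97,
nat_lit 0xba1623ea7194e6de0ef5f85, nat_lit 0, nat_lit 0, nat_lit 0xb49d190fcbb9d9128c6, nat_lit 0, nat_lit 0,
nat_lit 0, nat_lit 0, nat_lit 0, nat_lit 0, nat_lit 0, nat_lit 0,
nat_lit 0x16e3eefe471d928a944, nat_lit 0, nat_lit 0, nat_lit 0, nat_lit 0, nat_lit 0,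
nat_lit 0, nat_lit 0, nat_lit 0, nat_lit 0x45a658f6f87c2209b, nat_lit 0, nat_lit 0,
nat_lit 0x1cc7ed1fda6d36e2b9cc12d0, nat_lit 0x112777c2a0960ab6ad6, nat_lit 0x91b3c494f2b17c04c7286e0e6, nat_lit 0x14d83191a41664d30402dff7b9a9b, nat_lit 0, nat_lit 0,
nat_lit 0, nat_lit 0xa1080dc93e062d8764, nat_lit 0, nat_lit 0, nat_lit 0, nat_lit 0,
nat_lit 0, nat_lit 0, nat_lit 0, nat_lit 0, nat_lit 0, nat_lit 0xe96397376a6fe216a025922a51a1,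
nat_lit 0, nat_lit 0, nat_lit 0, nat_lit 0, nat_lit 0, nat_lit 0,
nat_lit 0x16638b2234b1eb51d40186, nat_lit 0, nat_lit 0, nat_lit 0x179c30a67c7, nat_lit 0x8e6ee34a002f2fc4290c85, nat_lit 0x41e0fd14bcce873ab4fa6d7a372,
nat_lit 0x91b93da26aed099af0478e80b, nat_lit 0, nat_lit 0, nat_lit 0, nat_lit 0, nat_lit 0xf7397f86077463f792d6d5,
nat_lit 0, nat_lit 0, nat_lit 0, nat_lit 0, nat_lit 0, nat_lit 0,
nat_lit 0, nat_lit 0x40eeb56773, nat_lit 0, nat_lit 0, nat_lit 0, nat_lit 0,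
nat_lit 0, nat_lit 0, nat_lit 0]

theorem len11 : cd11.length = 729 := by decide +kernel

theorem hC11 : allZ (chkN ap bsL ixL yW 7) cd11 (729 * 11) = true := by decide +kernel

end Cfsg.Agent.TcChain36.O7C
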