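import Mathlib
import Cfsg.Agent.TcChain36.O7C.Tab

set_option autoImplicit false
set_option maxRecDepth 1000000
set_option linter.all false

namespace Cfsg.Agent.TcChain36.O7C

open Cfsg.Agent.Lib.OutTree36 Cfsg.Agent.Lib.PcClass36

set_option Elab.async false

/-- The certificates of a block. -/
def cd12 : List ℕ := [
nat_lit 0x11eb1e86a31cd558c5, nat_lit 0x16e3eefec75d0f3e99e, nat_lit 0x3d9a44446ef4e9ef7, nat_lit 0x2920bb3d817568e99e40a1cf, nat_lit 0x1709f79deddb36066750c665c, nat_lit 0x8c0bceaafb2f412b37202fdaf4b,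
nat_lit 0x149197051e860139aea0732918, nat_lit 0x9162f5d94c18d78f8911167ee, nat_lit 0x47b71893ffe6, nat_lit 0x258efbf5a1670a4713, nat_lit 0x296178f080d8bc65f69a2c3269f2, nat_lit 0x120f1bea766ca6a7a5cee19,
nat_lit 0, nat_lit 0, nat_lit 0, nat_lit 0, nat_lit 0, nat_lit 0,
nat_lit 0x414952e29e90818c60a8b, nat_lit 0x10b8433eda84f639604702ecf4f, nat_lit 0x5e078db197193e69f2a76567, nat_lit 0, nat_lit 0, nat_lit 0,
nat_lit 0, nat_lit 0, nat_lit 0, nat_lit 0x809c49b7e0023f61, nat_lit 0x3464547f22f5321593651633, nat_lit 0x1a51b5bb55,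
nat_lit 0x19963a2a3f30dfc7187d5403d, nat_lit 0x2e19e141597e30159b9469c52ea, nat_lit 0xf08dffdd81d0c1b4c81918b, nat_lit 0x17225a46aa48479c27852e824, nat_lit 0x250e54a1fe61c7f4275f0c0e1a24, nat_lit 0x498925f35c6e41cf1862d8c8781,
nat_lit 0, nat_lit 0, nat_lit 0, nat_lit 0, nat_lit 0, nat_lit 0,
nat_lit 0, nat_lit 0, nat_lit 0, nat_lit 0, nat_lit 0, nat_lit 0,
nat_lit 0, nat_lit 0, nat_lit 0, nat_lit 0, nat_lit 0, nat_lit 0,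
nat_lit 0xff084bde296407b60971d, nat_lit 0x7723196b5f3, nat_lit 0xcc3bc3fe0b3c39, nat_lit 0xe4267ef1861b79c00e14e6951, nat_lit 0x29207aa5df96755713d160f5, nat_lit 0xe2200040daacbcd,
nat_lit 0x3328e55763c2fc8007993dd, nat_lit 0x6108f557ecdd94613710, nat_lit 0x250e8b7548ff7ff8e40dee385545, nat_lit 0, nat_lit 0, nat_lit 0,
nat_lit 0, nat_lit 0, nat_lit 0, nat_lit 0, nat_lit 0, nat_lit 0,
nat_lit 0, nat_lit 0, nat_lit 0, nat_lit 0, nat_lit 0, nat_lit 0,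
nat_lit 0, nat_lit 0, nat_lit 0, nat_lit 0x3a69f762967496b31320a, nat_lit 0, nat_lit 0,
nat_lit 0xb920aee8bdc9a6b4f5b3bd33b6, nat_lit 0, nat_lit 0, nat_lit 0x149197051e85dcfeebcb99cc26, nat_lit 0, nat_lit 0,
nat_lit 0x85accfa2411f1918bae, nat_lit 0, nat_lit 0, nat_lit 0, nat_lit 0, nat_lit 0,
nat_lit 0, nat_lit 0, nat_lit 0, nat_lit 0x2d4907e5fc83dd, nat_lit 0, nat_lit 0,
nat_lit 0, nat_lit 0, nat_lit 0, nat_lit 0, nat_lit 0, nat_lit 0,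
nat_lit 0x9011ee283cd7beb1e92d6718c93, nat_lit 0, nat_lit 0, nat_lit 0x34d842875fcd58c5eee0611a1, nat_lit 0, nat_lit 0,
nat_lit 0x64f6069f015ee46572, nat_lit 0, nat_lit 0, nat_lit 0, nat_lit 0, nat_lit 0x27d77a666c6e72ff90,
nat_lit 0, nat_lit 0, nat_lit 0, nat_lit 0, nat_lit 0, nat_lit 0,
nat_lit 0, nat_lit 0x11ecf11265ea94065a, nat_lit 0, nat_lit 0, nat_lit 0, nat_lit 0,
nat_lit 0, nat_lit 0, nat_lit 0, nat_lit 0x1f8789b3fdd75df3ce3155, nat_lit 0, nat_lit 0,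
nat_lit 0x9720b1e01c902d9ca1f1c04a59f, nat_lit 0, nat_lit 0, nat_lit 0x91b69ffb3182850ecd19f20c2, nat_lit 0, nat_lit 0,
nat_lit 0, nat_lit 0x34ff7e4c76121278fef6603e9, nat_lit 0, nat_lit 0, nat_lit 0, nat_lit 0,
nat_lit 0, nat_lit 0, nat_lit 0, nat_lit 0, nat_lit 0, nat_lit 0x8f5dc88b302f,
nat_lit 0, nat_lit 0, nat_lit 0, nat_lit 0, nat_lit 0, nat_lit 0,
nat_lit 0x6364a4489853668, nat_lit 0, nat_lit 0, nat_lit 0xa1b89d0f098b817972d6b, nat_lit 0, nat_lit 0,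
nat_lit 0x3971e7fa8f3093f02164957821ca, nat_lit 0, nat_lit 0, nat_lit 0x415bb90fdb6707a82cab2, nat_lit 0, nat_lit 0,
nat_lit 0, nat_lit 0, nat_lit 0, nat_lit 0, nat_lit 0, nat_lit 0,
nat_lit 0x31b3c624685f4, nat_lit 0, nat_lit 0, nat_lit 0, nat_lit 0, nat_lit 0,
nat_lit 0, nat_lit 0, nat_lit 0, nat_lit 0x19da20204cb8f5c54c62ff55f, nat_lit 0, nat_lit 0,
nat_lit 0x4092f48cc0c2670b, nat_lit 0, nat_lit 0, nat_lit 0xb115f2ed5e9921, nat_lit 0, nat_lit 0,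
nat_lit 0, nat_lit 0x5130d2566c3339d0ff83837, nat_lit 0, nat_lit 0, nat_lit 0, nat_lit 0,
nat_lit 0, nat_lit 0, nat_lit 0, nat_lit 0, nat_lit 0, nat_lit 0x1561831759e662349f,
nat_lit 0, nat_lit 0, nat_lit 0, nat_lit 0, nat_lit 0, nat_lit 0,
nat_lit 0x61e45007a2b5390c1850c91a, nat_lit 0, nat_lit 0, nat_lit 0xe4267ef1861e92c75d89f4684, nat_lit 0, nat_lit 0,
nat_lit 0x330dc3f26cbf7f35b29bae8, nat_lit 0, nat_lit 0, nat_lit 0, nat_lit 0, nat_lit 0x56d11e30d760313b12e8,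
nat_lit 0, nat_lit 0, nat_lit 0, nat_lit 0, nat_lit 0, nat_lit 0,
nat_lit 0, nat_lit 0xa0b09bf1c024a01af529437, nat_lit 0, nat_lit 0, nat_lit 0, nat_lit 0,
nat_lit 0, nat_lit 0, nat_lit 0, nat_lit 0x24d0d91b30bf2fa8b1, nat_lit 0x381f286e05fd2f0e87e0e35bf, nat_lit 0x30421642e9,
nat_lit 0x1cc7edce43d2786ec40ab49c, nat_lit 0x2e64d6a3c72afcc9253ec07d146b8, nat_lit 0xe9630412d5ff6b377ea143d32ec2, nat_lit 0x289b19f7dc6e43db3e819889b557, nat_lit 0x19599c53b00fe0d29852d1ed4, nat_lit 0x605e201c17c60197a2b3674d,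
nat_lit 0x2304ec237653593d8, nat_lit 0xd0346ce7bbe9b5356a58b5158, nat_lit 0x58e87f43a7ad3d238cc99560, nat_lit 0, nat_lit 0, nat_lit 0,
nat_lit 0, nat_lit 0, nat_lit 0, nat_lit 0xb462f5e69e4cc7754f0, nat_lit 0xa287fb3e1f9e7e359ff71cb, nat_lit 0x8e69ea5a060765f765ad422bd82,
nat_lit 0, nat_lit 0, nat_lit 0, nat_lit 0, nat_lit 0, nat_lit 0,
nat_lit 0x22116b1d6c402590fc, nat_lit 0x1c1f5ae4ee3f9c, nat_lit 0x409eee7fb21fc30d, nat_lit 0x250e927ad751a71b0f3bc5031a2c, nat_lit 0x2df591a8a1e1ca7a7a31e61b, nat_lit 0x8d5f02f,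
nat_lit 0x32810b02c91f9962263814252, nat_lit 0x128e7b7045a7784731c1d5a, nat_lit 0x751e33a3e096b7be8b4be3da03, nat_lit 0, nat_lit 0, nat_lit 0,
nat_lit 0, nat_lit 0, nat_lit 0, nat_lit 0, nat_lit 0, nat_lit 0,
nat_lit 0, nat_lit 0, nat_lit 0, nat_lit 0, nat_lit 0, nat_lit 0,
nat_lit 0, nat_lit 0, nat_lit 0, nat_lit 0x2aee5501a10669, nat_lit 0x20eca5aca076b8c, nat_lit 0x1537007a31a81bb882,
nat_lit 0x49a525a37a8546b7497b6d59ea1, nat_lit 0x12a1fd2857db6ca31960b595a98, nat_lit 0x48302e2a505e3a933b9d7d0ed11, nat_lit 0xf8f88c021b52ca8e1d3462e87c, nat_lit 0x1eb3d5c67a7b646200db33, nat_lit 0x35669f0e7f287fcef,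
nat_lit 0, nat_lit 0, nat_lit 0, nat_lit 0, nat_lit 0, nat_lit 0,
nat_lit 0, nat_lit 0, nat_lit 0, nat_lit 0, nat_lit 0, nat_lit 0,
nat_lit 0, nat_lit 0, nat_lit 0, nat_lit 0, nat_lit 0, nat_lit 0,
nat_lit 0x13b7f617730d43d1d26, nat_lit 0, nat_lit 0, nat_lit 0x661fc9142f7453629b6bcec3095, nat_lit 0, nat_lit 0,
nat_lit 0xba6def956012c2d51aca80a, nat_lit 0, nat_lit 0, nat_lit 0x196790275dd0921, nat_lit 0, nat_lit 0,
nat_lit 0, nat_lit 0, nat_lit 0, nat_lit 0, nat_lit 0, nat_lit 0,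
nat_lit 0x1af5462157f213, nat_lit 0, nat_lit 0, nat_lit 0, nat_lit 0, nat_lit 0,
nat_lit 0, nat_lit 0, nat_lit 0, nat_lit 0x11bc3d7536d973573d2c2a3, nat_lit 0, nat_lit 0,
nat_lit 0x51f6968047b09630ddac8b34fa, nat_lit 0, nat_lit 0, nat_lit 0x8696a1a41778d8846bf65d097a21a1, nat_lit 0, nat_lit 0,
nat_lit 0, nat_lit 0, nat_lit 0xd97aed3087fc911, nat_lit 0, nat_lit 0, nat_lit 0,
nat_lit 0, nat_lit 0, nat_lit 0, nat_lit 0, nat_lit 0x11ed1a39434c803e50, nat_lit 0,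
nat_lit 0, nat_lit 0, nat_lit 0, nat_lit 0, nat_lit 0, nat_lit 0,
nat_lit 0x48b40c9301b14972a462fdaa8ee, nat_lit 0, nat_lit 0, nat_lit 0x1c564151926b298c930d6, nat_lit 0, nat_lit 0,
nat_lit 0x332b69b1c205ccfcdb1936a, nat_lit 0, nat_lit 0, nat_lit 0, nat_lit 0xda74dff13301edf, nat_lit 0,
nat_lit 0, nat_lit 0, nat_lit 0, nat_lit 0, nat_lit 0, nat_lit 0,
nat_lit 0, nat_lit 0, nat_lit 0x12aa122c2383d9b7c418a8715a3, nat_lit 0, nat_lit 0, nat_lit 0,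
nat_lit 0, nat_lit 0, nat_lit 0, nat_lit 0x12da658e560d8723a6a, nat_lit 0, nat_lit 0,
nat_lit 0x1891aa0ce, nat_lit 0, nat_lit 0, nat_lit 0x8f74a551e10a253fc28eac, nat_lit 0, nat_lit 0,
nat_lit 0x34bd41272e61f3065c, nat_lit 0, nat_lit 0, nat_lit 0, nat_lit 0, nat_lit 0,
nat_lit 0, nat_lit 0, nat_lit 0, nat_lit 0x4f9d06241e71e8ff, nat_lit 0, nat_lit 0,
nat_lit 0, nat_lit 0, nat_lit 0, nat_lit 0, nat_lit 0, nat_lit 0,
nat_lit 0x2920b9303503968f7aa9633a, nat_lit 0, nat_lit 0, nat_lit 0x2dab76509cb41cbb3023d971, nat_lit 0, nat_lit 0,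
nat_lit 0x1030bc7bf2c959d7beb042157, nat_lit 0, nat_lit 0, nat_lit 0, nat_lit 0x8128cf267848fb8c, nat_lit 0,
nat_lit 0, nat_lit 0, nat_lit 0, nat_lit 0, nat_lit 0, nat_lit 0,
nat_lit 0, nat_lit 0, nat_lit 0x16aaaa78f9df4e4beae, nat_lit 0, nat_lit 0, nat_lit 0,
nat_lit 0, nat_lit 0, nat_lit 0, nat_lit 0x5769474199dcc4e649edba43, nat_lit 0, nat_lit 0,
nat_lit 0x58336bba41d3014c0d65df861dbf, nat_lit 0, nat_lit 0, nat_lit 0x11378a2f648, nat_lit 0, nat_lit 0,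
nat_lit 0, nat_lit 0, nat_lit 0x129aba4c18087df0d9b25e1, nat_lit 0, nat_lit 0, nat_lit 0,
nat_lit 0, nat_lit 0, nat_lit 0, nat_lit 0, nat_lit 0x128e62517cd372ffe699825, nat_lit 0,
nat_lit 0, nat_lit 0, nat_lit 0, nat_lit 0, nat_lit 0, nat_lit 0,
nat_lit 0xff6956ab5bec003fa, nat_lit 0x34750fe9c3641f65c9c43474, nat_lit 0x2d5bb9e2e3, nat_lit 0x10275affb468973ffd8276e97, nat_lit 0xe4267ef13094688e4568a0107, nat_lit 0x1db90846518a8937dc18e9c6a2,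
nat_lit 0x1d8187acc2e88ddd8609a8daf, nat_lit 0x296861f128748fb025f4ae5c2237, nat_lit 0x19ee80fc3f3c7cf553ecc1667449, nat_lit 0xda567b18e311cba, nat_lit 0x1eb3d58c1335e06ecbebcf, nat_lit 0x14d81e58fe5a6d678837dcefd4f7c,
nat_lit 0, nat_lit 0, nat_lit 0, nat_lit 0, nat_lit 0, nat_lit 0,
nat_lit 0x13db21aebaa41e70202da9a, nat_lit 0x41e0c50c9f242315aeba50e18ce, nat_lit 0x1dc063d530cf0e7bd176caf815, nat_lit 0, nat_lit 0, nat_lit 0,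
nat_lit 0, nat_lit 0, nat_lit 0, nat_lit 0x16d40e809b6792a73f83b6, nat_lit 0xfdc73f4701c, nat_lit 0x185dd98cf78e205,
nat_lit 0xe8a7e7f87075ccf73e0c35565, nat_lit 0x19df3c2be7f2baaa32ca35d5f, nat_lit 0x1c07eadf053cac, nat_lit 0x102fa3a600595fd8839ae0d40, nat_lit 0x2da564bd5f7c4620f12c, nat_lit 0xe8e05bccee410efb2abeaf7687b5,
nat_lit 0, nat_lit 0, nat_lit 0, nat_lit 0, nat_lit 0, nat_lit 0,
nat_lit 0, nat_lit 0, nat_lit 0, nat_lit 0, nat_lit 0, nat_lit 0,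
nat_lit 0, nat_lit 0, nat_lit 0, nat_lit 0, nat_lit 0, nat_lit 0,
nat_lit 0x18d932d5a8248c5a44, nat_lit 0xabf13df9a12903ffa4, nat_lit 0x6eb0c083629582a, nat_lit 0xd035a0f3345010b232ad4d08b, nat_lit 0x24920e360002dfee235b2c13d, nat_lit 0x41e0fea3c7d6ab0d6797b862451,
nat_lit 0x142c36b794eca2dfdd75e2f530, nat_lit 0x172244fd4dc4a25b44b4847c5, nat_lit 0x1b34b692e80, nat_lit 0, nat_lit 0, nat_lit 0,
nat_lit 0, nat_lit 0, nat_lit 0, nat_lit 0, nat_lit 0, nat_lit 0,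
nat_lit 0, nat_lit 0, nat_lit 0, nat_lit 0, nat_lit 0, nat_lit 0,
nat_lit 0, nat_lit 0, nat_lit 0, nat_lit 0x5dbcba1936c2f1e60936d4a9, nat_lit 0, nat_lit 0,
nat_lit 0x64f6069f015ee436ef, nat_lit 0, nat_lit 0, nat_lit 0x199fe030a4dcdc4bd039f872d, nat_lit 0, nat_lit 0,
nat_lit 0x572291756a4a, nat_lit 0, nat_lit 0, nat_lit 0, nat_lit 0, nat_lit 0,
nat_lit 0, nat_lit 0, nat_lit 0, nat_lit 0x112777bfc0c025e6482, nat_lit 0, nat_lit 0,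
nat_lit 0, nat_lit 0, nat_lit 0, nat_lit 0, nat_lit 0, nat_lit 0,
nat_lit 0x96261dd803478c8be8e09cd99ca, nat_lit 0, nat_lit 0, nat_lit 0x1eb223baab281be1d665c3, nat_lit 0, nat_lit 0,
nat_lit 0x91b93da26aed099af04658494, nat_lit 0, nat_lit 0, nat_lit 0, nat_lit 0, nat_lit 0xd61f24b2d19e4dcb093cbd,
nat_lit 0, nat_lit 0, nat_lit 0, nat_lit 0, nat_lit 0, nat_lit 0,
nat_lit 0, nat_lit 0x244ebf032d70ab9583ea5b, nat_lit 0, nat_lit 0, nat_lit 0, nat_lit 0,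
nat_lit 0, nat_lit 0, nat_lit 0, nat_lit 0x1214eb3b88c3f6d1e09e7c5, nat_lit 0, nat_lit 0,
nat_lit 0x3fc176b531134ed5bcaf0dd2, nat_lit 0, nat_lit 0, nat_lit 0xc97fe41620e3cb4b37888e, nat_lit 0, nat_lit 0,
nat_lit 0, nat_lit 0xe4267ef1308bc4956ca0ee0a4, nat_lit 0, nat_lit 0, nat_lit 0, nat_lit 0,
nat_lit 0, nat_lit 0, nat_lit 0, nat_lit 0, nat_lit 0, nat_lit 0x8f74a551e0ff206407c93f,
nat_lit 0, nat_lit 0, nat_lit 0, nat_lit 0, nat_lit 0, nat_lit 0,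
nat_lit 0x1874f2aa2c3ad4f, nat_lit 0, nat_lit 0, nat_lit 0x51c73cae7fe8cf086d6c5e4bdb, nat_lit 0, nat_lit 0,
nat_lit 0x5014497bd50412bc, nat_lit 0, nat_lit 0, nat_lit 0x30d29d1b7a3cf261d7f33, nat_lit 0, nat_lit 0,
nat_lit 0, nat_lit 0, nat_lit 0, nat_lit 0, nat_lit 0, nat_lit 0,
nat_lit 0x14984057f145ad5bad0, nat_lit 0, nat_lit 0, nat_lit 0, nat_lit 0, nat_lit 0,
nat_lit 0, nat_lit 0, nat_lit 0, nat_lit 0x1cbfb18de30b546c8f66d6ff, nat_lit 0, nat_lit 0,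
nat_lit 0x102fa3a8f48dcc8a7f57ffdf6, nat_lit 0, nat_lit 0, nat_lit 0x1d734a54326b96a8a682dde1d, nat_lit 0, nat_lit 0,
nat_lit 0, nat_lit 0xb49d190b9fe888cd231, nat_lit 0, nat_lit 0, nat_lit 0, nat_lit 0,
nat_lit 0, nat_lit 0, nat_lit 0, nat_lit 0, nat_lit 0, nat_lit 0x19d9c443fda1891c4d221e1c2,
nat_lit 0, nat_lit 0, nat_lit 0, nat_lit 0, nat_lit 0, nat_lit 0,
nat_lit 0x5bcfbfb4acdd49958d462454ff0e, nat_lit 0, nat_lit 0, nat_lit 0x78947579cf470c73, nat_lit 0, nat_lit 0,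
nat_lit 0x34ba1a72a6a2e1c685c089b90, nat_lit 0, nat_lit 0, nat_lit 0, nat_lit 0, nat_lit 0x54dcae5316bfdab0ed4641408543,
nat_lit 0, nat_lit 0, nat_lit 0, nat_lit 0, nat_lit 0, nat_lit 0,
nat_lit 0, nat_lit 0xba34a273a433a495e1dd031, nat_lit 0, nat_lit 0, nat_lit 0, nat_lit 0,
nat_lit 0, nat_lit 0, nat_lit 0]

theorem len12 : cd12.length = 729 := by decide +kernel

theorem hC12 : allZ (chkN ap bsL ixL yW 7) cd12 (729 * 12) = true := by decide +kernel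

end Cfsg.Agent.TcChain36.O7C
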