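import Mathlib
import Cfsg.Agent.TcChain36.O7C.Tab

set_option autoImplicit false
set_option maxRecDepth 1000000
set_option linter.all false

namespace Cfsg.Agent.TcChain36.O7C

open Cfsg.Agent.Lib.OutTree36 Cfsg.Agent.Lib.PcClass36

set_option Elab.async false

/-- The certificates of a block. -/
def cd13 : List ℕ := [
nat_lit 0xea364fc7b0a, nat_lit 0x5d317b0f36ad4f13ac0a5cf, nat_lit 0x5e078cb37ff437541c05f8ac, nat_lit 0x1f8789b401dde560ca814a, nat_lit 0, nat_lit 0,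
nat_lit 0x370ff0367756686021028761b, nat_lit 0, nat_lit 0, nat_lit 0x734162089197c25c, nat_lit 0x1007758cf4c4d39bd1, nat_lit 0xa287fe41ea1848dbd6f3471,
nat_lit 0, nat_lit 0, nat_lit 0, nat_lit 0, nat_lit 0, nat_lit 0,
nat_lit 0xa70259c695db66cce494206, nat_lit 0x13b542210e2d827c4458c2f, nat_lit 0x916232fd56df430f65b490950, nat_lit 0, nat_lit 0, nat_lit 0,
nat_lit 0, nat_lit 0, nat_lit 0, nat_lit 0x51b48b75e2b148db4b163c0, nat_lit 0x3819820f6ee645f3dc0a, nat_lit 0xe5d0a1cb0f5026993d77a9eb0,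
nat_lit 0x4889cb36c2bcc3280, nat_lit 0, nat_lit 0, nat_lit 0x1ef938cb8dea731ab997bf1b9c, nat_lit 0, nat_lit 0,
nat_lit 0, nat_lit 0, nat_lit 0, nat_lit 0, nat_lit 0, nat_lit 0,
nat_lit 0, nat_lit 0, nat_lit 0, nat_lit 0, nat_lit 0, nat_lit 0,
nat_lit 0, nat_lit 0, nat_lit 0, nat_lit 0, nat_lit 0, nat_lit 0,
nat_lit 0xe71555e4798d4c40ea46b, nat_lit 0x296862392783f7507b3016f8f599, nat_lit 0x1020c0807088cfbb3e27d4, nat_lit 0x34a1c5c894e7d9d582c8b1a5f, nat_lit 0, nat_lit 0,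
nat_lit 0x3260723dc343dab037d5, nat_lit 0, nat_lit 0, nat_lit 0, nat_lit 0, nat_lit 0,
nat_lit 0, nat_lit 0, nat_lit 0, nat_lit 0, nat_lit 0, nat_lit 0,
nat_lit 0, nat_lit 0, nat_lit 0, nat_lit 0, nat_lit 0, nat_lit 0,
nat_lit 0, nat_lit 0, nat_lit 0, nat_lit 0xc97fe35a664aa0e97349b8, nat_lit 0, nat_lit 0,
nat_lit 0x212e30f405ee15ee5f3ee9c45f, nat_lit 0, nat_lit 0, nat_lit 0x3fc17734680ea71c04a4ba22, nat_lit 0x4c18d40b4d778bd494d5014e7, nat_lit 0xda6a830572a2242,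
nat_lit 0x13d0dd9e2d48543a4bb, nat_lit 0, nat_lit 0, nat_lit 0, nat_lit 0, nat_lit 0,
nat_lit 0, nat_lit 0, nat_lit 0, nat_lit 0x72bad8dc17efecf, nat_lit 0, nat_lit 0,
nat_lit 0, nat_lit 0, nat_lit 0, nat_lit 0, nat_lit 0, nat_lit 0,
nat_lit 0x5b856e32bd0aa9549c79d055, nat_lit 0, nat_lit 0, nat_lit 0x68ac7433dfe3c1dce86a5b7c, nat_lit 0, nat_lit 0,
nat_lit 0x2da564c34618524e10a9, nat_lit 0xe5d0a1cb0f501d7eee9dd2afe, nat_lit 0xe71551426bea89bbd3b88, nat_lit 0, nat_lit 0, nat_lit 0x14b083d3f5ccd965fca44d4,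
nat_lit 0, nat_lit 0, nat_lit 0, nat_lit 0, nat_lit 0, nat_lit 0,
nat_lit 0, nat_lit 0xdec0dc8c5c32817b8eba2bc797, nat_lit 0, nat_lit 0, nat_lit 0, nat_lit 0,
nat_lit 0, nat_lit 0, nat_lit 0, nat_lit 0x19ad098b29f3415c8bcf5, nat_lit 0, nat_lit 0,
nat_lit 0x5b856e32bd0a017c293fc960, nat_lit 0, nat_lit 0, nat_lit 0x48b4d84ce4d477d70b941c8fb6f, nat_lit 0x1eb3d58c1335e06ecbdc1c, nat_lit 0x3acc925278342248480a3,
nat_lit 0, nat_lit 0x1127776a16065fbd130, nat_lit 0, nat_lit 0, nat_lit 0, nat_lit 0,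
nat_lit 0, nat_lit 0, nat_lit 0, nat_lit 0, nat_lit 0, nat_lit 0xbe2c1bc53c0,
nat_lit 0, nat_lit 0, nat_lit 0, nat_lit 0, nat_lit 0, nat_lit 0,
nat_lit 0x2d4718c29d94df, nat_lit 0, nat_lit 0, nat_lit 0x1d9afe5edfd591923ee33742bd, nat_lit 0, nat_lit 0,
nat_lit 0x53ec49e35e9de9165d839418fff, nat_lit 0xa9ad92194329f1e1d07, nat_lit 0x1b7a36b75c56aa2d4f0120, nat_lit 0x1956d5236b39d8dce8, nat_lit 0, nat_lit 0,
nat_lit 0, nat_lit 0, nat_lit 0, nat_lit 0, nat_lit 0, nat_lit 0,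
nat_lit 0x85abd4afe76a6ce9922, nat_lit 0, nat_lit 0, nat_lit 0, nat_lit 0, nat_lit 0,
nat_lit 0, nat_lit 0, nat_lit 0, nat_lit 0x2d5c75701eb840, nat_lit 0, nat_lit 0,
nat_lit 0x312b385de325d122b555d7db6, nat_lit 0, nat_lit 0, nat_lit 0x469e5cc159d6cd223, nat_lit 0x751e33b30c8dda27d8c3f1a6f9, nat_lit 0x1d8187a7c46ad374a66e3e86e,
nat_lit 0, nat_lit 0x751d7d4259b375e14cfd20e171, nat_lit 0, nat_lit 0, nat_lit 0, nat_lit 0,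
nat_lit 0, nat_lit 0, nat_lit 0, nat_lit 0, nat_lit 0, nat_lit 0x8104967dfa275ebf,
nat_lit 0, nat_lit 0, nat_lit 0, nat_lit 0, nat_lit 0, nat_lit 0,
nat_lit 0x64f2fcf81f53741fbc, nat_lit 0, nat_lit 0, nat_lit 0x337d91dc971f1ed6ab210d9d2, nat_lit 0, nat_lit 0,
nat_lit 0x19ee8eacc271b6a7da41d00e5abf, nat_lit 0x312def621ac7f47e2d68dd255, nat_lit 0x751e33a3e096b7be8b4be3ade8, nat_lit 0, nat_lit 0, nat_lit 0x13e5406ccae74b,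
nat_lit 0, nat_lit 0, nat_lit 0, nat_lit 0, nat_lit 0, nat_lit 0,
nat_lit 0, nat_lit 0x17ca924cc15668e5a74b58, nat_lit 0, nat_lit 0, nat_lit 0, nat_lit 0,
nat_lit 0, nat_lit 0, nat_lit 0, nat_lit 0x7786b67cf009, nat_lit 0x501e5fd9bdd3c40ee0623fe, nat_lit 0x2e004fc9c113dc4f6318045f4d1,
nat_lit 0x73b8b6fae96533f0, nat_lit 0, nat_lit 0, nat_lit 0x51ba592dc40433b41953c61396, nat_lit 0, nat_lit 0,
nat_lit 0x14b65598dab95c83a0e576e, nat_lit 0x751de905be0de995304f661ea5, nat_lit 0x1cb7b016a6cc3b5e14ad46e5, nat_lit 0, nat_lit 0, nat_lit 0,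
nat_lit 0, nat_lit 0, nat_lit 0, nat_lit 0x366791d91bc2132e6f8f, nat_lit 0x5d42ce76daa418d03c98b93, nat_lit 0x31348f8a3354126d0c4f81a99,
nat_lit 0, nat_lit 0, nat_lit 0, nat_lit 0, nat_lit 0, nat_lit 0,
nat_lit 0x14d83265191dedff38a4668273934, nat_lit 0x19599c53b98c139664a03694f, nat_lit 0x34ba127fe917934a401202433, nat_lit 0x34d7eabbb4e01c6a5d03cf2fc, nat_lit 0, nat_lit 0,
nat_lit 0xe6480b7c38e9685e1ae7f3c7d, nat_lit 0, nat_lit 0, nat_lit 0, nat_lit 0, nat_lit 0,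
nat_lit 0, nat_lit 0, nat_lit 0, nat_lit 0, nat_lit 0, nat_lit 0,
nat_lit 0, nat_lit 0, nat_lit 0, nat_lit 0, nat_lit 0, nat_lit 0,
nat_lit 0, nat_lit 0, nat_lit 0, nat_lit 0x6344699a63d052847d970823, nat_lit 0xa6af35ef2b53e01f, nat_lit 0xa7f550d1a9c3906b4f64a605603,
nat_lit 0x47a34a1bc52ce08e4, nat_lit 0, nat_lit 0, nat_lit 0x290ba70beaff7a5f684ece55328a, nat_lit 0, nat_lit 0,
nat_lit 0, nat_lit 0, nat_lit 0, nat_lit 0, nat_lit 0, nat_lit 0,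
nat_lit 0, nat_lit 0, nat_lit 0, nat_lit 0, nat_lit 0, nat_lit 0,
nat_lit 0, nat_lit 0, nat_lit 0, nat_lit 0, nat_lit 0, nat_lit 0,
nat_lit 0x10afd2180a3a89c85f20, nat_lit 0, nat_lit 0, nat_lit 0x91b93da26aed099af04738638, nat_lit 0, nat_lit 0,
nat_lit 0x51f51eab7ef3c82baaa97f8469, nat_lit 0x9f73bc3f316e93, nat_lit 0x40a1ee93026f63b6e78d7604, nat_lit 0x809cf2d6b6da9ecc, nat_lit 0, nat_lit 0,
nat_lit 0, nat_lit 0, nat_lit 0, nat_lit 0, nat_lit 0, nat_lit 0,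
nat_lit 0x3eed60b4763e1b1, nat_lit 0, nat_lit 0, nat_lit 0, nat_lit 0, nat_lit 0,
nat_lit 0, nat_lit 0, nat_lit 0, nat_lit 0xe6480b7c38e9685e1ae7fceaa, nat_lit 0, nat_lit 0,
nat_lit 0x32a923d75b267327, nat_lit 0, nat_lit 0, nat_lit 0x61e44fda608097b5e5d09104, nat_lit 0x739474e8e4dce942ac3a492, nat_lit 0x1b6d861e4b9e834fe8ed0c,
nat_lit 0, nat_lit 0, nat_lit 0x5df0d1bc87ee762f7f6245ea, nat_lit 0, nat_lit 0, nat_lit 0,
nat_lit 0, nat_lit 0, nat_lit 0, nat_lit 0, nat_lit 0x47ebdbacedf2ad7a5ca7, nat_lit 0,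
nat_lit 0, nat_lit 0, nat_lit 0, nat_lit 0, nat_lit 0, nat_lit 0,
nat_lit 0x1db4ec76da336ab3e5a51fdce6, nat_lit 0, nat_lit 0, nat_lit 0x91799816d4a3bec4dc34c3523, nat_lit 0, nat_lit 0,
nat_lit 0x16b0462244c855, nat_lit 0x49277634803c6233865723b6396, nat_lit 0x250e54a1fe61c84c4920df716ac9, nat_lit 0, nat_lit 0x10ae66c64c908c2d1d0d, nat_lit 0,
nat_lit 0, nat_lit 0, nat_lit 0, nat_lit 0, nat_lit 0, nat_lit 0,
nat_lit 0, nat_lit 0, nat_lit 0x377d0dbda, nat_lit 0, nat_lit 0, nat_lit 0,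
nat_lit 0, nat_lit 0, nat_lit 0, nat_lit 0x34ba22dc6061f9ab9fcbbbda2, nat_lit 0, nat_lit 0,
nat_lit 0x9fe5b3ca8aec7bd3e35ffde, nat_lit 0, nat_lit 0, nat_lit 0x32048698c5c7d6fd6668, nat_lit 0x1d810d3867b41f2cd40a3e538, nat_lit 0x751d7d4259b375ee053d6d8f39,
nat_lit 0x23ad40ff33c637817d, nat_lit 0, nat_lit 0, nat_lit 0, nat_lit 0, nat_lit 0,
nat_lit 0, nat_lit 0, nat_lit 0, nat_lit 0xea364fbaa87, nat_lit 0, nat_lit 0,
nat_lit 0, nat_lit 0, nat_lit 0, nat_lit 0, nat_lit 0, nat_lit 0,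
nat_lit 0x5d13e16f3f5603ff57a673f, nat_lit 0, nat_lit 0, nat_lit 0x95e0ac3915274929e17f55f289e, nat_lit 0, nat_lit 0,
nat_lit 0x41e104689b3bd3be53f87ab02ed, nat_lit 0x1264624f8b9d6d41a8ca03, nat_lit 0x6fb3259e086, nat_lit 0, nat_lit 0x2d1115ea2d6acd7d24ab0bb9, nat_lit 0,
nat_lit 0, nat_lit 0, nat_lit 0, nat_lit 0, nat_lit 0, nat_lit 0,
nat_lit 0, nat_lit 0, nat_lit 0x35227b2a5067a3295abc97cbe, nat_lit 0, nat_lit 0, nat_lit 0,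
nat_lit 0, nat_lit 0, nat_lit 0, nat_lit 0x1c55f0dc0f1c2c1b441a1, nat_lit 0, nat_lit 0,
nat_lit 0xb920aee8bdc99870d5a5dfd1fa, nat_lit 0, nat_lit 0, nat_lit 0x4101dd4c3a8b13acd292e3a3, nat_lit 0x19ee8eb4c256fb0dbdb75d226595, nat_lit 0x245b165ac84d5e44cc426e61f,
nat_lit 0, nat_lit 0, nat_lit 0x56d11e30d760313b1748, nat_lit 0, nat_lit 0, nat_lit 0,
nat_lit 0, nat_lit 0, nat_lit 0, nat_lit 0, nat_lit 0x21f6e6d2e84e8a87a, nat_lit 0,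
nat_lit 0, nat_lit 0, nat_lit 0, nat_lit 0, nat_lit 0, nat_lit 0,
nat_lit 0x1c564042bdd6a756756d8, nat_lit 0xd035c86ac3c1d59ba0faeb297, nat_lit 0x1c219044512beefd60674fd6a8, nat_lit 0x5b856e32bd0a017c293e68f5, nat_lit 0, nat_lit 0,
nat_lit 0x68226262eac16dc5ca351a63603, nat_lit 0, nat_lit 0, nat_lit 0x3e436ae01932b528, nat_lit 0x1268df9e47acdd6d30d7a1, nat_lit 0x92717a35ba72087ac3e76d61ece,
nat_lit 0, nat_lit 0, nat_lit 0, nat_lit 0, nat_lit 0, nat_lit 0,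
nat_lit 0x1126243e81de765be8e, nat_lit 0x5779e2bccd917cc13096cc5c, nat_lit 0x1971ec6392651b1, nat_lit 0, nat_lit 0, nat_lit 0,
nat_lit 0, nat_lit 0, nat_lit 0, nat_lit 0x1db517c8231dd064c1a960f9b1, nat_lit 0x68242c34f119d61c2004c39dbf6, nat_lit 0x24aa7b026158f004a6250a,
nat_lit 0x102bd3dfcfb65f7d10a9d8cdc, nat_lit 0, nat_lit 0, nat_lit 0x19ed4f16d2670c37955d544bafce, nat_lit 0, nat_lit 0,
nat_lit 0, nat_lit 0, nat_lit 0, nat_lit 0, nat_lit 0, nat_lit 0,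
nat_lit 0, nat_lit 0, nat_lit 0, nat_lit 0, nat_lit 0, nat_lit 0,
nat_lit 0, nat_lit 0, nat_lit 0, nat_lit 0, nat_lit 0, nat_lit 0,
nat_lit 0x90439d7469326ff1aa, nat_lit 0x3c6907fdaa253a159c1c, nat_lit 0x1d8187acc2e88ddcd9603bfb0, nat_lit 0x22603395d82de19112b563, nat_lit 0, nat_lit 0,
nat_lit 0x81b95ef6428290969b14c144e5, nat_lit 0, nat_lit 0, nat_lit 0, nat_lit 0, nat_lit 0,
nat_lit 0, nat_lit 0, nat_lit 0, nat_lit 0, nat_lit 0, nat_lit 0,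
nat_lit 0, nat_lit 0, nat_lit 0, nat_lit 0, nat_lit 0, nat_lit 0,
nat_lit 0, nat_lit 0, nat_lit 0, nat_lit 0xa14412c2ecfb2df045, nat_lit 0, nat_lit 0,
nat_lit 0x5b89e6dd6460118681228dd0, nat_lit 0, nat_lit 0, nat_lit 0x13bea6f649, nat_lit 0x19599c53dba865f0598a7b465, nat_lit 0xac0717c01c9f71b01b7447,
nat_lit 0x2cc8539d846b677dd, nat_lit 0, nat_lit 0, nat_lit 0, nat_lit 0, nat_lit 0,
nat_lit 0, nat_lit 0, nat_lit 0, nat_lit 0x1daa58f412aa0ec514e, nat_lit 0, nat_lit 0,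
nat_lit 0, nat_lit 0, nat_lit 0, nat_lit 0, nat_lit 0, nat_lit 0,
nat_lit 0x2d7cd92ea93a7161f2a753ed, nat_lit 0, nat_lit 0, nat_lit 0x33561cb63d9106ae752501c4a, nat_lit 0, nat_lit 0,
nat_lit 0x19da20204cb9d78761765bfab, nat_lit 0x13b528b2deabdecfe46663e, nat_lit 0x9a6338f0ac95f45e69b, nat_lit 0, nat_lit 0, nat_lit 0x5a6357b7fc462bd3366e2996,
nat_lit 0, nat_lit 0, nat_lit 0, nat_lit 0, nat_lit 0, nat_lit 0,
nat_lit 0, nat_lit 0x3464547f2304bb1cf4a27c28, nat_lit 0, nat_lit 0, nat_lit 0, nat_lit 0,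
nat_lit 0, nat_lit 0, nat_lit 0, nat_lit 0x43d2ccb2ed62e33b6, nat_lit 0, nat_lit 0,
nat_lit 0x510a15f89089f57bd507be525a87, nat_lit 0, nat_lit 0, nat_lit 0x751e2a88cd6d09643c813ce043, nat_lit 0xb91f341e9b67514af319560a15, nat_lit 0x4ec6a3e13d609cbaac1b49594731,
nat_lit 0, nat_lit 0x19d9c470f00d16cc304ba0441, nat_lit 0, nat_lit 0, nat_lit 0, nat_lit 0,
nat_lit 0, nat_lit 0, nat_lit 0, nat_lit 0, nat_lit 0, nat_lit 0x197c2a5d1c76834,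
nat_lit 0, nat_lit 0, nat_lit 0, nat_lit 0, nat_lit 0, nat_lit 0,
nat_lit 0x20ecfe612789b4e, nat_lit 0, nat_lit 0, nat_lit 0x1d9aff40d3c26a881990f1eed2, nat_lit 0, nat_lit 0,
nat_lit 0x332a891c2efb0c3dbc15771, nat_lit 0x62acfbe8e736d440131b, nat_lit 0x10306b2cfe857f8ec0cb9a0da, nat_lit 0x1b782a9a4530a332b8c51c, nat_lit 0, nat_lit 0,
nat_lit 0, nat_lit 0, nat_lit 0, nat_lit 0, nat_lit 0, nat_lit 0,
nat_lit 0xe44bf1aad4f07b6, nat_lit 0, nat_lit 0, nat_lit 0, nat_lit 0, nat_lit 0,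
nat_lit 0, nat_lit 0, nat_lit 0, nat_lit 0x103106d9285339f4c55d26415, nat_lit 0, nat_lit 0,
nat_lit 0x2c2ccc899489e2451, nat_lit 0, nat_lit 0, nat_lit 0x1eb3d59bc24f8565c78abf, nat_lit 0x8055a767db65bc04140b1a5602, nat_lit 0x118f0476b1e9e1515b262c3,
nat_lit 0, nat_lit 0x19e73411b0952fc79e768069de1f, nat_lit 0, nat_lit 0, nat_lit 0, nat_lit 0,
nat_lit 0, nat_lit 0, nat_lit 0, nat_lit 0, nat_lit 0, nat_lit 0xe4267ef1308bc4956ca0edeba,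
nat_lit 0, nat_lit 0, nat_lit 0, nat_lit 0, nat_lit 0, nat_lit 0,
nat_lit 0xa1b89d0f098b81796e017, nat_lit 0, nat_lit 0, nat_lit 0x34cfdd45122284ce0a092889e, nat_lit 0, nat_lit 0,
nat_lit 0xfdc73b49b52, nat_lit 0xb255c1ec0694b96f76d5f09, nat_lit 0x4d0db464a43d85a304ae585b, nat_lit 0, nat_lit 0, nat_lit 0x80476f0e07a0329758b,
nat_lit 0, nat_lit 0, nat_lit 0, nat_lit 0, nat_lit 0, nat_lit 0,
nat_lit 0, nat_lit 0x34b893e6566e4592b0, nat_lit 0, nat_lit 0, nat_lit 0, nat_lit 0,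
nat_lit 0, nat_lit 0, nat_lit 0]

theorem len13 : cd13.length = 729 := by decide +kernel

theorem hC13 : allZ (chkN ap bsL ixL yW 7) cd13 (729 * 13) = true := by decide +kernel

end Cfsg.Agent.TcChain36.O7C
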