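import Mathlib
import Cfsg.Agent.TcChain36.O7C.Tab

set_option autoImplicit false
set_option maxRecDepth 1000000
set_option linter.all false

namespace Cfsg.Agent.TcChain36.O7C

open Cfsg.Agent.Lib.OutTree36 Cfsg.Agent.Lib.PcClass36

set_option Elab.async false

/-- The certificates of a block. -/
def cd14 : List ℕ := [
nat_lit 0x16bae833, nat_lit 0x81fba90e9f9c70c911c391, nat_lit 0x751e3c162fb7161d96edf0586b, nat_lit 0x211e90c45d4e2bb573372540c8, nat_lit 0, nat_lit 0,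
nat_lit 0x48b40c9301b14972a462fda5b9a, nat_lit 0, nat_lit 0, nat_lit 0x2d3c4ee9e9d3bc, nat_lit 0xbf8f02a63fb168a, nat_lit 0x8fecde632d50be51528018e136,
nat_lit 0, nat_lit 0, nat_lit 0, nat_lit 0, nat_lit 0, nat_lit 0,
nat_lit 0x58e87f43a7b323bf99b399bd, nat_lit 0x3a38eb06887361443fd4, nat_lit 0x1090d9cf5a3b184856efe51e3d, nat_lit 0, nat_lit 0, nat_lit 0,
nat_lit 0, nat_lit 0, nat_lit 0, nat_lit 0x2926327d87b3d1d961e8543ca6e1, nat_lit 0x14d8305297a02f02ce6b85d65fae5, nat_lit 0x499d1fe59d40ff3228e5591b09c,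
nat_lit 0xf8eacd4dd414d76829feab835f, nat_lit 0, nat_lit 0, nat_lit 0xb95cff5157c45ecad45, nat_lit 0, nat_lit 0,
nat_lit 0, nat_lit 0, nat_lit 0, nat_lit 0, nat_lit 0, nat_lit 0,
nat_lit 0, nat_lit 0, nat_lit 0, nat_lit 0, nat_lit 0, nat_lit 0,
nat_lit 0, nat_lit 0, nat_lit 0, nat_lit 0, nat_lit 0, nat_lit 0,
nat_lit 0x1ba9d6ac97bef0feb4f0791dbd, nat_lit 0x1090d9cf59a3022fddfb334550, nat_lit 0x48302e2a8cd8152c021389a2200, nat_lit 0x200c8e50c3273f6ed95914, nat_lit 0, nat_lit 0,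
nat_lit 0xe88123557f843cc053732c222, nat_lit 0, nat_lit 0, nat_lit 0, nat_lit 0, nat_lit 0,
nat_lit 0, nat_lit 0, nat_lit 0, nat_lit 0, nat_lit 0, nat_lit 0,
nat_lit 0, nat_lit 0, nat_lit 0, nat_lit 0, nat_lit 0, nat_lit 0,
nat_lit 0, nat_lit 0, nat_lit 0, nat_lit 0x7dcb91bfa1cacf50812, nat_lit 0, nat_lit 0,
nat_lit 0x1090d9cf5af4a9d6dfce2a06a9, nat_lit 0x3d0b1688bd9bac21a39021582621, nat_lit 0x1ba9d6a1f46a5af5bd77b085a1, nat_lit 0x9b65d4e98535265abb887c2, nat_lit 0, nat_lit 0,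
nat_lit 0x6ecac1a98ca04480, nat_lit 0, nat_lit 0, nat_lit 0, nat_lit 0, nat_lit 0,
nat_lit 0, nat_lit 0, nat_lit 0, nat_lit 0x2d3c17e5fbb966, nat_lit 0, nat_lit 0,
nat_lit 0, nat_lit 0, nat_lit 0, nat_lit 0, nat_lit 0, nat_lit 0,
nat_lit 0x230e274621deb1728a, nat_lit 0, nat_lit 0, nat_lit 0xa01cd8309d5221, nat_lit 0x11aadd0b8a63c5b632ac586d92e, nat_lit 0x49da34f1a9f5f77d5e7c320,
nat_lit 0x23dcd2c5eb9adc583a226b921, nat_lit 0, nat_lit 0, nat_lit 0, nat_lit 0, nat_lit 0x1295457610e0bb5de572043b9b0,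
nat_lit 0, nat_lit 0, nat_lit 0, nat_lit 0, nat_lit 0, nat_lit 0,
nat_lit 0, nat_lit 0x13b542221d32ca269a7d305, nat_lit 0, nat_lit 0, nat_lit 0, nat_lit 0,
nat_lit 0, nat_lit 0, nat_lit 0, nat_lit 0x312def6bb86fe55308c7f3c37, nat_lit 0, nat_lit 0,
nat_lit 0x2ded415e0ab647e87d58f4f8, nat_lit 0xd035b13e66d5165ef891df233, nat_lit 0x331be651939824436b975a2, nat_lit 0x11bc3d753ec924d923fbbd5, nat_lit 0, nat_lit 0,
nat_lit 0, nat_lit 0x111f80b80a01d957378, nat_lit 0, nat_lit 0, nat_lit 0, nat_lit 0,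
nat_lit 0, nat_lit 0, nat_lit 0, nat_lit 0, nat_lit 0, nat_lit 0x1cc7ed1fda6d506f212d6036,
nat_lit 0, nat_lit 0, nat_lit 0, nat_lit 0, nat_lit 0, nat_lit 0,
nat_lit 0xc4c0ca1ebf5f23, nat_lit 0, nat_lit 0, nat_lit 0x34747f63244c22823b098c3e, nat_lit 0x4827ed86e41c6fe8cdb2, nat_lit 0x41e0fd14b70fcab66aa1dd88858,
nat_lit 0x11bc3d75410cd106725b134, nat_lit 0, nat_lit 0, nat_lit 0x80479a26e78c708cd7f, nat_lit 0, nat_lit 0,
nat_lit 0, nat_lit 0, nat_lit 0, nat_lit 0, nat_lit 0, nat_lit 0,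
nat_lit 0x6af44bc6a71784aab0ce, nat_lit 0, nat_lit 0, nat_lit 0, nat_lit 0, nat_lit 0,
nat_lit 0, nat_lit 0, nat_lit 0, nat_lit 0x7f5b26ff7ed66da7, nat_lit 0, nat_lit 0,
nat_lit 0x16a5b12c26018e, nat_lit 0xb2b3cec40db1cd9affc8556, nat_lit 0xd0352c7bfc8a83691b6017520, nat_lit 0xef44ad957f0fb9af4a41fc5112d9b, nat_lit 0, nat_lit 0,
nat_lit 0, nat_lit 0x3202d02ad2e4ceabb040af1b5, nat_lit 0, nat_lit 0, nat_lit 0, nat_lit 0,
nat_lit 0, nat_lit 0, nat_lit 0, nat_lit 0, nat_lit 0, nat_lit 0x3abb53aa2624144824cf7719e,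
nat_lit 0, nat_lit 0, nat_lit 0, nat_lit 0, nat_lit 0, nat_lit 0,
nat_lit 0x54047ea59fa5a9f6e47476a46c6, nat_lit 0, nat_lit 0, nat_lit 0x5ab4d57b5d0f25b76268aa, nat_lit 0x20eaccb82e95e5e4b1af0b, nat_lit 0x1266c6d1478c7687dec00601665,
nat_lit 0x32f1704c60ca98ccd464fd700a6ad, nat_lit 0, nat_lit 0, nat_lit 0, nat_lit 0, nat_lit 0xe4e2066f283c3031d0332021a7a1,
nat_lit 0, nat_lit 0, nat_lit 0, nat_lit 0, nat_lit 0, nat_lit 0,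
nat_lit 0, nat_lit 0xdf91db39ca883e4885, nat_lit 0, nat_lit 0, nat_lit 0, nat_lit 0,
nat_lit 0, nat_lit 0, nat_lit 0, nat_lit 0x10078340b5eff5bf2c, nat_lit 0x2df58e724f81afc1ded43e7b, nat_lit 0x1090d9cf5a3ac035e847f13280,
nat_lit 0xe8c19f599b62cbb128baf23e1, nat_lit 0, nat_lit 0, nat_lit 0x38c8ae4b919ef151af2, nat_lit 0, nat_lit 0,
nat_lit 0x17cdf046c3faaab, nat_lit 0x5408293efa8b3e21f262b0fa583, nat_lit 0x350061c5986c1a1146be606d1c2a1, nat_lit 0, nat_lit 0, nat_lit 0,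
nat_lit 0, nat_lit 0, nat_lit 0, nat_lit 0xdf30a102a42b386, nat_lit 0x1c719693262ac22b1d2660d3bed33b, nat_lit 0x13ddba738a4e5a,
nat_lit 0, nat_lit 0, nat_lit 0, nat_lit 0, nat_lit 0, nat_lit 0,
nat_lit 0x37106cead64855565145518fb, nat_lit 0x149227fe60019df5d5bc29ef42, nat_lit 0x9a1b8676512c003538b, nat_lit 0x19ed4f1216ef29229b5c6480995c, nat_lit 0, nat_lit 0,
nat_lit 0x491dbb005e3f448d4bd7cd3, nat_lit 0, nat_lit 0, nat_lit 0, nat_lit 0, nat_lit 0,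
nat_lit 0, nat_lit 0, nat_lit 0, nat_lit 0, nat_lit 0, nat_lit 0,
nat_lit 0, nat_lit 0, nat_lit 0, nat_lit 0, nat_lit 0, nat_lit 0,
nat_lit 0, nat_lit 0, nat_lit 0, nat_lit 0x1145281f221ef9c045a70d1, nat_lit 0x412f1392cc4beac933bab, nat_lit 0x9fc0c876b3060ec25368bc,
nat_lit 0x332d1309142327db6685df5, nat_lit 0, nat_lit 0, nat_lit 0x38268612be46e184ddc45, nat_lit 0, nat_lit 0,
nat_lit 0, nat_lit 0, nat_lit 0, nat_lit 0, nat_lit 0, nat_lit 0,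
nat_lit 0, nat_lit 0, nat_lit 0, nat_lit 0, nat_lit 0, nat_lit 0,
nat_lit 0, nat_lit 0, nat_lit 0, nat_lit 0, nat_lit 0, nat_lit 0,
nat_lit 0x458139ad68189dd2b, nat_lit 0, nat_lit 0, nat_lit 0x137e7dd20254f3, nat_lit 0x81fc00541508a9070377d5, nat_lit 0x81455b02389d15127aef635537,
nat_lit 0x20f35e0b41862ff4014fe24000843, nat_lit 0, nat_lit 0, nat_lit 0x132adb1e75ba4b026db, nat_lit 0, nat_lit 0,
nat_lit 0, nat_lit 0, nat_lit 0, nat_lit 0, nat_lit 0, nat_lit 0,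
nat_lit 0x14b655a260d8228b4eab99d, nat_lit 0, nat_lit 0, nat_lit 0, nat_lit 0, nat_lit 0,
nat_lit 0, nat_lit 0, nat_lit 0, nat_lit 0x1de567798e3e9e5f9728a7565c7f74, nat_lit 0, nat_lit 0,
nat_lit 0x345b2ece93a0623fa154c6c8, nat_lit 0x61160801af19e094221c, nat_lit 0xd035a9306239a4ffbd7923f6d, nat_lit 0x10a72f9490929659fc9c5ee2043, nat_lit 0, nat_lit 0,
nat_lit 0, nat_lit 0, nat_lit 0x15271bd345e7f9092f, nat_lit 0, nat_lit 0, nat_lit 0,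
nat_lit 0, nat_lit 0, nat_lit 0, nat_lit 0, nat_lit 0xbad37ef633ae134985643e76986f4, nat_lit 0,
nat_lit 0, nat_lit 0, nat_lit 0, nat_lit 0, nat_lit 0, nat_lit 0,
nat_lit 0x381d12d24b416ea1, nat_lit 0, nat_lit 0, nat_lit 0xc97fe433da4145e0740b9a, nat_lit 0xda6aa260e5a9ece, nat_lit 0xe8a7e7f87075ccc72f5845b6c,
nat_lit 0x3826dbc6d0936ab452e3c, nat_lit 0, nat_lit 0, nat_lit 0, nat_lit 0x21095f0fe21ccc71f92974d4e5, nat_lit 0,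
nat_lit 0, nat_lit 0, nat_lit 0, nat_lit 0, nat_lit 0, nat_lit 0,
nat_lit 0, nat_lit 0, nat_lit 0x51c4b53ffc7af89542b6830, nat_lit 0, nat_lit 0, nat_lit 0,
nat_lit 0, nat_lit 0, nat_lit 0, nat_lit 0xcdb70c85ce0b293, nat_lit 0, nat_lit 0,
nat_lit 0x1ba9d6a2248b30ddb848ef5ee1, nat_lit 0x24b911f5b6c9beab3683a3, nat_lit 0xcd79b3652516f677ccdb4d, nat_lit 0x5af5725d9936f023418f4d, nat_lit 0, nat_lit 0,
nat_lit 0x152070d33219982e46a, nat_lit 0, nat_lit 0, nat_lit 0, nat_lit 0, nat_lit 0,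
nat_lit 0, nat_lit 0, nat_lit 0, nat_lit 0x11eda84eb8dc06eb54cf0, nat_lit 0, nat_lit 0,
nat_lit 0, nat_lit 0, nat_lit 0, nat_lit 0, nat_lit 0, nat_lit 0,
nat_lit 0x1cc86b8704f42df153007580, nat_lit 0, nat_lit 0, nat_lit 0x250e927ad751a71b0f5d28045bb5, nat_lit 0x249139b3df726d043ac0e317a, nat_lit 0x128413279a345150a464cfd,
nat_lit 0x1cbc5d408f2381564b1fbee6, nat_lit 0, nat_lit 0, nat_lit 0, nat_lit 0x445ecd1573f4a, nat_lit 0,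
nat_lit 0, nat_lit 0, nat_lit 0, nat_lit 0, nat_lit 0, nat_lit 0,
nat_lit 0, nat_lit 0, nat_lit 0x1da6ccbda99a2f4599c, nat_lit 0, nat_lit 0, nat_lit 0,
nat_lit 0, nat_lit 0, nat_lit 0, nat_lit 0x3971e7fa80037a4428bcd26520ad, nat_lit 0, nat_lit 0,
nat_lit 0x22a7fc1ef3689, nat_lit 0xb7ffa3ccac1f29d8e3, nat_lit 0x751e3c162fb7161d0410e1a7ce, nat_lit 0x510a15f89089f57bd504aa3b1a62, nat_lit 0, nat_lit 0,
nat_lit 0, nat_lit 0, nat_lit 0x4fd28bdba390af55, nat_lit 0, nat_lit 0, nat_lit 0,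
nat_lit 0, nat_lit 0, nat_lit 0, nat_lit 0, nat_lit 0x2c2973f6e179bddcc, nat_lit 0,
nat_lit 0, nat_lit 0, nat_lit 0, nat_lit 0, nat_lit 0, nat_lit 0,
nat_lit 0x6fccaf82e1dd94, nat_lit 0x1098dc4ccc8f899b2016d6b815, nat_lit 0x1cc7dafaa809c6578d2fcdaa, nat_lit 0x1288de011c38eade4d04b43867a38b, nat_lit 0, nat_lit 0,
nat_lit 0x14986dd944825504a7a, nat_lit 0, nat_lit 0, nat_lit 0x3a3876755ed1866ccf35, nat_lit 0xe71566064c129120ca143, nat_lit 0x3781442c93e984b5db747,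
nat_lit 0, nat_lit 0, nat_lit 0, nat_lit 0, nat_lit 0, nat_lit 0,
nat_lit 0x5682d1e19b717719c3fb, nat_lit 0xa10459895710764239241ad8430, nat_lit 0x4571433a421c44bc47ee8c3989a1, nat_lit 0, nat_lit 0, nat_lit 0,
nat_lit 0, nat_lit 0, nat_lit 0, nat_lit 0x369509f875e2b44329da8, nat_lit 0xe4267ef185ecb04989a2b3b34, nat_lit 0x12851fbd2168f4a7,
nat_lit 0x212e30f405b52e05a34dd74d8f, nat_lit 0, nat_lit 0, nat_lit 0x10aee6df1ccf0f9dc48abc182e3, nat_lit 0, nat_lit 0,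
nat_lit 0, nat_lit 0, nat_lit 0, nat_lit 0, nat_lit 0, nat_lit 0,
nat_lit 0, nat_lit 0, nat_lit 0, nat_lit 0, nat_lit 0, nat_lit 0,
nat_lit 0, nat_lit 0, nat_lit 0, nat_lit 0, nat_lit 0, nat_lit 0,
nat_lit 0x142c3560aba7867f804b4705fa, nat_lit 0x1dc063059fa3937ea53bbc8ee3, nat_lit 0x3d1c7a74a23a81a4da3eb, nat_lit 0x142c345c7b26c815f1746b830a, nat_lit 0, nat_lit 0,
nat_lit 0x7af5e585a280, nat_lit 0, nat_lit 0, nat_lit 0, nat_lit 0, nat_lit 0,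
nat_lit 0, nat_lit 0, nat_lit 0, nat_lit 0, nat_lit 0, nat_lit 0,
nat_lit 0, nat_lit 0, nat_lit 0, nat_lit 0, nat_lit 0, nat_lit 0,
nat_lit 0, nat_lit 0, nat_lit 0, nat_lit 0x9808686b990c2c18b80, nat_lit 0, nat_lit 0,
nat_lit 0x250e927ad751a71b0f3bc4efb6b5, nat_lit 0x2e19e13320ca2847bbe81f6747d, nat_lit 0x2926327d8825f11ee6e792cb9566, nat_lit 0x2e1ac8aebdab58ff26875b675b4, nat_lit 0, nat_lit 0,
nat_lit 0x36950a116bb0a238a61ac, nat_lit 0, nat_lit 0, nat_lit 0, nat_lit 0, nat_lit 0,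
nat_lit 0, nat_lit 0, nat_lit 0, nat_lit 0xd307687ef7ff0ba, nat_lit 0, nat_lit 0,
nat_lit 0, nat_lit 0, nat_lit 0, nat_lit 0, nat_lit 0, nat_lit 0,
nat_lit 0x1cc67848cf34f9d9c5f1c6e7, nat_lit 0, nat_lit 0, nat_lit 0x1090d9cf5c5c84bedda95e5a5c, nat_lit 0x50f7461e0c221d1d42057a71bd7, nat_lit 0x41e0fa884f19b4a0448c4499b73,
nat_lit 0xa187958ce25c4cffd9fc4, nat_lit 0, nat_lit 0, nat_lit 0, nat_lit 0, nat_lit 0x99cc1fca18121257101,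
nat_lit 0, nat_lit 0, nat_lit 0, nat_lit 0, nat_lit 0, nat_lit 0,
nat_lit 0, nat_lit 0x6eb08368ea277a7, nat_lit 0, nat_lit 0, nat_lit 0, nat_lit 0,
nat_lit 0, nat_lit 0, nat_lit 0, nat_lit 0x49a5436b5a2a42730de325da560, nat_lit 0, nat_lit 0,
nat_lit 0x94741ba4, nat_lit 0x913ef4c884536022e1c4c8, nat_lit 0x81418088b340c9c81148625b0c, nat_lit 0x1492288751d471f9b6fa09a8b1, nat_lit 0, nat_lit 0,
nat_lit 0, nat_lit 0xbe5ffa6d7527c08f65, nat_lit 0, nat_lit 0, nat_lit 0, nat_lit 0,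
nat_lit 0, nat_lit 0, nat_lit 0, nat_lit 0, nat_lit 0, nat_lit 0x5dc23af05275410fa,
nat_lit 0, nat_lit 0, nat_lit 0, nat_lit 0, nat_lit 0, nat_lit 0,
nat_lit 0x64f9d0b37da4005175, nat_lit 0, nat_lit 0, nat_lit 0x19ad08add76daecf7c084, nat_lit 0x58e88e8590a71f79bcb2a885, nat_lit 0x34731cac1ac9483fbc6ccf85,
nat_lit 0x8141855c5ecccbe68b007cf9d6, nat_lit 0, nat_lit 0, nat_lit 0xe34e0b51b0f366812b, nat_lit 0, nat_lit 0,
nat_lit 0, nat_lit 0, nat_lit 0, nat_lit 0, nat_lit 0, nat_lit 0,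
nat_lit 0x15b4856740c44, nat_lit 0, nat_lit 0, nat_lit 0, nat_lit 0, nat_lit 0,
nat_lit 0, nat_lit 0, nat_lit 0, nat_lit 0x2df58e724f8346460299af3b, nat_lit 0, nat_lit 0,
nat_lit 0x2d7cd92ea93a7161f2a753ec, nat_lit 0x19ad08aa85b5e77691724, nat_lit 0x1dccf809833f7cc5ec5af9db4d, nat_lit 0x5b43c143fbac7da7ecb39163, nat_lit 0, nat_lit 0,
nat_lit 0, nat_lit 0x19d9c443fda18926554e6ce80, nat_lit 0, nat_lit 0, nat_lit 0, nat_lit 0,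
nat_lit 0, nat_lit 0, nat_lit 0, nat_lit 0, nat_lit 0, nat_lit 0x1e70e4d4e8d6d7301d,
nat_lit 0, nat_lit 0, nat_lit 0, nat_lit 0, nat_lit 0, nat_lit 0,
nat_lit 0x4e8887a090b4ed47, nat_lit 0, nat_lit 0, nat_lit 0x2920bda8bcaec5bbacbbeccf, nat_lit 0x8adb6b1d10c9b86e77c9e42, nat_lit 0x1497d71929e29b50490b971,
nat_lit 0x116c21eb01f4c59978c7090a274, nat_lit 0, nat_lit 0, nat_lit 0, nat_lit 0, nat_lit 0x37814db25f5ff4aa61754,
nat_lit 0, nat_lit 0, nat_lit 0, nat_lit 0, nat_lit 0, nat_lit 0,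
nat_lit 0, nat_lit 0xa73f712697ddc40754aee03d841, nat_lit 0, nat_lit 0, nat_lit 0, nat_lit 0,
nat_lit 0, nat_lit 0, nat_lit 0]

theorem len14 : cd14.length = 729 := by decide +kernel

theorem hC14 : allZ (chkN ap bsL ixL yW 7) cd14 (729 * 14) = true := by decide +kernel

end Cfsg.Agent.TcChain36.O7C
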