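import Mathlib
import Cfsg.Agent.TcChain36.O7C.Tab

set_option autoImplicit false
set_option maxRecDepth 1000000
set_option linter.all false

namespace Cfsg.Agent.TcChain36.O7C

open Cfsg.Agent.Lib.OutTree36 Cfsg.Agent.Lib.PcClass36

set_option Elab.async false

/-- The certificates of a block. -/
def cd15 : List ℕ := [
nat_lit 0x248645455eb, nat_lit 0x3e436e78a1f42a19, nat_lit 0x23068e71cc108b9291b5f4, nat_lit 0x1988f5885708e4b89b810e636, nat_lit 0x26ded42bb69da, nat_lit 0x48302e2a505e3dac42ecf215d8b,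
nat_lit 0x19d9c443fda1891c7a20c63ad, nat_lit 0x751d7d4259b3753d77718ffff1, nat_lit 0x2dae3bbecf6a7b1bf824ab73, nat_lit 0x73d2e29d9bb008b2, nat_lit 0x51c7aa4a3acdf970b02ab281ce, nat_lit 0x305f7e717aba3177f7b1288c9,
nat_lit 0, nat_lit 0, nat_lit 0, nat_lit 0, nat_lit 0, nat_lit 0,
nat_lit 0xa70259c695db66cce4943fe, nat_lit 0xfd2e1266da8b66e863a1ced914, nat_lit 0x381ab08b2486e0e9a57b725e1, nat_lit 0, nat_lit 0, nat_lit 0,
nat_lit 0, nat_lit 0, nat_lit 0, nat_lit 0x2d63691f7df44654d75d042e, nat_lit 0x1983988f9fa, nat_lit 0x1c61099b2610a22a8,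
nat_lit 0x19ad098b29f3415c8bede, nat_lit 0x174ab740263a3b1d454b0cd2eff05, nat_lit 0x9126c483eee6e53ee6a303, nat_lit 0x8055a767db713290249d9c3266, nat_lit 0x751e37a48c153c82234f85a58f, nat_lit 0xf8f88c241d4e5508908f624c0e,
nat_lit 0, nat_lit 0, nat_lit 0, nat_lit 0, nat_lit 0, nat_lit 0,
nat_lit 0, nat_lit 0, nat_lit 0, nat_lit 0, nat_lit 0, nat_lit 0,
nat_lit 0, nat_lit 0, nat_lit 0, nat_lit 0, nat_lit 0, nat_lit 0,
nat_lit 0x28b1a8ddf215e36655, nat_lit 0x430bfcc0812f20ee, nat_lit 0x1fdb220ded6b6b8e8, nat_lit 0x2926327d874859924fbf445f1460, nat_lit 0xa7b1fedcd0c83b6df188e0c30f6, nat_lit 0xd0346ce7bbe9a0cdeed52ef06,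
nat_lit 0x17225a46aa4847d2a7d434c35, nat_lit 0x16e2869f98ac25d, nat_lit 0x2d63e84ee80c7e7d73262bb9, nat_lit 0, nat_lit 0, nat_lit 0,
nat_lit 0, nat_lit 0, nat_lit 0, nat_lit 0, nat_lit 0, nat_lit 0,
nat_lit 0, nat_lit 0, nat_lit 0, nat_lit 0, nat_lit 0, nat_lit 0,
nat_lit 0, nat_lit 0, nat_lit 0, nat_lit 0x452a511b222c7, nat_lit 0, nat_lit 0,
nat_lit 0x23dcd2c5eb9adc583a226b920, nat_lit 0, nat_lit 0, nat_lit 0x5af7d858755fa54fbe1867, nat_lit 0, nat_lit 0,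
nat_lit 0x261beaf8127079665c4ab0cdd, nat_lit 0, nat_lit 0, nat_lit 0, nat_lit 0, nat_lit 0,
nat_lit 0, nat_lit 0, nat_lit 0, nat_lit 0x230e274a64c023feae, nat_lit 0, nat_lit 0,
nat_lit 0, nat_lit 0, nat_lit 0, nat_lit 0, nat_lit 0, nat_lit 0,
nat_lit 0x11bc3d753ec924d923f2099, nat_lit 0, nat_lit 0, nat_lit 0x2da5664cbc5b1edd6a90, nat_lit 0, nat_lit 0,
nat_lit 0xe4267ef1861e92c75d89f93d8, nat_lit 0, nat_lit 0, nat_lit 0, nat_lit 0, nat_lit 0x28dc448e15ea55,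
nat_lit 0, nat_lit 0, nat_lit 0, nat_lit 0, nat_lit 0, nat_lit 0,
nat_lit 0, nat_lit 0xa341f3550204c9033e13f1a8821, nat_lit 0, nat_lit 0, nat_lit 0, nat_lit 0,
nat_lit 0, nat_lit 0, nat_lit 0, nat_lit 0x751de905be0debccff0f0bc339, nat_lit 0, nat_lit 0,
nat_lit 0x2cb91e3317d225, nat_lit 0, nat_lit 0, nat_lit 0x7376bfaab17d5c97, nat_lit 0, nat_lit 0,
nat_lit 0, nat_lit 0xff084258ac8be20a20077, nat_lit 0, nat_lit 0, nat_lit 0, nat_lit 0,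
nat_lit 0, nat_lit 0, nat_lit 0, nat_lit 0, nat_lit 0, nat_lit 0x6b66726a9b396bc6c2c,
nat_lit 0, nat_lit 0, nat_lit 0, nat_lit 0, nat_lit 0, nat_lit 0,
nat_lit 0x3826861273856f17e908a, nat_lit 0, nat_lit 0, nat_lit 0x9ccd314b1fb0024e50b51b9a739, nat_lit 0, nat_lit 0,
nat_lit 0x370fedce9d64bda24207b6895, nat_lit 0, nat_lit 0, nat_lit 0x2b2e81a526640c793, nat_lit 0, nat_lit 0,
nat_lit 0, nat_lit 0, nat_lit 0, nat_lit 0, nat_lit 0, nat_lit 0,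
nat_lit 0x27b91e6a5b3de4bc21, nat_lit 0, nat_lit 0, nat_lit 0, nat_lit 0, nat_lit 0,
nat_lit 0, nat_lit 0, nat_lit 0, nat_lit 0xe88123557f843cc05373226e7, nat_lit 0, nat_lit 0,
nat_lit 0x38c8ae4b919ef151d6b, nat_lit 0, nat_lit 0, nat_lit 0x9720b1e01c902d9ca1f1c049f2b, nat_lit 0, nat_lit 0,
nat_lit 0, nat_lit 0x2f38fdb3799093db4f3410ec1b48, nat_lit 0, nat_lit 0, nat_lit 0, nat_lit 0,
nat_lit 0, nat_lit 0, nat_lit 0, nat_lit 0, nat_lit 0, nat_lit 0x1309d48fefe23cc,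
nat_lit 0, nat_lit 0, nat_lit 0, nat_lit 0, nat_lit 0, nat_lit 0,
nat_lit 0x5bcfbfb4acdd4a01c92223fefbe7, nat_lit 0, nat_lit 0, nat_lit 0x64f9d0b37da400506b, nat_lit 0, nat_lit 0,
nat_lit 0x68ddd6c4060a8d97df11ea39, nat_lit 0, nat_lit 0, nat_lit 0, nat_lit 0, nat_lit 0x1b6db654e4cc10f2998829,
nat_lit 0, nat_lit 0, nat_lit 0, nat_lit 0, nat_lit 0, nat_lit 0,
nat_lit 0, nat_lit 0x37fe790de4d8, nat_lit 0, nat_lit 0, nat_lit 0, nat_lit 0,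
nat_lit 0, nat_lit 0, nat_lit 0, nat_lit 0x60b7b2dc6aa7123fcbb, nat_lit 0xcc3bc3fe0b3c3c, nat_lit 0x2c2ccbd3e3e8565c8,
nat_lit 0x250e927a4e516ffbe3b26024fbe5, nat_lit 0x2e19e13320ca2845b60f7d375bf, nat_lit 0xffe46bcee8a565835786ef428, nat_lit 0x9162f5d94c18d7b75c06567cd, nat_lit 0x1309e86cdb3c99d, nat_lit 0x6344699a63d05a0d82cdb2ce,
nat_lit 0xc832fb7f0717d99, nat_lit 0x2d1115ea7ac71e485e3743c6, nat_lit 0xb15131201913a13bf1b9f87, nat_lit 0, nat_lit 0, nat_lit 0,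
nat_lit 0, nat_lit 0, nat_lit 0, nat_lit 0xb462f5e655ae68753c8, nat_lit 0x23068e71c9b5d218de71cc, nat_lit 0x19e73416844d6e0a62d754470427,
nat_lit 0, nat_lit 0, nat_lit 0, nat_lit 0, nat_lit 0, nat_lit 0,
nat_lit 0xe5950d36f86, nat_lit 0x16de5cd09820fcf, nat_lit 0xe968f32e3f0274575554b, nat_lit 0x37d67b66d8071752de5058372, nat_lit 0x488adb0fad778, nat_lit 0x527a6133affb45595094b1d78a3e,
nat_lit 0x501e5fd9344c36ed1464200, nat_lit 0x38158349bef0c1021fba8fca8, nat_lit 0x63c5ed9ab2c05182c9482d0b, nat_lit 0, nat_lit 0, nat_lit 0,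
nat_lit 0, nat_lit 0, nat_lit 0, nat_lit 0, nat_lit 0, nat_lit 0,
nat_lit 0, nat_lit 0, nat_lit 0, nat_lit 0, nat_lit 0, nat_lit 0,
nat_lit 0, nat_lit 0, nat_lit 0, nat_lit 0x2df9ffdf21da9e26c0b51477, nat_lit 0x1c3de11cb6f, nat_lit 0x4857e9776e0143a60,
nat_lit 0x369509f875e2b443360c1, nat_lit 0x48302e2a6b691de1097b20dd8c7, nat_lit 0x2de873039ecb8b97b68a5b26, nat_lit 0x82e042a3846cd31d5d67345b75, nat_lit 0x250e8e5bab2d4ccb47ef299a3025, nat_lit 0x289b19f7cd3502b0e5a54833878d,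
nat_lit 0, nat_lit 0, nat_lit 0, nat_lit 0, nat_lit 0, nat_lit 0,
nat_lit 0, nat_lit 0, nat_lit 0, nat_lit 0, nat_lit 0, nat_lit 0,
nat_lit 0, nat_lit 0, nat_lit 0, nat_lit 0, nat_lit 0, nat_lit 0,
nat_lit 0xc49d613b29da853, nat_lit 0, nat_lit 0, nat_lit 0xce9b8ac51f01071, nat_lit 0, nat_lit 0,
nat_lit 0x90439d7469326ff1ab, nat_lit 0, nat_lit 0, nat_lit 0x1a6779064d87a06001, nat_lit 0, nat_lit 0,
nat_lit 0, nat_lit 0, nat_lit 0, nat_lit 0, nat_lit 0, nat_lit 0,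
nat_lit 0xf7397f87c593af2f5c31fa, nat_lit 0, nat_lit 0, nat_lit 0, nat_lit 0, nat_lit 0,
nat_lit 0, nat_lit 0, nat_lit 0, nat_lit 0x8141855c5ecccbe68b007cf9d5, nat_lit 0, nat_lit 0,
nat_lit 0x37106d03f5c604d473e47d28c, nat_lit 0, nat_lit 0, nat_lit 0x1f905a964a558f355, nat_lit 0, nat_lit 0,
nat_lit 0, nat_lit 0, nat_lit 0x35227b2a504bc1200df899f85, nat_lit 0, nat_lit 0, nat_lit 0,
nat_lit 0, nat_lit 0, nat_lit 0, nat_lit 0, nat_lit 0x1956d5c2276ac0f785, nat_lit 0,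
nat_lit 0, nat_lit 0, nat_lit 0, nat_lit 0, nat_lit 0, nat_lit 0,
nat_lit 0x41e0fd14bccea31cbfa46a8c161, nat_lit 0, nat_lit 0, nat_lit 0x5d13e16f3d60acbfaf726fa, nat_lit 0, nat_lit 0,
nat_lit 0x103106d9285339f4c55d3272e, nat_lit 0, nat_lit 0, nat_lit 0, nat_lit 0x1b0b20140e5, nat_lit 0,
nat_lit 0, nat_lit 0, nat_lit 0, nat_lit 0, nat_lit 0, nat_lit 0,
nat_lit 0, nat_lit 0, nat_lit 0x29207aa5df96755713d15f3d, nat_lit 0, nat_lit 0, nat_lit 0,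
nat_lit 0, nat_lit 0, nat_lit 0, nat_lit 0x5b856e32bd0a017c293e6487, nat_lit 0, nat_lit 0,
nat_lit 0x142c3560aba7867f804b4705fb, nat_lit 0, nat_lit 0, nat_lit 0x6ecac1a7eca0371f, nat_lit 0, nat_lit 0,
nat_lit 0x3d9a4ed66820dfff0, nat_lit 0, nat_lit 0, nat_lit 0, nat_lit 0, nat_lit 0,
nat_lit 0, nat_lit 0, nat_lit 0, nat_lit 0x248aa072af9, nat_lit 0, nat_lit 0,
nat_lit 0, nat_lit 0, nat_lit 0, nat_lit 0, nat_lit 0, nat_lit 0,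
nat_lit 0x312b3814e68c2ec18995bc646, nat_lit 0, nat_lit 0, nat_lit 0x3260741f5bafbdba47c8, nat_lit 0, nat_lit 0,
nat_lit 0x661fd54ba939ea8e744109c2b16, nat_lit 0, nat_lit 0, nat_lit 0, nat_lit 0x1ba9d6aae6b37b3dab68ab16fe, nat_lit 0,
nat_lit 0, nat_lit 0, nat_lit 0, nat_lit 0, nat_lit 0, nat_lit 0,
nat_lit 0, nat_lit 0, nat_lit 0x81455b02389d15b632934f9408, nat_lit 0, nat_lit 0, nat_lit 0,
nat_lit 0, nat_lit 0, nat_lit 0, nat_lit 0x96261dd803478c8be8e09cde71e, nat_lit 0, nat_lit 0,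
nat_lit 0xa23f9078dbdd512a885b23f, nat_lit 0, nat_lit 0, nat_lit 0x37106d03f5c5de78f6f69abd9, nat_lit 0, nat_lit 0,
nat_lit 0, nat_lit 0, nat_lit 0x482844f1dc57ba8d0c72, nat_lit 0, nat_lit 0, nat_lit 0,
nat_lit 0, nat_lit 0, nat_lit 0, nat_lit 0, nat_lit 0x41483aafebbcb4304, nat_lit 0,
nat_lit 0, nat_lit 0, nat_lit 0, nat_lit 0, nat_lit 0, nat_lit 0,
nat_lit 0x12851d311a42c7e3, nat_lit 0x10e57babb826138793c, nat_lit 0x4c525e3bc8eed, nat_lit 0xe4267ef1861e92c75d8a02605, nat_lit 0xab51bceb451545c5e95d2c3, nat_lit 0x149227fe60019df5f3e349aa7e,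
nat_lit 0x103075c406265cca351208a07, nat_lit 0x4cafc121, nat_lit 0xa7b1e66b19b71e23f7963ffdc26, nat_lit 0x445b511b1336d, nat_lit 0x82de71983401c631b252e6ae5e, nat_lit 0x3466adcd3e7e2fc7a8f4f7a58364d,
nat_lit 0, nat_lit 0, nat_lit 0, nat_lit 0, nat_lit 0, nat_lit 0,
nat_lit 0x14b65598dacea70f4f89b64, nat_lit 0x3466adcd3e7e2fce6cb2b7a022cb2, nat_lit 0x1dc05e5876203879dc98a785ae, nat_lit 0, nat_lit 0, nat_lit 0,
nat_lit 0, nat_lit 0, nat_lit 0, nat_lit 0x8de80b563b0d591, nat_lit 0x22ab85865216023c75, nat_lit 0xb002a7630a0c8d479,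
nat_lit 0x512608917b2c5ef7ed1, nat_lit 0x22a50845dd008bdadc, nat_lit 0xd035a0f3c25e08f7ecfeab439, nat_lit 0xb58de06608e3ba7b82a57f35a1, nat_lit 0x296862392783f75517e6ab1e79c1, nat_lit 0x51b4912bca75bbf8fb74d10,
nat_lit 0, nat_lit 0, nat_lit 0, nat_lit 0, nat_lit 0, nat_lit 0,
nat_lit 0, nat_lit 0, nat_lit 0, nat_lit 0, nat_lit 0, nat_lit 0,
nat_lit 0, nat_lit 0, nat_lit 0, nat_lit 0, nat_lit 0, nat_lit 0,
nat_lit 0x388b37315e0cb3eaf79cf773c, nat_lit 0x594209c22, nat_lit 0x483c077619ace5267, nat_lit 0xae07aa67c8010db526c7951, nat_lit 0x2968f979ec914a04d68d53198520, nat_lit 0x4e1ae2ec4550cf37af56066d,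
nat_lit 0x14d83265191dedff38a466821d761, nat_lit 0x289b19f7dc6b20ce955542693b5f, nat_lit 0x250e54a1fe61c2092ecbeae7c470, nat_lit 0, nat_lit 0, nat_lit 0,
nat_lit 0, nat_lit 0, nat_lit 0, nat_lit 0, nat_lit 0, nat_lit 0,
nat_lit 0, nat_lit 0, nat_lit 0, nat_lit 0, nat_lit 0, nat_lit 0,
nat_lit 0, nat_lit 0, nat_lit 0, nat_lit 0x15f4679fe2523b87c28, nat_lit 0, nat_lit 0,
nat_lit 0x1145281f221ef9c045a70d2, nat_lit 0, nat_lit 0, nat_lit 0xb7fa44bdebb525d253, nat_lit 0, nat_lit 0,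
nat_lit 0x6b582440e3c847b, nat_lit 0, nat_lit 0, nat_lit 0, nat_lit 0, nat_lit 0,
nat_lit 0, nat_lit 0, nat_lit 0, nat_lit 0x24888ce26073e02469, nat_lit 0, nat_lit 0,
nat_lit 0, nat_lit 0, nat_lit 0, nat_lit 0, nat_lit 0, nat_lit 0,
nat_lit 0xa2bc4517cee3ad60e592c38, nat_lit 0, nat_lit 0, nat_lit 0x78933305343e0312, nat_lit 0, nat_lit 0,
nat_lit 0x82ece9a267679293a6e926d981, nat_lit 0, nat_lit 0, nat_lit 0, nat_lit 0, nat_lit 0x14d830138fbd61ba319221d7be739,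
nat_lit 0, nat_lit 0, nat_lit 0, nat_lit 0, nat_lit 0, nat_lit 0,
nat_lit 0, nat_lit 0x3a2862d706f95853d45c2ecf9, nat_lit 0, nat_lit 0, nat_lit 0, nat_lit 0,
nat_lit 0, nat_lit 0, nat_lit 0, nat_lit 0x81fbf71d19540817a35c75, nat_lit 0, nat_lit 0,
nat_lit 0x312b385b39b70007b3018cd55, nat_lit 0, nat_lit 0, nat_lit 0x17225a46aa4847d2a7d42ba08, nat_lit 0, nat_lit 0,
nat_lit 0, nat_lit 0xe44bf1aadf3b77b, nat_lit 0, nat_lit 0, nat_lit 0, nat_lit 0,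
nat_lit 0, nat_lit 0, nat_lit 0, nat_lit 0, nat_lit 0, nat_lit 0x64f478830a8a92bec5,
nat_lit 0, nat_lit 0, nat_lit 0, nat_lit 0, nat_lit 0, nat_lit 0,
nat_lit 0xb37c7eb6d891f56e4, nat_lit 0, nat_lit 0, nat_lit 0x14b6e1bb438f380667a0078, nat_lit 0, nat_lit 0,
nat_lit 0xc97fe433da4145e0740b9b, nat_lit 0, nat_lit 0, nat_lit 0x48a6f485a3a90d5e3, nat_lit 0, nat_lit 0,
nat_lit 0, nat_lit 0, nat_lit 0, nat_lit 0, nat_lit 0, nat_lit 0,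
nat_lit 0x21f6e6d2e84e8aa5f, nat_lit 0, nat_lit 0, nat_lit 0, nat_lit 0, nat_lit 0,
nat_lit 0, nat_lit 0, nat_lit 0, nat_lit 0xa3387141335082d0fb275d1273a, nat_lit 0, nat_lit 0,
nat_lit 0x11f8117372d69c9bb6e40, nat_lit 0, nat_lit 0, nat_lit 0x2c2ccc4a45c1377a6, nat_lit 0, nat_lit 0,
nat_lit 0, nat_lit 0x1e7f042ad53c5e23cf, nat_lit 0, nat_lit 0, nat_lit 0, nat_lit 0,
nat_lit 0, nat_lit 0, nat_lit 0, nat_lit 0, nat_lit 0, nat_lit 0x34e428f98666436417eaea8ad,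
nat_lit 0, nat_lit 0, nat_lit 0, nat_lit 0, nat_lit 0, nat_lit 0,
nat_lit 0x1fcdb4b98042ba49572422e670, nat_lit 0, nat_lit 0, nat_lit 0x8696a1a41778d8846bf65d097a1fb7, nat_lit 0, nat_lit 0,
nat_lit 0x91b6a05b89142895b431e5005, nat_lit 0, nat_lit 0, nat_lit 0, nat_lit 0, nat_lit 0x56b01415f8ada5876901,
nat_lit 0, nat_lit 0, nat_lit 0, nat_lit 0, nat_lit 0, nat_lit 0,
nat_lit 0, nat_lit 0x21d4063bde6d1c, nat_lit 0, nat_lit 0, nat_lit 0, nat_lit 0,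
nat_lit 0, nat_lit 0, nat_lit 0]

theorem len15 : cd15.length = 729 := by decide +kernel

theorem hC15 : allZ (chkN ap bsL ixL yW 7) cd15 (729 * 15) = true := by decide +kernel

end Cfsg.Agent.TcChain36.O7C
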