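import Mathlib
import Cfsg.Agent.TcChain36.O7C.Tab

set_option autoImplicit false
set_option maxRecDepth 1000000
set_option linter.all false

namespace Cfsg.Agent.TcChain36.O7C

open Cfsg.Agent.Lib.OutTree36 Cfsg.Agent.Lib.PcClass36

set_option Elab.async false

/-- The certificates of a block. -/
def cd16 : List ℕ := [
nat_lit 0x44c5ee035df, nat_lit 0x3302188e9475a06546a9, nat_lit 0x98e1f4d9c6c058edceda922, nat_lit 0xcf0b03adc8348be84be1204316923, nat_lit 0, nat_lit 0,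
nat_lit 0x12a1316e7c12cd9d8863e4afcc9, nat_lit 0, nat_lit 0, nat_lit 0x389267f304dc12f2, nat_lit 0x40d4c9140c55b6563, nat_lit 0x1d7d1cb178c14f74e287f4593,
nat_lit 0, nat_lit 0, nat_lit 0, nat_lit 0, nat_lit 0, nat_lit 0,
nat_lit 0x1292dc838bcdb62561894e8, nat_lit 0x234cada86840361caafb4f, nat_lit 0x751d7d4259b3753d3c3955db1f, nat_lit 0, nat_lit 0, nat_lit 0,
nat_lit 0, nat_lit 0, nat_lit 0, nat_lit 0x8055a767db6f747c07ebc20104, nat_lit 0x6823c66dfdc96ff3f5a62c5c0ef, nat_lit 0xb99e1a895fd033fc57c3e69,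
nat_lit 0x34d7eabbb4eb50e397a4d3cd1, nat_lit 0, nat_lit 0, nat_lit 0xdd12b0055, nat_lit 0, nat_lit 0,
nat_lit 0, nat_lit 0, nat_lit 0, nat_lit 0, nat_lit 0, nat_lit 0,
nat_lit 0, nat_lit 0, nat_lit 0, nat_lit 0, nat_lit 0, nat_lit 0,
nat_lit 0, nat_lit 0, nat_lit 0, nat_lit 0, nat_lit 0, nat_lit 0,
nat_lit 0x492776347eb982cb3870798df12, nat_lit 0x5dbcb88242db13633ce6fdac, nat_lit 0x2491f8fd600a7f838a4605f04, nat_lit 0x361e67ba4352f7382, nat_lit 0, nat_lit 0,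
nat_lit 0x332b69d397076e1ecc710af, nat_lit 0, nat_lit 0, nat_lit 0, nat_lit 0, nat_lit 0,
nat_lit 0, nat_lit 0, nat_lit 0, nat_lit 0, nat_lit 0, nat_lit 0,
nat_lit 0, nat_lit 0, nat_lit 0, nat_lit 0, nat_lit 0, nat_lit 0,
nat_lit 0, nat_lit 0, nat_lit 0, nat_lit 0xd65c1f4ae6b3c5d, nat_lit 0, nat_lit 0,
nat_lit 0x1ef91fdaae24ed829dd39dfda1, nat_lit 0, nat_lit 0, nat_lit 0x9b6e69183316c7c272d5bf5, nat_lit 0xb14d40abda011da5d9, nat_lit 0x9a5751802840de63ef6,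
nat_lit 0xba34a273a433a495e1c6963, nat_lit 0, nat_lit 0, nat_lit 0, nat_lit 0, nat_lit 0,
nat_lit 0, nat_lit 0, nat_lit 0, nat_lit 0x64bbb47890eaedfe95, nat_lit 0, nat_lit 0,
nat_lit 0, nat_lit 0, nat_lit 0, nat_lit 0, nat_lit 0, nat_lit 0,
nat_lit 0x10cabe6e3c1005116753c00837c, nat_lit 0, nat_lit 0, nat_lit 0x834160741b866135a20317222660f, nat_lit 0, nat_lit 0,
nat_lit 0xa1b5d742f34c00c320923, nat_lit 0x245b1632b15ea816e247734bf, nat_lit 0xa15f781bbdbbeed819, nat_lit 0, nat_lit 0, nat_lit 0x1d79c21f40cbbc5ffad711852b5eeb,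
nat_lit 0, nat_lit 0, nat_lit 0, nat_lit 0, nat_lit 0, nat_lit 0,
nat_lit 0, nat_lit 0x1c7087b22bf3872adb0e4, nat_lit 0, nat_lit 0, nat_lit 0, nat_lit 0,
nat_lit 0, nat_lit 0, nat_lit 0, nat_lit 0x7f5b26ff7ed3ccdc, nat_lit 0, nat_lit 0,
nat_lit 0xef1f6ba2f6d5679dc6ed5dd67f484, nat_lit 0, nat_lit 0, nat_lit 0x7d8b4f909fb657ed, nat_lit 0x1265f43c18f3b35d784c5b, nat_lit 0xf8f88c021b52ca8e1c882037e9,
nat_lit 0, nat_lit 0x47bba2ee7631864d3b40, nat_lit 0, nat_lit 0, nat_lit 0, nat_lit 0,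
nat_lit 0, nat_lit 0, nat_lit 0, nat_lit 0, nat_lit 0, nat_lit 0x12a43ef681b38b20d538c7956e5,
nat_lit 0, nat_lit 0, nat_lit 0, nat_lit 0, nat_lit 0, nat_lit 0,
nat_lit 0x3260741f599d4434d4f1, nat_lit 0, nat_lit 0, nat_lit 0x63d34dd339e9a140a90e, nat_lit 0, nat_lit 0,
nat_lit 0x24910c7ae0ee3b113672b64f8, nat_lit 0x82e042a3846ea9bb03afc68e21, nat_lit 0x28df351e1ad8aa3086, nat_lit 0x2cc853e9ec1b0dad7, nat_lit 0, nat_lit 0,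
nat_lit 0, nat_lit 0, nat_lit 0, nat_lit 0, nat_lit 0, nat_lit 0,
nat_lit 0xe55d7d51bcb7c50, nat_lit 0, nat_lit 0, nat_lit 0, nat_lit 0, nat_lit 0,
nat_lit 0, nat_lit 0, nat_lit 0, nat_lit 0x8055a767db713290249d9c3267, nat_lit 0, nat_lit 0,
nat_lit 0x11bc3d753ec924d923f209a, nat_lit 0, nat_lit 0, nat_lit 0x2da5664cbc5b1edd6a8f, nat_lit 0x250e76bad12267681ceb0f2fe249, nat_lit 0x1fe835150274167daf0f,
nat_lit 0, nat_lit 0x9a633e7cb853bccf00f, nat_lit 0, nat_lit 0, nat_lit 0, nat_lit 0,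
nat_lit 0, nat_lit 0, nat_lit 0, nat_lit 0, nat_lit 0, nat_lit 0x91b3c494f2b17c04c7286e34f,
nat_lit 0, nat_lit 0, nat_lit 0, nat_lit 0, nat_lit 0, nat_lit 0,
nat_lit 0x26271d75d6bb8ee041, nat_lit 0, nat_lit 0, nat_lit 0x68226262eac165bf782d4de61a2, nat_lit 0, nat_lit 0,
nat_lit 0x1eb3d59bc24f8565ce765e, nat_lit 0x2dab76509cdc6d59d62801a4, nat_lit 0x1eb3d5a1375a3d84d13f25, nat_lit 0, nat_lit 0, nat_lit 0x739474ea86d8f7a9c6e000e,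
nat_lit 0, nat_lit 0, nat_lit 0, nat_lit 0, nat_lit 0, nat_lit 0,
nat_lit 0, nat_lit 0x53f2ce2f3e025f4621e1, nat_lit 0, nat_lit 0, nat_lit 0, nat_lit 0,
nat_lit 0, nat_lit 0, nat_lit 0, nat_lit 0x469a4e5a2f0a811b5, nat_lit 0x1f68a569d48d928750821d8e0f, nat_lit 0x332a68da0e4a4429de77995,
nat_lit 0x450b5ee5229d0, nat_lit 0, nat_lit 0, nat_lit 0xa6cfce09fe0043a00e2abebc1b777a, nat_lit 0, nat_lit 0,
nat_lit 0x301d7d2c5b7a40a5c8224, nat_lit 0x2da5654d551b3964a3be, nat_lit 0x118fe6921ace0d61e5750ad, nat_lit 0, nat_lit 0, nat_lit 0,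
nat_lit 0, nat_lit 0, nat_lit 0, nat_lit 0x259adc225109a24c9, nat_lit 0xa5cd6bd276cab32b820ac3, nat_lit 0x5d41e3584ac6a972df0d042,
nat_lit 0, nat_lit 0, nat_lit 0, nat_lit 0, nat_lit 0, nat_lit 0,
nat_lit 0x82ece9a26767969c06fdee2f92, nat_lit 0x9517a84a2c13db27b85c440a94, nat_lit 0x1e7ad2d5e5d205beca, nat_lit 0x1849db29eef, nat_lit 0, nat_lit 0,
nat_lit 0xa1b89d0f098d97aa4c146, nat_lit 0, nat_lit 0, nat_lit 0, nat_lit 0, nat_lit 0,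
nat_lit 0, nat_lit 0, nat_lit 0, nat_lit 0, nat_lit 0, nat_lit 0,
nat_lit 0, nat_lit 0, nat_lit 0, nat_lit 0, nat_lit 0, nat_lit 0,
nat_lit 0, nat_lit 0, nat_lit 0, nat_lit 0xfd36e9656943b0633df22, nat_lit 0xf8f88bb3488b7d7fcaf8a101ee, nat_lit 0x20fd9d311fb2aaf7868902,
nat_lit 0x1049ef6ce656f9cdfb24e3fd2a5, nat_lit 0, nat_lit 0, nat_lit 0x96260d458e76ffef3c83f654275, nat_lit 0, nat_lit 0,
nat_lit 0, nat_lit 0, nat_lit 0, nat_lit 0, nat_lit 0, nat_lit 0,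
nat_lit 0, nat_lit 0, nat_lit 0, nat_lit 0, nat_lit 0, nat_lit 0,
nat_lit 0, nat_lit 0, nat_lit 0, nat_lit 0, nat_lit 0, nat_lit 0,
nat_lit 0x3e520cef5a9cdfd6a, nat_lit 0, nat_lit 0, nat_lit 0x8141855c5ecccbe68b007cac82, nat_lit 0, nat_lit 0,
nat_lit 0x3a1ba0e8f97295bb09e6, nat_lit 0x2e004fc9c113dcec114ddb4d66b, nat_lit 0xfd36e9663933f6fa39c6b, nat_lit 0xfd0f9d164a8f09, nat_lit 0, nat_lit 0,
nat_lit 0, nat_lit 0, nat_lit 0, nat_lit 0, nat_lit 0, nat_lit 0,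
nat_lit 0x1e7ad2d0a92dd836f5, nat_lit 0, nat_lit 0, nat_lit 0, nat_lit 0, nat_lit 0,
nat_lit 0, nat_lit 0, nat_lit 0, nat_lit 0x9f3729793b0efbfaa1, nat_lit 0, nat_lit 0,
nat_lit 0x1f8789b401dde560cbe5b0, nat_lit 0, nat_lit 0, nat_lit 0x1722695298d20b0369045b01e, nat_lit 0x751e2f2b37406ccfdad9cbd4e7, nat_lit 0x14921c0f02a5f4004abfb0274f,
nat_lit 0, nat_lit 0, nat_lit 0x1da7d327a48f326d6d9, nat_lit 0, nat_lit 0, nat_lit 0,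
nat_lit 0, nat_lit 0, nat_lit 0, nat_lit 0, nat_lit 0x14921c0efd9ffd944329df1679, nat_lit 0,
nat_lit 0, nat_lit 0, nat_lit 0, nat_lit 0, nat_lit 0, nat_lit 0,
nat_lit 0x345b2ece9286612bd2afc35e, nat_lit 0, nat_lit 0, nat_lit 0xa1b45989f3efe3ccf2860, nat_lit 0, nat_lit 0,
nat_lit 0x102fa3a600595fd8839ad7205, nat_lit 0x82e042a3846862981393b8f0e8, nat_lit 0x128bd27240ebdddadc51097, nat_lit 0, nat_lit 0x29207aa5df9675914c30aa9e, nat_lit 0,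
nat_lit 0, nat_lit 0, nat_lit 0, nat_lit 0, nat_lit 0, nat_lit 0,
nat_lit 0, nat_lit 0, nat_lit 0x11277900378d9b390e1, nat_lit 0, nat_lit 0, nat_lit 0,
nat_lit 0, nat_lit 0, nat_lit 0, nat_lit 0x37b0d6ee1eaed639a26, nat_lit 0, nat_lit 0,
nat_lit 0x1ef93d526a7b570cd3b1b7044d, nat_lit 0, nat_lit 0, nat_lit 0x751e2a891d54e50b6a1392525b, nat_lit 0x19ee9f062845520285881a9f8d2f, nat_lit 0x1ced2b693f4d1e0194d92c9250,
nat_lit 0x20e8b58e41525b2, nat_lit 0, nat_lit 0, nat_lit 0, nat_lit 0, nat_lit 0,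
nat_lit 0, nat_lit 0, nat_lit 0, nat_lit 0x1027fd06e5c8af379f6f4f, nat_lit 0, nat_lit 0,
nat_lit 0, nat_lit 0, nat_lit 0, nat_lit 0, nat_lit 0, nat_lit 0,
nat_lit 0xb58de06608e3ba781aa08ee317, nat_lit 0, nat_lit 0, nat_lit 0x661fd54b8e3f1240486c20b14f0, nat_lit 0, nat_lit 0,
nat_lit 0xf4d30, nat_lit 0x10306b31fd0339f90da153e51, nat_lit 0x19b072a8780e601b6875690ea, nat_lit 0, nat_lit 0x47ebdc0cf6d9a745c5de, nat_lit 0,
nat_lit 0, nat_lit 0, nat_lit 0, nat_lit 0, nat_lit 0, nat_lit 0,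
nat_lit 0, nat_lit 0, nat_lit 0x6b582c5d5d5ddb5, nat_lit 0, nat_lit 0, nat_lit 0,
nat_lit 0, nat_lit 0, nat_lit 0, nat_lit 0x332a1054a62ee713dcc1850, nat_lit 0, nat_lit 0,
nat_lit 0x11f29ed6c3d15de389ffd, nat_lit 0, nat_lit 0, nat_lit 0x2f2c7c3f77f1e10094f553640dc9, nat_lit 0x17226906eefb3b5fe2baf67b2, nat_lit 0x491d4bd18d7d3fe84df7094,
nat_lit 0, nat_lit 0, nat_lit 0xba6ed4b4279b795b416b67f, nat_lit 0, nat_lit 0, nat_lit 0,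
nat_lit 0, nat_lit 0, nat_lit 0, nat_lit 0, nat_lit 0x83be8ceb5d02, nat_lit 0,
nat_lit 0, nat_lit 0, nat_lit 0, nat_lit 0, nat_lit 0, nat_lit 0,
nat_lit 0x132adb1e02c4e674daa, nat_lit 0x491d8f1839c7ff7119abc52, nat_lit 0x296862392783f7563b308658f6d5, nat_lit 0xc4f6ad9f24b3c0d, nat_lit 0, nat_lit 0,
nat_lit 0x9ccd314b1fb0024e50b51b8c7b8, nat_lit 0, nat_lit 0, nat_lit 0x47bb9c357d12fd99b1bd, nat_lit 0x9fd0bca52f09362b5d30d55f740, nat_lit 0x2e1a1cf0f10a0fd76fe0d860467,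
nat_lit 0, nat_lit 0, nat_lit 0, nat_lit 0, nat_lit 0, nat_lit 0,
nat_lit 0xe59e00fdb542e90, nat_lit 0x4e84947ddc4da052eb665fd4dc0, nat_lit 0x6fcc787ef4c8a6, nat_lit 0, nat_lit 0, nat_lit 0,
nat_lit 0, nat_lit 0, nat_lit 0, nat_lit 0x1722673777971e4cb04c25014, nat_lit 0x2e004fc9c113dc346a5e682aa8e, nat_lit 0x1e6135afcbbb7376a3,
nat_lit 0x20db9b2774a194c4bac21e, nat_lit 0, nat_lit 0, nat_lit 0x1ff1e6229344a4a33467, nat_lit 0, nat_lit 0,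
nat_lit 0, nat_lit 0, nat_lit 0, nat_lit 0, nat_lit 0, nat_lit 0,
nat_lit 0, nat_lit 0, nat_lit 0, nat_lit 0, nat_lit 0, nat_lit 0,
nat_lit 0, nat_lit 0, nat_lit 0, nat_lit 0, nat_lit 0, nat_lit 0,
nat_lit 0x13562f69cdf40db13ebc1f8, nat_lit 0x41e10256f64370320890742945e, nat_lit 0x1b7a48bd79df35d8ab74d3, nat_lit 0x53ec49e35e9de831fe02533f6e7, nat_lit 0, nat_lit 0,
nat_lit 0x9fe6a7e119d1f7bc83060d7, nat_lit 0, nat_lit 0, nat_lit 0, nat_lit 0, nat_lit 0,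
nat_lit 0, nat_lit 0, nat_lit 0, nat_lit 0, nat_lit 0, nat_lit 0,
nat_lit 0, nat_lit 0, nat_lit 0, nat_lit 0, nat_lit 0, nat_lit 0,
nat_lit 0, nat_lit 0, nat_lit 0, nat_lit 0xcedb6cdd1b06305, nat_lit 0, nat_lit 0,
nat_lit 0x51f696802b75243e36ca6433c8, nat_lit 0, nat_lit 0, nat_lit 0xf8f88c1155b678f45c74697029, nat_lit 0x7334319b9fe7c1589c46f19, nat_lit 0x14b652ce3ea51c2e763caed,
nat_lit 0x7410953bc6e9877f2d6d, nat_lit 0, nat_lit 0, nat_lit 0, nat_lit 0, nat_lit 0,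
nat_lit 0, nat_lit 0, nat_lit 0, nat_lit 0x20e8b58e39bf8c9, nat_lit 0, nat_lit 0,
nat_lit 0, nat_lit 0, nat_lit 0, nat_lit 0, nat_lit 0, nat_lit 0,
nat_lit 0x2050127cf08b533712c8941392ff1, nat_lit 0, nat_lit 0, nat_lit 0x28e54712b0f3b9507c77aeb450ba, nat_lit 0, nat_lit 0,
nat_lit 0x3ec969cb6775, nat_lit 0x10307561eadd6bd7be4d77b3f, nat_lit 0x1d81923d085458e929250026d, nat_lit 0, nat_lit 0, nat_lit 0x24864585083,
nat_lit 0, nat_lit 0, nat_lit 0, nat_lit 0, nat_lit 0, nat_lit 0,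
nat_lit 0, nat_lit 0x2d8e005bd6712a78d8dd8091, nat_lit 0, nat_lit 0, nat_lit 0, nat_lit 0,
nat_lit 0, nat_lit 0, nat_lit 0, nat_lit 0x576947be9f7e38f13e3ba50e, nat_lit 0, nat_lit 0,
nat_lit 0x1029f4745083f8c08a41db5f5, nat_lit 0, nat_lit 0, nat_lit 0x491db7fe82c342b53e0dc3b, nat_lit 0xa2871922c1ae064d7114334, nat_lit 0x4100d91c2aa1097eb0a81631,
nat_lit 0, nat_lit 0x32739e91bb396314, nat_lit 0, nat_lit 0, nat_lit 0, nat_lit 0,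
nat_lit 0, nat_lit 0, nat_lit 0, nat_lit 0, nat_lit 0, nat_lit 0xe40d83d362c0c687f6,
nat_lit 0, nat_lit 0, nat_lit 0, nat_lit 0, nat_lit 0, nat_lit 0,
nat_lit 0x194189a6cd2e3b3804, nat_lit 0, nat_lit 0, nat_lit 0x52764c1750c9e0641244e611783f, nat_lit 0, nat_lit 0,
nat_lit 0x284bd89755eaa4c87e, nat_lit 0xac0717c2cbe1b2ef34c543, nat_lit 0x336d0772c9ca18b5e53b4e059, nat_lit 0x77229c5c772, nat_lit 0, nat_lit 0,
nat_lit 0, nat_lit 0, nat_lit 0, nat_lit 0, nat_lit 0, nat_lit 0,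
nat_lit 0xcedb1b0f4ef0ec1, nat_lit 0, nat_lit 0, nat_lit 0, nat_lit 0, nat_lit 0,
nat_lit 0, nat_lit 0, nat_lit 0, nat_lit 0x63c1e8924cc47a5, nat_lit 0, nat_lit 0,
nat_lit 0x198833a068bd4a687c950364b, nat_lit 0, nat_lit 0, nat_lit 0x491dbdce5cb42d9d9586126, nat_lit 0x65e100e067e3f54e005f4b58, nat_lit 0xf8f88b32689b00b586ded19dd4,
nat_lit 0, nat_lit 0xa7c568728384a35e59ef5c2896e, nat_lit 0, nat_lit 0, nat_lit 0, nat_lit 0,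
nat_lit 0, nat_lit 0, nat_lit 0, nat_lit 0, nat_lit 0, nat_lit 0x1da7d331909e07164ee,
nat_lit 0, nat_lit 0, nat_lit 0, nat_lit 0, nat_lit 0, nat_lit 0,
nat_lit 0x3b5b9c42a632d4ddde96ce516adfecc, nat_lit 0, nat_lit 0, nat_lit 0x5502640e101126fa3abb7129e12b, nat_lit 0, nat_lit 0,
nat_lit 0x19da20204cba180d62c2d15bc, nat_lit 0x605e21b2fabe3f3d6b7f54d0, nat_lit 0x9b6e69ac06970d7b74abec4, nat_lit 0, nat_lit 0, nat_lit 0x7463a02437092584ae32,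
nat_lit 0, nat_lit 0, nat_lit 0, nat_lit 0, nat_lit 0, nat_lit 0,
nat_lit 0, nat_lit 0x6840b0ef5333497edffe0f36, nat_lit 0, nat_lit 0, nat_lit 0, nat_lit 0,
nat_lit 0, nat_lit 0, nat_lit 0]

theorem len16 : cd16.length = 729 := by decide +kernel

theorem hC16 : allZ (chkN ap bsL ixL yW 7) cd16 (729 * 16) = true := by decide +kernel

end Cfsg.Agent.TcChain36.O7C
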