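import Mathlib
import Cfsg.Agent.TcChain36.O7C.Tab

set_option autoImplicit false
set_option maxRecDepth 1000000
set_option linter.all false

namespace Cfsg.Agent.TcChain36.O7C

open Cfsg.Agent.Lib.OutTree36 Cfsg.Agent.Lib.PcClass36

set_option Elab.async false

/-- The certificates of a block. -/
def cd17 : List ℕ := [
nat_lit 0x3c941660a98e0374e, nat_lit 0xd035c86ab8ee30b4d8d295dca, nat_lit 0x2d8b3324ee88bea5ef6501b7e2c8, nat_lit 0xa1b89d0f098d97aa4260b, nat_lit 0, nat_lit 0,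
nat_lit 0x128e8b51b7f73d0710d8807, nat_lit 0, nat_lit 0, nat_lit 0x128247847d56e2b8, nat_lit 0x11eb4a61d46d742fdb, nat_lit 0x467b007e4cb4fe47bb7314d7ac7f,
nat_lit 0, nat_lit 0, nat_lit 0, nat_lit 0, nat_lit 0, nat_lit 0,
nat_lit 0x14a83339b42bb8fd6a959ae, nat_lit 0xb802e6de9b0dfe3c3a, nat_lit 0x918a72de4d4bf08148fc24397, nat_lit 0, nat_lit 0, nat_lit 0,
nat_lit 0, nat_lit 0, nat_lit 0, nat_lit 0x11f7c295a941556b039ec, nat_lit 0x1090d9cf5baf4a6f695a0ebebe, nat_lit 0x6de1e2aaee126b,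
nat_lit 0xfd36e965c80d51f0891d8, nat_lit 0, nat_lit 0, nat_lit 0x3315fb1d703f14ad09e5ccb, nat_lit 0, nat_lit 0,
nat_lit 0, nat_lit 0, nat_lit 0, nat_lit 0, nat_lit 0, nat_lit 0,
nat_lit 0, nat_lit 0, nat_lit 0, nat_lit 0, nat_lit 0, nat_lit 0,
nat_lit 0, nat_lit 0, nat_lit 0, nat_lit 0, nat_lit 0, nat_lit 0,
nat_lit 0xa6a4ac15052b4d5acaeb4fc, nat_lit 0x34bd17619422f1317c, nat_lit 0xb530fb386c2bab6eeeca8a9, nat_lit 0x37106d03f5c54a9ccee91ee7f, nat_lit 0, nat_lit 0,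
nat_lit 0x64c0c9321f9e537, nat_lit 0, nat_lit 0, nat_lit 0, nat_lit 0, nat_lit 0,
nat_lit 0, nat_lit 0, nat_lit 0, nat_lit 0, nat_lit 0, nat_lit 0,
nat_lit 0, nat_lit 0, nat_lit 0, nat_lit 0, nat_lit 0, nat_lit 0,
nat_lit 0, nat_lit 0, nat_lit 0, nat_lit 0x1956129115d7ed6fd4, nat_lit 0, nat_lit 0,
nat_lit 0x512608917b2c5ef8545, nat_lit 0xf65a87ab692ff5111a1ed0, nat_lit 0xab51d6597499202f7576a56, nat_lit 0xb58dea811123cbf467e5b57cb5, nat_lit 0, nat_lit 0,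
nat_lit 0x787184a495e90bc235a0eab, nat_lit 0, nat_lit 0, nat_lit 0, nat_lit 0, nat_lit 0,
nat_lit 0, nat_lit 0, nat_lit 0, nat_lit 0x2c2973f8579b6415a, nat_lit 0, nat_lit 0,
nat_lit 0, nat_lit 0, nat_lit 0, nat_lit 0, nat_lit 0, nat_lit 0,
nat_lit 0x1ff0e20a81e967be42a6, nat_lit 0, nat_lit 0, nat_lit 0x48302e2a6b6eb185c4749d208fb, nat_lit 0x41e0ff4c8ecbf20914816a71588, nat_lit 0x1ba9d6aeadec425648f3b9ab68,
nat_lit 0x34d7eabbb4eb50e397a4d3cd2, nat_lit 0, nat_lit 0, nat_lit 0, nat_lit 0, nat_lit 0x16bb2aa8,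
nat_lit 0, nat_lit 0, nat_lit 0, nat_lit 0, nat_lit 0, nat_lit 0,
nat_lit 0, nat_lit 0xc918bd180832b461b01, nat_lit 0, nat_lit 0, nat_lit 0, nat_lit 0,
nat_lit 0, nat_lit 0, nat_lit 0, nat_lit 0x72cc5d6c015bf0e, nat_lit 0, nat_lit 0,
nat_lit 0xdf308d72e30b79c, nat_lit 0xa595961ce0634e197dc647, nat_lit 0x751e3c160b624fcb3dabf96b55, nat_lit 0x3826dbc6d0936ab40cdb8, nat_lit 0, nat_lit 0,
nat_lit 0, nat_lit 0xe8a7e663eaadd2361e7f5becf, nat_lit 0, nat_lit 0, nat_lit 0, nat_lit 0,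
nat_lit 0, nat_lit 0, nat_lit 0, nat_lit 0, nat_lit 0, nat_lit 0x24b53f0f50b2e4e32d,
nat_lit 0, nat_lit 0, nat_lit 0, nat_lit 0, nat_lit 0, nat_lit 0,
nat_lit 0x16638b054e771a122c636d, nat_lit 0, nat_lit 0, nat_lit 0xb0799f4b5c1d0479c2d4b0f, nat_lit 0x1daa2541cd8220dc900, nat_lit 0x5e75f635d1ca9d6a5d25f748a6e0,
nat_lit 0x55018ae079e6adbfba7cc51a73fe, nat_lit 0, nat_lit 0, nat_lit 0x1da6ccbda8d3d6a41e1, nat_lit 0, nat_lit 0,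
nat_lit 0, nat_lit 0, nat_lit 0, nat_lit 0, nat_lit 0, nat_lit 0,
nat_lit 0x3e41a5bc599817b5, nat_lit 0, nat_lit 0, nat_lit 0, nat_lit 0, nat_lit 0,
nat_lit 0, nat_lit 0, nat_lit 0, nat_lit 0x19ad098b29f3415c8bedf, nat_lit 0, nat_lit 0,
nat_lit 0xe4267ef1861e92c75d89f93d7, nat_lit 0xb922fc85f18edf1ab22ce50c4e, nat_lit 0x1e9a3c5a65862a51eba51, nat_lit 0xe957c7eadb99905f58e90cae7d5a, nat_lit 0, nat_lit 0,
nat_lit 0, nat_lit 0x13f114a4f2479e77c, nat_lit 0, nat_lit 0, nat_lit 0, nat_lit 0,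
nat_lit 0, nat_lit 0, nat_lit 0, nat_lit 0, nat_lit 0, nat_lit 0x7731c1531585938,
nat_lit 0, nat_lit 0, nat_lit 0, nat_lit 0, nat_lit 0, nat_lit 0,
nat_lit 0x1d7cef787a327d0c2c720984d, nat_lit 0, nat_lit 0, nat_lit 0x19ad0901d66169698c6d5, nat_lit 0x19b0728d5839b9d665415c428, nat_lit 0x8e6ee34a2e445ef2fcabe6,
nat_lit 0x61e3f2eabbf3d9a3f7a7c4f8, nat_lit 0, nat_lit 0, nat_lit 0, nat_lit 0, nat_lit 0x743148ffc454c87e9b09,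
nat_lit 0, nat_lit 0, nat_lit 0, nat_lit 0, nat_lit 0, nat_lit 0,
nat_lit 0, nat_lit 0x14a0275cab8525355f36219, nat_lit 0, nat_lit 0, nat_lit 0, nat_lit 0,
nat_lit 0, nat_lit 0, nat_lit 0, nat_lit 0x369509f8d44c751427788, nat_lit 0x3e448b74f4d175818b754, nat_lit 0x41e0fd14b70fcab66af42466ca2,
nat_lit 0x27cd68ecfd4583ae87d1f, nat_lit 0, nat_lit 0, nat_lit 0x5d325d24462777d6f934c3d, nat_lit 0, nat_lit 0,
nat_lit 0x34b9da83023b8d4f32, nat_lit 0x13db083f8f4fe8df811c84c, nat_lit 0x5e39915f4641a75d1dae5b1210e0, nat_lit 0, nat_lit 0, nat_lit 0,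
nat_lit 0, nat_lit 0, nat_lit 0, nat_lit 0xda6aa1f7aa0f45e, nat_lit 0x2b5a41ee5c92d77b9d9b9ecdf, nat_lit 0xce3fed73576732f,
nat_lit 0, nat_lit 0, nat_lit 0, nat_lit 0, nat_lit 0, nat_lit 0,
nat_lit 0x19ad0901d66169698c94d, nat_lit 0x2dfea5eb1d25a78ef17a3f2b, nat_lit 0xb9a1624207ae4ee05912aa3, nat_lit 0x3ae1015d2fa3b940e4c9eeabf, nat_lit 0, nat_lit 0,
nat_lit 0x3826861273856f17e8a1d, nat_lit 0, nat_lit 0, nat_lit 0, nat_lit 0, nat_lit 0,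
nat_lit 0, nat_lit 0, nat_lit 0, nat_lit 0, nat_lit 0, nat_lit 0,
nat_lit 0, nat_lit 0, nat_lit 0, nat_lit 0, nat_lit 0, nat_lit 0,
nat_lit 0, nat_lit 0, nat_lit 0, nat_lit 0xe8ab2122b28893c26d2940a2e, nat_lit 0x50f7461e0c221d1d42057a75e18, nat_lit 0x8c0bcec12fec9fe8357d2c341a1,
nat_lit 0x834160638929add964287abf28d0a, nat_lit 0, nat_lit 0, nat_lit 0x6108f547ee04ceafcded, nat_lit 0, nat_lit 0,
nat_lit 0, nat_lit 0, nat_lit 0, nat_lit 0, nat_lit 0, nat_lit 0,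
nat_lit 0, nat_lit 0, nat_lit 0, nat_lit 0, nat_lit 0, nat_lit 0,
nat_lit 0, nat_lit 0, nat_lit 0, nat_lit 0, nat_lit 0, nat_lit 0,
nat_lit 0x1daaae803d398f94449, nat_lit 0, nat_lit 0, nat_lit 0x2920bc1979e235e2457848ca, nat_lit 0xf08fac60110e000dde7f6f3, nat_lit 0x4990de04a3ff133a42baadab20c,
nat_lit 0x116c32764dccf4fa55e39bf73e1, nat_lit 0, nat_lit 0, nat_lit 0x24d0ed901a1f5f4c19, nat_lit 0, nat_lit 0,
nat_lit 0, nat_lit 0, nat_lit 0, nat_lit 0, nat_lit 0, nat_lit 0,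
nat_lit 0x1956b670e9d91c0498, nat_lit 0, nat_lit 0, nat_lit 0, nat_lit 0, nat_lit 0,
nat_lit 0, nat_lit 0, nat_lit 0, nat_lit 0x91b695cb43a85cab1a9322521, nat_lit 0, nat_lit 0,
nat_lit 0x27449b4e5, nat_lit 0x14d830138fbd58c993b57dd2262b7, nat_lit 0x576e1b58169ff92f381d15a5, nat_lit 0x576947c35aede593097cc5a9, nat_lit 0, nat_lit 0,
nat_lit 0, nat_lit 0, nat_lit 0x43bfda9c990c5152db8a3df4, nat_lit 0, nat_lit 0, nat_lit 0,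
nat_lit 0, nat_lit 0, nat_lit 0, nat_lit 0, nat_lit 0xb14d9e47d6be7003f0, nat_lit 0,
nat_lit 0, nat_lit 0, nat_lit 0, nat_lit 0, nat_lit 0, nat_lit 0,
nat_lit 0x1cc8efbaf25b11af704ef92e, nat_lit 0, nat_lit 0, nat_lit 0x1284131ec7af7a5f6bed984, nat_lit 0xe8ab2122b28bd868ea1bf5614, nat_lit 0x1b92c866a8cc52aae5673e65c,
nat_lit 0x674d8fd71df4bea2f1c, nat_lit 0, nat_lit 0, nat_lit 0, nat_lit 0x102770a65dc9def914a5af6df, nat_lit 0,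
nat_lit 0, nat_lit 0, nat_lit 0, nat_lit 0, nat_lit 0, nat_lit 0,
nat_lit 0, nat_lit 0, nat_lit 0x1ba9d6aae6b37b3dab68aa7bc3, nat_lit 0, nat_lit 0, nat_lit 0,
nat_lit 0, nat_lit 0, nat_lit 0, nat_lit 0xc903ed7ed4574830ee2, nat_lit 0, nat_lit 0,
nat_lit 0x14af20738dec29d3c71, nat_lit 0x53dd4ea9b5c91d8fb87163c5b44, nat_lit 0x9140f7ee04c078910e0b09, nat_lit 0x11bc3d75410cd106717af91, nat_lit 0, nat_lit 0,
nat_lit 0x148ccf3f56447b26ad7, nat_lit 0, nat_lit 0, nat_lit 0, nat_lit 0, nat_lit 0,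
nat_lit 0, nat_lit 0, nat_lit 0, nat_lit 0x430bfcbebc1b22ee, nat_lit 0, nat_lit 0,
nat_lit 0, nat_lit 0, nat_lit 0, nat_lit 0, nat_lit 0, nat_lit 0,
nat_lit 0x73416208a6739547, nat_lit 0, nat_lit 0, nat_lit 0x2d1115ea2d6adee55b76e8a1, nat_lit 0x330dc3f26cbfc7d4119cb90, nat_lit 0x11ccae78b56d5650af,
nat_lit 0x3971e7d02416fe4b12a4e1b627c9, nat_lit 0, nat_lit 0, nat_lit 0, nat_lit 0xa578ad377b5650cb0fd8fd, nat_lit 0,
nat_lit 0, nat_lit 0, nat_lit 0, nat_lit 0, nat_lit 0, nat_lit 0,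
nat_lit 0, nat_lit 0, nat_lit 0x45a65f2774981db7d, nat_lit 0, nat_lit 0, nat_lit 0,
nat_lit 0, nat_lit 0, nat_lit 0, nat_lit 0x11c44b8d9905e287ffcc167, nat_lit 0, nat_lit 0,
nat_lit 0x5970ff0a6c9918c625c5098bc796, nat_lit 0xd035b12356fcc45caef1dfc79, nat_lit 0x29207aa5df9673f2abdae790, nat_lit 0xa23f9078dbdd512a885b240, nat_lit 0, nat_lit 0,
nat_lit 0, nat_lit 0, nat_lit 0x10c34c8fc0735f98f451e65020e, nat_lit 0, nat_lit 0, nat_lit 0,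
nat_lit 0, nat_lit 0, nat_lit 0, nat_lit 0, nat_lit 0x164ea5f363e133cfb1ec7ed4b8f404, nat_lit 0,
nat_lit 0, nat_lit 0, nat_lit 0, nat_lit 0, nat_lit 0, nat_lit 0,
nat_lit 0x137e7dd218c219, nat_lit 0x3a38cfafaa80fa58eab6, nat_lit 0xd035b62b8db64287538f785fe, nat_lit 0xa1b89d0f098b8179e1deb, nat_lit 0, nat_lit 0,
nat_lit 0x73b8b6fae9652120, nat_lit 0, nat_lit 0, nat_lit 0xa9ad921b45523fddbee, nat_lit 0x82e042a3846611ba0595e77362, nat_lit 0x58e87f43a7ad3d238cd60ab0,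
nat_lit 0, nat_lit 0, nat_lit 0, nat_lit 0, nat_lit 0, nat_lit 0,
nat_lit 0x11b786b9be67c7, nat_lit 0x10bc37fab275e8b99b64bcd3817, nat_lit 0x270fb5d16946f80896652ed652b9d, nat_lit 0, nat_lit 0, nat_lit 0,
nat_lit 0, nat_lit 0, nat_lit 0, nat_lit 0x2df58e724f81b4ecf9938d0f, nat_lit 0x3925b4edff75ca38d17b6, nat_lit 0x34d02a56ebed049a2dc98a741,
nat_lit 0xb58de06608e3ba781aa0904c4d, nat_lit 0, nat_lit 0, nat_lit 0xb0b2eb2bb6c017, nat_lit 0, nat_lit 0,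
nat_lit 0, nat_lit 0, nat_lit 0, nat_lit 0, nat_lit 0, nat_lit 0,
nat_lit 0, nat_lit 0, nat_lit 0, nat_lit 0, nat_lit 0, nat_lit 0,
nat_lit 0, nat_lit 0, nat_lit 0, nat_lit 0, nat_lit 0, nat_lit 0,
nat_lit 0x2f34e98fe538d29c1ee14edac666, nat_lit 0x8c0bce94d8ce7697e22bd95adbe, nat_lit 0x41e096755274e72cc4f8be0ea83, nat_lit 0xe6480b7c38e9685e1ae7eef29, nat_lit 0, nat_lit 0,
nat_lit 0x2260544a51b1df73fde860, nat_lit 0, nat_lit 0, nat_lit 0, nat_lit 0, nat_lit 0,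
nat_lit 0, nat_lit 0, nat_lit 0, nat_lit 0, nat_lit 0, nat_lit 0,
nat_lit 0, nat_lit 0, nat_lit 0, nat_lit 0, nat_lit 0, nat_lit 0,
nat_lit 0, nat_lit 0, nat_lit 0, nat_lit 0x5dbcba1936c2f1e60936d2b1, nat_lit 0, nat_lit 0,
nat_lit 0xac81b40e18ec1a1c204, nat_lit 0x2df4eb238a02ba26bc11b16a, nat_lit 0xded14f50dc7fbd656c8cadcfb0, nat_lit 0x198833a068bd4a687c950d187, nat_lit 0, nat_lit 0,
nat_lit 0xb0f80350cb, nat_lit 0, nat_lit 0, nat_lit 0, nat_lit 0, nat_lit 0,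
nat_lit 0, nat_lit 0, nat_lit 0, nat_lit 0x13b349ef9799e68cb1, nat_lit 0, nat_lit 0,
nat_lit 0, nat_lit 0, nat_lit 0, nat_lit 0, nat_lit 0, nat_lit 0,
nat_lit 0x3260741f5bafbdba4e35, nat_lit 0, nat_lit 0, nat_lit 0x82ece9a26767969c06fddacc1b, nat_lit 0x41e0fd14bcc5b4f4e3dd2719e66, nat_lit 0x409d1ac84578bf29,
nat_lit 0x2050127ce801f4c656ea3657ac275, nat_lit 0, nat_lit 0, nat_lit 0, nat_lit 0, nat_lit 0x16e3eef856eb48d8f3e,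
nat_lit 0, nat_lit 0, nat_lit 0, nat_lit 0, nat_lit 0, nat_lit 0,
nat_lit 0, nat_lit 0xb14d7520f95c83cbfa, nat_lit 0, nat_lit 0, nat_lit 0, nat_lit 0,
nat_lit 0, nat_lit 0, nat_lit 0, nat_lit 0x34d02a475adfab742a5755534, nat_lit 0, nat_lit 0,
nat_lit 0x81fbf71d19540817a35c74, nat_lit 0x4c18d4084a3db52699899cc84, nat_lit 0x41e0fa884f02149bf38a117dbe0, nat_lit 0x95e0ac3915274929e17f55f222a, nat_lit 0, nat_lit 0,
nat_lit 0, nat_lit 0xf8f88bb3488b7d7fcaf89eda70, nat_lit 0, nat_lit 0, nat_lit 0, nat_lit 0,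
nat_lit 0, nat_lit 0, nat_lit 0, nat_lit 0, nat_lit 0, nat_lit 0x3a9433e3853c5bbb6d4057be3345,
nat_lit 0, nat_lit 0, nat_lit 0, nat_lit 0, nat_lit 0, nat_lit 0,
nat_lit 0x1930af0f50180ff991, nat_lit 0, nat_lit 0, nat_lit 0x4c188b9d84ef7ea8c93131062, nat_lit 0x1a95da634838a4815e4d3d401f23d, nat_lit 0x5b6bfe238c44701d16f59a3f,
nat_lit 0x12841612fc1c3423684b7ca, nat_lit 0, nat_lit 0, nat_lit 0xba6902b5622ba7d6c5fabae, nat_lit 0, nat_lit 0,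
nat_lit 0, nat_lit 0, nat_lit 0, nat_lit 0, nat_lit 0, nat_lit 0,
nat_lit 0x2d2a1f3b4d3af3, nat_lit 0, nat_lit 0, nat_lit 0, nat_lit 0, nat_lit 0,
nat_lit 0, nat_lit 0, nat_lit 0, nat_lit 0x116c0a3e5fcce00056e470ecd7f, nat_lit 0, nat_lit 0,
nat_lit 0x1aef4add4ee, nat_lit 0xe4267ef1308ee7675ae9612e3, nat_lit 0x1145282804e1174070b7e98, nat_lit 0x19d575b42a9cea54506ae6867, nat_lit 0, nat_lit 0,
nat_lit 0, nat_lit 0x128e96071bc4fc0d3abd33d, nat_lit 0, nat_lit 0, nat_lit 0, nat_lit 0,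
nat_lit 0, nat_lit 0, nat_lit 0, nat_lit 0, nat_lit 0, nat_lit 0x381d10e327e6a780,
nat_lit 0, nat_lit 0, nat_lit 0, nat_lit 0, nat_lit 0, nat_lit 0,
nat_lit 0x1002167490085852eda0ae2170c, nat_lit 0, nat_lit 0, nat_lit 0x2df58e724f83b8fb5a3de5fd, nat_lit 0xba68e94033cdfd9675ab668, nat_lit 0x2d1115ea424fe22422da4376,
nat_lit 0x63d2b573c305271ae652, nat_lit 0, nat_lit 0, nat_lit 0, nat_lit 0, nat_lit 0x3a2862d706f95853d45c33a4d,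
nat_lit 0, nat_lit 0, nat_lit 0, nat_lit 0, nat_lit 0, nat_lit 0,
nat_lit 0, nat_lit 0x8b92d0885a5017d, nat_lit 0, nat_lit 0, nat_lit 0, nat_lit 0,
nat_lit 0, nat_lit 0, nat_lit 0]

theorem len17 : cd17.length = 729 := by decide +kernel

theorem hC17 : allZ (chkN ap bsL ixL yW 7) cd17 (729 * 17) = true := by decide +kernel

end Cfsg.Agent.TcChain36.O7C
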