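import Mathlib
import Cfsg.Agent.TcChain36.O7C.Tab

set_option autoImplicit false
set_option maxRecDepth 1000000
set_option linter.all false

namespace Cfsg.Agent.TcChain36.O7C

open Cfsg.Agent.Lib.OutTree36 Cfsg.Agent.Lib.PcClass36

set_option Elab.async false

/-- The certificates of a block. -/
def cd18 : List ℕ := [
nat_lit 0xd3cc008056, nat_lit 0x2d3b2c3fed921c80f377516c, nat_lit 0x28a1c4330403aa28b7, nat_lit 0xe6a, nat_lit 0x81fb317489c228dffccdf6, nat_lit 0x345b2ece94251fd47820d123,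
nat_lit 0x19667abc62d, nat_lit 0x751e3678889764f158dcae69ed, nat_lit 0x8055a76816d57af8e73f2d662e, nat_lit 0x9e0f1b22f133fae9ddd7c33, nat_lit 0x1b35b71fd508bbd37b53a708fc, nat_lit 0x80cd81020ba4bf6442f8fab40e,
nat_lit 0, nat_lit 0, nat_lit 0, nat_lit 0, nat_lit 0, nat_lit 0,
nat_lit 0x445ec159f91a8, nat_lit 0x955d52906baa3526fd42855687, nat_lit 0xe71555ead00f6561cbe91, nat_lit 0, nat_lit 0, nat_lit 0,
nat_lit 0, nat_lit 0, nat_lit 0, nat_lit 0x302893aec1, nat_lit 0xb15117aadbb1b177b962d36, nat_lit 0x138e846056732c247,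
nat_lit 0x98eeb6ea, nat_lit 0x1ba9d6852d14ef0c693979a600, nat_lit 0x2d1115ea78a3a20ae1f94e8a, nat_lit 0x95af, nat_lit 0xe714bac4a9f9ac101fb0c, nat_lit 0xd035c02771457ca55c8fca127,
nat_lit 0, nat_lit 0, nat_lit 0, nat_lit 0, nat_lit 0, nat_lit 0,
nat_lit 0, nat_lit 0, nat_lit 0, nat_lit 0, nat_lit 0, nat_lit 0,
nat_lit 0, nat_lit 0, nat_lit 0, nat_lit 0, nat_lit 0, nat_lit 0,
nat_lit 0x7dcb9121d9e01db78e8, nat_lit 0xe4a53e19d47a9eb, nat_lit 0x91178a24ffa1a12c74003a, nat_lit 0x11ead4d5ff6b552d8c71f, nat_lit 0x91b422cebd23f7ceb37993be5, nat_lit 0xe963045ad50ed3816b6c2145036a,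
nat_lit 0x90439d33c0957cbc06, nat_lit 0x82e053c91a41ba881c43f1574d, nat_lit 0x296861f128748fbff6c9b7d97261, nat_lit 0, nat_lit 0, nat_lit 0,
nat_lit 0, nat_lit 0, nat_lit 0, nat_lit 0, nat_lit 0, nat_lit 0,
nat_lit 0, nat_lit 0, nat_lit 0, nat_lit 0, nat_lit 0, nat_lit 0,
nat_lit 0, nat_lit 0, nat_lit 0, nat_lit 0x42da6ae7968f45ff, nat_lit 0, nat_lit 0,
nat_lit 0xbe1d6f315a5, nat_lit 0, nat_lit 0, nat_lit 0x746100b3fb61108d, nat_lit 0, nat_lit 0,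
nat_lit 0x17ca924cc1f525168f5578, nat_lit 0, nat_lit 0, nat_lit 0, nat_lit 0, nat_lit 0,
nat_lit 0, nat_lit 0, nat_lit 0, nat_lit 0xcc01d7b93dee5d, nat_lit 0, nat_lit 0,
nat_lit 0, nat_lit 0, nat_lit 0, nat_lit 0, nat_lit 0, nat_lit 0,
nat_lit 0x46c281fbcb02149c7896, nat_lit 0, nat_lit 0, nat_lit 0x2c2ccc4a5165c576d, nat_lit 0, nat_lit 0,
nat_lit 0xdfa2ca383c1337a699, nat_lit 0, nat_lit 0, nat_lit 0, nat_lit 0, nat_lit 0xced12f4c4071a88,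
nat_lit 0, nat_lit 0, nat_lit 0, nat_lit 0, nat_lit 0, nat_lit 0,
nat_lit 0, nat_lit 0x21fb6a3f5b61b06b1228c, nat_lit 0, nat_lit 0, nat_lit 0, nat_lit 0,
nat_lit 0, nat_lit 0, nat_lit 0, nat_lit 0x3e0da71fa32d, nat_lit 0, nat_lit 0,
nat_lit 0x11378a2b7c6, nat_lit 0, nat_lit 0, nat_lit 0x2626f92b8a96072e96, nat_lit 0, nat_lit 0,
nat_lit 0, nat_lit 0x6108f54a33ff1b0caa6d, nat_lit 0, nat_lit 0, nat_lit 0, nat_lit 0,
nat_lit 0, nat_lit 0, nat_lit 0, nat_lit 0, nat_lit 0, nat_lit 0x14af2079be684652a2d,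
nat_lit 0, nat_lit 0, nat_lit 0, nat_lit 0, nat_lit 0, nat_lit 0,
nat_lit 0x8de814cc6cb24ae, nat_lit 0, nat_lit 0, nat_lit 0x30424a43fc, nat_lit 0, nat_lit 0,
nat_lit 0x2458b3e6f045d20df, nat_lit 0, nat_lit 0, nat_lit 0x2896a6c80bf158ef56df1, nat_lit 0, nat_lit 0,
nat_lit 0, nat_lit 0, nat_lit 0, nat_lit 0, nat_lit 0, nat_lit 0,
nat_lit 0xcbfffe40c8d9bcc6d63, nat_lit 0, nat_lit 0, nat_lit 0, nat_lit 0, nat_lit 0,
nat_lit 0, nat_lit 0, nat_lit 0, nat_lit 0x452a511b2a8ed, nat_lit 0, nat_lit 0,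
nat_lit 0x63c1e8924ce61da, nat_lit 0, nat_lit 0, nat_lit 0x73416208a6752861, nat_lit 0, nat_lit 0,
nat_lit 0, nat_lit 0x3204869926cf699c8199, nat_lit 0, nat_lit 0, nat_lit 0, nat_lit 0,
nat_lit 0, nat_lit 0, nat_lit 0, nat_lit 0, nat_lit 0, nat_lit 0x6061f2b5da61fe16,
nat_lit 0, nat_lit 0, nat_lit 0, nat_lit 0, nat_lit 0, nat_lit 0,
nat_lit 0x38268612be46e184ddbc7, nat_lit 0, nat_lit 0, nat_lit 0x8f73135a0bd6c6d6cf719d, nat_lit 0, nat_lit 0,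
nat_lit 0x38268612be46e184ddb81, nat_lit 0, nat_lit 0, nat_lit 0, nat_lit 0, nat_lit 0x30d5a117a89b978af307c,
nat_lit 0, nat_lit 0, nat_lit 0, nat_lit 0, nat_lit 0, nat_lit 0,
nat_lit 0, nat_lit 0x2cc85406b12c9a961, nat_lit 0, nat_lit 0, nat_lit 0, nat_lit 0,
nat_lit 0, nat_lit 0, nat_lit 0, nat_lit 0x2602b02983608b74b, nat_lit 0x8e5ebc26f6220d0, nat_lit 0x218442c9bf464e309b,
nat_lit 0x38415ce9a1716c13, nat_lit 0xe8a7e663eaadd2361e7f5bc66, nat_lit 0xe8a7e7f87075ccc72f5b1bc78, nat_lit 0x2da565589990bb66465a, nat_lit 0xe73406f81a0788898f4c36b3d, nat_lit 0x501e5fd9ba067568ae36209,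
nat_lit 0x1b10966983e98bcd44390e, nat_lit 0x1fce070cb57f85d5759c36e0b7, nat_lit 0x41e0c50c9f242315aeba50e16e4, nat_lit 0, nat_lit 0, nat_lit 0,
nat_lit 0, nat_lit 0, nat_lit 0, nat_lit 0x15a0e4a9911c606, nat_lit 0x199dc76eaddb2068936d88146b73f, nat_lit 0x82de71983401c631b252e74999,
nat_lit 0, nat_lit 0, nat_lit 0, nat_lit 0, nat_lit 0, nat_lit 0,
nat_lit 0x6b582c7f09b5e14, nat_lit 0xfdc393fedd6, nat_lit 0x1a8fd33cf29ec0252d4c06, nat_lit 0x16aaa9d52053fcb0a65, nat_lit 0x381ab07005dff85c69806ddd5, nat_lit 0xf8f88d260e99eb009de7dc3de1,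
nat_lit 0x1c7f223a26ffed763, nat_lit 0x51b48b75e2adaa3c3ab0fee, nat_lit 0x1d734a543354e1e78392f35a4, nat_lit 0, nat_lit 0, nat_lit 0,
nat_lit 0, nat_lit 0, nat_lit 0, nat_lit 0, nat_lit 0, nat_lit 0,
nat_lit 0, nat_lit 0, nat_lit 0, nat_lit 0, nat_lit 0, nat_lit 0,
nat_lit 0, nat_lit 0, nat_lit 0, nat_lit 0x16b14eaa7306b2, nat_lit 0x248aa0667d6, nat_lit 0x226004e19b83a601b932fb,
nat_lit 0xb1b3d7311e, nat_lit 0x8e6ee3493e9cb08a32729c, nat_lit 0x1ba9d69467789d72c56ddeb8d6, nat_lit 0xfd36e965c7ad71342f5e9, nat_lit 0xb15117aadb8cd1cc3d99d47, nat_lit 0x8c0412b29fa585b124e4a1d2fc9,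
nat_lit 0, nat_lit 0, nat_lit 0, nat_lit 0, nat_lit 0, nat_lit 0,
nat_lit 0, nat_lit 0, nat_lit 0, nat_lit 0, nat_lit 0, nat_lit 0,
nat_lit 0, nat_lit 0, nat_lit 0, nat_lit 0, nat_lit 0, nat_lit 0,
nat_lit 0x4a6996507141, nat_lit 0, nat_lit 0, nat_lit 0x15e285153fb2928, nat_lit 0, nat_lit 0,
nat_lit 0x11f800bb2e41a8adc181c, nat_lit 0, nat_lit 0, nat_lit 0x7deb633d65825722, nat_lit 0, nat_lit 0,
nat_lit 0, nat_lit 0, nat_lit 0, nat_lit 0, nat_lit 0, nat_lit 0,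
nat_lit 0x5eef53a662dc48bc, nat_lit 0, nat_lit 0, nat_lit 0, nat_lit 0, nat_lit 0,
nat_lit 0, nat_lit 0, nat_lit 0, nat_lit 0xb37c7d8c7436eaf0f, nat_lit 0, nat_lit 0,
nat_lit 0x2d0bef019fb6fe7fe, nat_lit 0, nat_lit 0, nat_lit 0x2718b0718a8ddfdea5, nat_lit 0, nat_lit 0,
nat_lit 0, nat_lit 0, nat_lit 0x5e37fcf9b575762c6feee5ec, nat_lit 0, nat_lit 0, nat_lit 0,
nat_lit 0, nat_lit 0, nat_lit 0, nat_lit 0, nat_lit 0x2dfea3ddd0b3d42743733255, nat_lit 0,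
nat_lit 0, nat_lit 0, nat_lit 0, nat_lit 0, nat_lit 0, nat_lit 0,
nat_lit 0x2798969dbe6063, nat_lit 0, nat_lit 0, nat_lit 0x64f9d0b342b2f17e84, nat_lit 0, nat_lit 0,
nat_lit 0xcef6bf459c23e52, nat_lit 0, nat_lit 0, nat_lit 0, nat_lit 0x4b3134cb44a17e1de72f, nat_lit 0,
nat_lit 0, nat_lit 0, nat_lit 0, nat_lit 0, nat_lit 0, nat_lit 0,
nat_lit 0, nat_lit 0, nat_lit 0x1223c5b41cab32c778ad04ae524, nat_lit 0, nat_lit 0, nat_lit 0,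
nat_lit 0, nat_lit 0, nat_lit 0, nat_lit 0xab4160f88be6dee, nat_lit 0, nat_lit 0,
nat_lit 0x2d5c75701eb863, nat_lit 0, nat_lit 0, nat_lit 0x3afcc8ce4365efa56d7a0b2d5, nat_lit 0, nat_lit 0,
nat_lit 0x3ee323233903379, nat_lit 0, nat_lit 0, nat_lit 0, nat_lit 0, nat_lit 0,
nat_lit 0, nat_lit 0, nat_lit 0, nat_lit 0x24693256505, nat_lit 0, nat_lit 0,
nat_lit 0, nat_lit 0, nat_lit 0, nat_lit 0, nat_lit 0, nat_lit 0,
nat_lit 0x7376cc6921369bd8, nat_lit 0, nat_lit 0, nat_lit 0x5b856e32ba591b55d895948e, nat_lit 0, nat_lit 0,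
nat_lit 0x16fd0622dc237b0, nat_lit 0, nat_lit 0, nat_lit 0, nat_lit 0x11e991662154932c19, nat_lit 0,
nat_lit 0, nat_lit 0, nat_lit 0, nat_lit 0, nat_lit 0, nat_lit 0,
nat_lit 0, nat_lit 0, nat_lit 0x19599c53b0103d005ea7c65f5, nat_lit 0, nat_lit 0, nat_lit 0,
nat_lit 0, nat_lit 0, nat_lit 0, nat_lit 0x20239e72097f00d18269ff, nat_lit 0, nat_lit 0,
nat_lit 0xab593304ed48344, nat_lit 0, nat_lit 0, nat_lit 0xe34e2a0a7b129b7d7b, nat_lit 0, nat_lit 0,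
nat_lit 0, nat_lit 0, nat_lit 0x6823c66dfdc96ff3f5a7791949c, nat_lit 0, nat_lit 0, nat_lit 0,
nat_lit 0, nat_lit 0, nat_lit 0, nat_lit 0, nat_lit 0xce05fbe3e352868c74f, nat_lit 0,
nat_lit 0, nat_lit 0, nat_lit 0, nat_lit 0, nat_lit 0, nat_lit 0,
nat_lit 0x6b58389a6e1907e, nat_lit 0xe594a4d99db, nat_lit 0x1eb7f888889d0ed97e8685, nat_lit 0x22134ca75c4f1a4e90, nat_lit 0x1cc7ed1fda6d207c1017d996, nat_lit 0x1090d9cf5af6cd531d4a637a26,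
nat_lit 0x7d8b4f909fb6746b, nat_lit 0x19da227dc814170490a79fb98, nat_lit 0xd035c02730aec6bea68710b79, nat_lit 0x35afeb3aa0ef063529a01, nat_lit 0x5d28516ce0e054f12c5e2a0a6641, nat_lit 0x23068e71c9b5d218ddd691,
nat_lit 0, nat_lit 0, nat_lit 0, nat_lit 0, nat_lit 0, nat_lit 0,
nat_lit 0x23052da22824bd0da, nat_lit 0x34e435f2991cd62df9f2ec18b, nat_lit 0xd0346ce7bbe9b5356a58bec93, nat_lit 0, nat_lit 0, nat_lit 0,
nat_lit 0, nat_lit 0, nat_lit 0, nat_lit 0x24596627d431ddb6c, nat_lit 0x8e5ef12fea46aac, nat_lit 0x32739f4cb572e76c,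
nat_lit 0x58eb99f347e032fb211, nat_lit 0x21095f0a5ef07c078c940698c7, nat_lit 0x2d1115ea424fe22422da4a1b, nat_lit 0x3ee322b99f22138, nat_lit 0x82de71983401c63e7127aadd40, nat_lit 0x10306b2cfe857f913f6a9f0bf,
nat_lit 0, nat_lit 0, nat_lit 0, nat_lit 0, nat_lit 0, nat_lit 0,
nat_lit 0, nat_lit 0, nat_lit 0, nat_lit 0, nat_lit 0, nat_lit 0,
nat_lit 0, nat_lit 0, nat_lit 0, nat_lit 0, nat_lit 0, nat_lit 0,
nat_lit 0x6eb0c464ae23d92, nat_lit 0x248aa066893, nat_lit 0x2309592033e883d3443167, nat_lit 0x1c228bb5ef4068ee88816, nat_lit 0x1da8b6e0630003bc2fe8b3c6e0, nat_lit 0x499d1fe59d40ff8e28830dec91d,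
nat_lit 0x7786b68ac73d, nat_lit 0xfd36e965c4a4c8122d224, nat_lit 0x172269ae126e939f46572bce7, nat_lit 0, nat_lit 0, nat_lit 0,
nat_lit 0, nat_lit 0, nat_lit 0, nat_lit 0, nat_lit 0, nat_lit 0,
nat_lit 0, nat_lit 0, nat_lit 0, nat_lit 0, nat_lit 0, nat_lit 0,
nat_lit 0, nat_lit 0, nat_lit 0, nat_lit 0x52594671, nat_lit 0, nat_lit 0,
nat_lit 0xa6a4d910615a9198f3efab4, nat_lit 0, nat_lit 0, nat_lit 0x131ad6fc642ce77af8, nat_lit 0, nat_lit 0,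
nat_lit 0x538c5d4e8, nat_lit 0, nat_lit 0, nat_lit 0, nat_lit 0, nat_lit 0,
nat_lit 0, nat_lit 0, nat_lit 0, nat_lit 0x64b891b9fd31c53, nat_lit 0, nat_lit 0,
nat_lit 0, nat_lit 0, nat_lit 0, nat_lit 0, nat_lit 0, nat_lit 0,
nat_lit 0x5df23d62716d11ab3ea27430, nat_lit 0, nat_lit 0, nat_lit 0x40d4c9140da380eed, nat_lit 0, nat_lit 0,
nat_lit 0x1e07fb579ec7de7649, nat_lit 0, nat_lit 0, nat_lit 0, nat_lit 0, nat_lit 0x8ba9a4ff9cfc7de5b83bebe5b0bdaa,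
nat_lit 0, nat_lit 0, nat_lit 0, nat_lit 0, nat_lit 0, nat_lit 0,
nat_lit 0, nat_lit 0x14b083d2e6ed2f5be7039f6, nat_lit 0, nat_lit 0, nat_lit 0, nat_lit 0,
nat_lit 0, nat_lit 0, nat_lit 0, nat_lit 0x1644be34e2d65bb, nat_lit 0, nat_lit 0,
nat_lit 0xab4bf3c3e2ae701, nat_lit 0, nat_lit 0, nat_lit 0x1cf537de0dd02a78490cfda788, nat_lit 0, nat_lit 0,
nat_lit 0, nat_lit 0xe4a41160b51d406, nat_lit 0, nat_lit 0, nat_lit 0, nat_lit 0,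
nat_lit 0, nat_lit 0, nat_lit 0, nat_lit 0, nat_lit 0, nat_lit 0x576e1aed97f64f2a62af020c,
nat_lit 0, nat_lit 0, nat_lit 0, nat_lit 0, nat_lit 0, nat_lit 0,
nat_lit 0x4a6996430870, nat_lit 0, nat_lit 0, nat_lit 0x1f95dba630ecb8e40745de, nat_lit 0, nat_lit 0,
nat_lit 0x7af6a1353607, nat_lit 0, nat_lit 0, nat_lit 0x638b90ce3a8, nat_lit 0, nat_lit 0,
nat_lit 0, nat_lit 0, nat_lit 0, nat_lit 0, nat_lit 0, nat_lit 0,
nat_lit 0x2af5842f848a35, nat_lit 0, nat_lit 0, nat_lit 0, nat_lit 0, nat_lit 0,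
nat_lit 0, nat_lit 0, nat_lit 0, nat_lit 0x1645d4b8b9e7595, nat_lit 0, nat_lit 0,
nat_lit 0xe59e0167570205b, nat_lit 0, nat_lit 0, nat_lit 0x38cc8564f6ac402d627, nat_lit 0, nat_lit 0,
nat_lit 0, nat_lit 0xa71f4b614aa0e6f52347a71, nat_lit 0, nat_lit 0, nat_lit 0, nat_lit 0,
nat_lit 0, nat_lit 0, nat_lit 0, nat_lit 0, nat_lit 0, nat_lit 0x5a6357b7fc149a0f29e672ad,
nat_lit 0, nat_lit 0, nat_lit 0, nat_lit 0, nat_lit 0, nat_lit 0,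
nat_lit 0x3f078c5db50cf56, nat_lit 0, nat_lit 0, nat_lit 0x15fde33fddefd14ba36, nat_lit 0, nat_lit 0,
nat_lit 0x2305d8c2b32bfe57d, nat_lit 0, nat_lit 0, nat_lit 0, nat_lit 0, nat_lit 0xa7f550d1a9e5acb3debac1e4e89,
nat_lit 0, nat_lit 0, nat_lit 0, nat_lit 0, nat_lit 0, nat_lit 0,
nat_lit 0, nat_lit 0x1bf51f7556fb4a, nat_lit 0, nat_lit 0, nat_lit 0, nat_lit 0,
nat_lit 0, nat_lit 0, nat_lit 0]

theorem len18 : cd18.length = 729 := by decide +kernel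

theorem hC18 : allZ (chkN ap bsL ixL yW 7) cd18 (729 * 18) = true := by decide +kernel

end Cfsg.Agent.TcChain36.O7C
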