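import Mathlib
import Cfsg.Agent.TcChain36.O7C.Tab

set_option autoImplicit false
set_option maxRecDepth 1000000
set_option linter.all false

namespace Cfsg.Agent.TcChain36.O7C

open Cfsg.Agent.Lib.OutTree36 Cfsg.Agent.Lib.PcClass36

set_option Elab.async false

/-- The certificates of a block. -/
def cd19 : List ℕ := [
nat_lit 0x148b8677a711, nat_lit 0xf8f88bb3488d3b93e7aa7fb50e, nat_lit 0x491dc547fe11dfeb62668f5, nat_lit 0x13e6a4d70561c8, nat_lit 0, nat_lit 0,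
nat_lit 0x13b7f61b129f08af829, nat_lit 0, nat_lit 0, nat_lit 0x5e07825ffbe4b9de076e20f9, nat_lit 0x918a72de4d4bf08148fc306b0, nat_lit 0x3a3962ca4490a1a4ab76,
nat_lit 0, nat_lit 0, nat_lit 0, nat_lit 0, nat_lit 0, nat_lit 0,
nat_lit 0x3f036283f30660f, nat_lit 0xdec0cbd4b338de1ec235fc6d2a, nat_lit 0x1548c767ce0e886, nat_lit 0, nat_lit 0, nat_lit 0,
nat_lit 0, nat_lit 0, nat_lit 0, nat_lit 0x491dc2f3168c0a313315338, nat_lit 0x5d13e16f35608d7238ea0b3, nat_lit 0xb9568fe25b05d7fdfffc908,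
nat_lit 0x11bc3d75410cd106717af90, nat_lit 0, nat_lit 0, nat_lit 0x9ccd314b1fb0024e50b51b8c7b7, nat_lit 0, nat_lit 0,
nat_lit 0, nat_lit 0, nat_lit 0, nat_lit 0, nat_lit 0, nat_lit 0,
nat_lit 0, nat_lit 0, nat_lit 0, nat_lit 0, nat_lit 0, nat_lit 0,
nat_lit 0, nat_lit 0, nat_lit 0, nat_lit 0, nat_lit 0, nat_lit 0,
nat_lit 0x19599c53b98c1d610372e2d80, nat_lit 0x1dbe82294f2bd6bcd4a9ec10ee, nat_lit 0xa032223e7c8c3d5690, nat_lit 0x48b4db03f55316d06c6528a96f2, nat_lit 0, nat_lit 0,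
nat_lit 0x11f8117372d6d7f67a3b7, nat_lit 0, nat_lit 0, nat_lit 0, nat_lit 0, nat_lit 0,
nat_lit 0, nat_lit 0, nat_lit 0, nat_lit 0, nat_lit 0, nat_lit 0,
nat_lit 0, nat_lit 0, nat_lit 0, nat_lit 0, nat_lit 0, nat_lit 0,
nat_lit 0, nat_lit 0, nat_lit 0, nat_lit 0x6b65638af962be40867, nat_lit 0, nat_lit 0,
nat_lit 0xc72e30b139e26, nat_lit 0, nat_lit 0, nat_lit 0x64bfa2804c2d42e, nat_lit 0x751e33b319d7dc956bd24e2063, nat_lit 0x312def6f6e15cb440fe94fb80,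
nat_lit 0x3aeaa76696d816b4f827b29a0, nat_lit 0, nat_lit 0, nat_lit 0, nat_lit 0, nat_lit 0,
nat_lit 0, nat_lit 0, nat_lit 0, nat_lit 0x8f1fc8afa7b5, nat_lit 0, nat_lit 0,
nat_lit 0, nat_lit 0, nat_lit 0, nat_lit 0, nat_lit 0, nat_lit 0,
nat_lit 0x3826dbc6d0936ab40cdb7, nat_lit 0, nat_lit 0, nat_lit 0x10ca9387fecb974251157c43e64, nat_lit 0, nat_lit 0,
nat_lit 0x8ff07ca462dd091af6fbeed59d, nat_lit 0x34e43fb3e4fe3d4207c8f43a1, nat_lit 0x48d0777f96e1ca7bd2c5494, nat_lit 0, nat_lit 0, nat_lit 0x1d0e6d99d69fc276ad2e2d580bbe0c,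
nat_lit 0, nat_lit 0, nat_lit 0, nat_lit 0, nat_lit 0, nat_lit 0,
nat_lit 0, nat_lit 0x102bd2fdb44c8b60c04de4484, nat_lit 0, nat_lit 0, nat_lit 0, nat_lit 0,
nat_lit 0, nat_lit 0, nat_lit 0, nat_lit 0x3971e7fa8f3093f02164957d839d, nat_lit 0, nat_lit 0,
nat_lit 0x128e8b51b7f73d0710faf86, nat_lit 0, nat_lit 0, nat_lit 0x2da564d1d548f56baf44, nat_lit 0x56d11dd816a47d1f4ef6, nat_lit 0x14a81a1a36d17b4c015119e,
nat_lit 0, nat_lit 0x1bf51d01db94a9, nat_lit 0, nat_lit 0, nat_lit 0, nat_lit 0,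
nat_lit 0, nat_lit 0, nat_lit 0, nat_lit 0, nat_lit 0, nat_lit 0x34bd0feacbd9139e4c,
nat_lit 0, nat_lit 0, nat_lit 0, nat_lit 0, nat_lit 0, nat_lit 0,
nat_lit 0x34b6c1512b86b06e1b, nat_lit 0, nat_lit 0, nat_lit 0x32a9273839864d42, nat_lit 0, nat_lit 0,
nat_lit 0x4cc474b26d7aef61, nat_lit 0x1da8aeee9f717cd658aa40fe6c, nat_lit 0x312def6f4c40c8fa1a28983ed, nat_lit 0x80479a40c9aa02fe3fe, nat_lit 0, nat_lit 0,
nat_lit 0, nat_lit 0, nat_lit 0, nat_lit 0, nat_lit 0, nat_lit 0,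
nat_lit 0x409b4f4c3f4e2468, nat_lit 0, nat_lit 0, nat_lit 0, nat_lit 0, nat_lit 0,
nat_lit 0, nat_lit 0, nat_lit 0, nat_lit 0xae0620470111174f6b7b87c, nat_lit 0, nat_lit 0,
nat_lit 0xb9236cc1e07801c76eca518c3d, nat_lit 0, nat_lit 0, nat_lit 0x5d40e2775cf920e785664ef, nat_lit 0x250e8e67758adfde17e3c58d8f0b, nat_lit 0xceea0040b70a0bfc205,
nat_lit 0, nat_lit 0x19ee9f0628455226be30a07ad92f, nat_lit 0, nat_lit 0, nat_lit 0, nat_lit 0,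
nat_lit 0, nat_lit 0, nat_lit 0, nat_lit 0, nat_lit 0, nat_lit 0x6344699a63d05d834cdff845,
nat_lit 0, nat_lit 0, nat_lit 0, nat_lit 0, nat_lit 0, nat_lit 0,
nat_lit 0x49a525a37a8546b712fb1e4fec3, nat_lit 0, nat_lit 0, nat_lit 0x312b385de325d122b555d7db5, nat_lit 0, nat_lit 0,
nat_lit 0x6344699a639ad4218b3991a6, nat_lit 0xcdba15addc0c7a9, nat_lit 0x250e8e5baa342c11069815a43cf3, nat_lit 0, nat_lit 0, nat_lit 0x361e67b79e71c132c,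
nat_lit 0, nat_lit 0, nat_lit 0, nat_lit 0, nat_lit 0, nat_lit 0,
nat_lit 0, nat_lit 0x91b778f3f0dde889fc, nat_lit 0, nat_lit 0, nat_lit 0, nat_lit 0,
nat_lit 0, nat_lit 0, nat_lit 0, nat_lit 0x27b9142cc288bfd130, nat_lit 0x751e36787fb6856d185a4bd61b, nat_lit 0x31348f8a33a1d62cab54c93cf,
nat_lit 0x8f74aaad4630d73a747653, nat_lit 0, nat_lit 0, nat_lit 0x1cc86b8704f42df152ff95fe, nat_lit 0, nat_lit 0,
nat_lit 0x1f5378e5f3cfd244cabf, nat_lit 0x34eacd30bb0bbb7cc344bd595523b, nat_lit 0x11e3cd54e8560f8ae2dce126b97, nat_lit 0, nat_lit 0, nat_lit 0,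
nat_lit 0, nat_lit 0, nat_lit 0, nat_lit 0x61160801aff1cc3fc1cf, nat_lit 0x62aceaf9ea893f9a481b, nat_lit 0x820d43eb8f435a77c4c7d78b35,
nat_lit 0, nat_lit 0, nat_lit 0, nat_lit 0, nat_lit 0, nat_lit 0,
nat_lit 0x38c8ae4b919ef1523de, nat_lit 0x2968f515bce502554379849442ca, nat_lit 0x1930af43c3a919ac2b, nat_lit 0x16dbcba68046b32, nat_lit 0, nat_lit 0,
nat_lit 0xb91e4f2e12b4c4f64a286f6b01, nat_lit 0, nat_lit 0, nat_lit 0, nat_lit 0, nat_lit 0,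
nat_lit 0, nat_lit 0, nat_lit 0, nat_lit 0, nat_lit 0, nat_lit 0,
nat_lit 0, nat_lit 0, nat_lit 0, nat_lit 0, nat_lit 0, nat_lit 0,
nat_lit 0, nat_lit 0, nat_lit 0, nat_lit 0x1d8187acc2e88ddd8609fef82, nat_lit 0x250e54a1fe61c846b5e48b06b4bd, nat_lit 0x9517a84a26bb37f8e523c2cf9d,
nat_lit 0x26271d75d6b44fc478, nat_lit 0, nat_lit 0, nat_lit 0x16638b054e771a122c65e6, nat_lit 0, nat_lit 0,
nat_lit 0, nat_lit 0, nat_lit 0, nat_lit 0, nat_lit 0, nat_lit 0,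
nat_lit 0, nat_lit 0, nat_lit 0, nat_lit 0, nat_lit 0, nat_lit 0,
nat_lit 0, nat_lit 0, nat_lit 0, nat_lit 0, nat_lit 0, nat_lit 0,
nat_lit 0x192820fcbd66630, nat_lit 0, nat_lit 0, nat_lit 0x82ece9a2676784778597f10f35, nat_lit 0, nat_lit 0,
nat_lit 0x17225a46aa48479c27853835f, nat_lit 0xa032223d345ccd17c2, nat_lit 0x23035318109b844f49297a, nat_lit 0x6061c418ae89a5c9, nat_lit 0, nat_lit 0,
nat_lit 0, nat_lit 0, nat_lit 0, nat_lit 0, nat_lit 0, nat_lit 0,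
nat_lit 0x151fb713144, nat_lit 0, nat_lit 0, nat_lit 0, nat_lit 0, nat_lit 0,
nat_lit 0, nat_lit 0, nat_lit 0, nat_lit 0x8feb5f123e77496eb68eda9f9e, nat_lit 0, nat_lit 0,
nat_lit 0x33561cb63d9106ae752547cce, nat_lit 0, nat_lit 0, nat_lit 0x743767b4ffadc631, nat_lit 0x9f01c55fd14f2ab3321ea9f8895, nat_lit 0xa703ebc8b07123a539a6c63,
nat_lit 0, nat_lit 0, nat_lit 0x1a57ca51489e0b58f2, nat_lit 0, nat_lit 0, nat_lit 0,
nat_lit 0, nat_lit 0, nat_lit 0, nat_lit 0, nat_lit 0x9a63387c29e420186d8, nat_lit 0,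
nat_lit 0, nat_lit 0, nat_lit 0, nat_lit 0, nat_lit 0, nat_lit 0,
nat_lit 0x74377e0ee1705d93, nat_lit 0, nat_lit 0, nat_lit 0x14d81e58b6cfc2c7229bc12ec7050, nat_lit 0, nat_lit 0,
nat_lit 0x491dc02d4a75b5207b8081b, nat_lit 0x210508f532f0b57c3c0539, nat_lit 0x4ec6a40af31962b025460f9d3494, nat_lit 0, nat_lit 0xd0352c7bfc8a86883ce3aff53, nat_lit 0,
nat_lit 0, nat_lit 0, nat_lit 0, nat_lit 0, nat_lit 0, nat_lit 0,
nat_lit 0, nat_lit 0, nat_lit 0x72c535c92473232, nat_lit 0, nat_lit 0, nat_lit 0,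
nat_lit 0, nat_lit 0, nat_lit 0, nat_lit 0x1fd81f20f53d11736, nat_lit 0, nat_lit 0,
nat_lit 0x10a72f155de821e2435fcf1587d, nat_lit 0, nat_lit 0, nat_lit 0x11c44b8d9905e287ff5d0e7, nat_lit 0xe715458385a3da45cb797, nat_lit 0x26df9a866f8e459624,
nat_lit 0x23ad40feecf9d83995, nat_lit 0, nat_lit 0, nat_lit 0, nat_lit 0, nat_lit 0,
nat_lit 0, nat_lit 0, nat_lit 0, nat_lit 0x289687b135ce666a9b457, nat_lit 0, nat_lit 0,
nat_lit 0, nat_lit 0, nat_lit 0, nat_lit 0, nat_lit 0, nat_lit 0,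
nat_lit 0x3a362fc017944934cbfc, nat_lit 0, nat_lit 0, nat_lit 0x11c4306bd68c0dc235b5557, nat_lit 0, nat_lit 0,
nat_lit 0xf8f88bb348e4b7cb7a906a55c0, nat_lit 0xf8f88bb197dd7ad00c02eaafd6, nat_lit 0x751d7d4259b375e14c41f7e8b9, nat_lit 0, nat_lit 0x499e257bfa7aaed077f479eb21c, nat_lit 0,
nat_lit 0, nat_lit 0, nat_lit 0, nat_lit 0, nat_lit 0, nat_lit 0,
nat_lit 0, nat_lit 0, nat_lit 0x680dfa2d0f1b8, nat_lit 0, nat_lit 0, nat_lit 0,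
nat_lit 0, nat_lit 0, nat_lit 0, nat_lit 0x2d8e00567a6c324de3f547ee, nat_lit 0, nat_lit 0,
nat_lit 0x1cbc5d408f237ba1558a0527, nat_lit 0, nat_lit 0, nat_lit 0x1956b670b04f6ccdc6, nat_lit 0x41e101cc66674ce254c6ecb6930, nat_lit 0x51b48b75e2ad54094954bb4,
nat_lit 0, nat_lit 0, nat_lit 0x1b782a8d74256f93b2617b, nat_lit 0, nat_lit 0, nat_lit 0,
nat_lit 0, nat_lit 0, nat_lit 0, nat_lit 0, nat_lit 0x2869300, nat_lit 0,
nat_lit 0, nat_lit 0, nat_lit 0, nat_lit 0, nat_lit 0, nat_lit 0,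
nat_lit 0x6108f557ecdd94613498, nat_lit 0xe5c9c80f7049d095cea5b305a, nat_lit 0xe71550d77ed9d28dee375, nat_lit 0x6344699a63d052847d97a35f, nat_lit 0, nat_lit 0,
nat_lit 0x11c44b8ac9fae2a32b00ac7, nat_lit 0, nat_lit 0, nat_lit 0x7adbfb1b4f9ac048, nat_lit 0xb2cb8e0fdcc587, nat_lit 0x820d1bad8e5cb74c904e296885,
nat_lit 0, nat_lit 0, nat_lit 0, nat_lit 0, nat_lit 0, nat_lit 0,
nat_lit 0x6de1e55195d0a5, nat_lit 0x1dd036ff2438cf990067cb01a9cc74, nat_lit 0x5d438ca662d204c879518a6, nat_lit 0, nat_lit 0, nat_lit 0,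
nat_lit 0, nat_lit 0, nat_lit 0, nat_lit 0x2260544a51b1df73fde85f, nat_lit 0x1262bde9b9333bac8a7f0f, nat_lit 0x4e82954cb2cd13a7,
nat_lit 0xa2b452215011c9c0495275a, nat_lit 0, nat_lit 0, nat_lit 0x5deef1aab4e36583568c8131f442, nat_lit 0, nat_lit 0,
nat_lit 0, nat_lit 0, nat_lit 0, nat_lit 0, nat_lit 0, nat_lit 0,
nat_lit 0, nat_lit 0, nat_lit 0, nat_lit 0, nat_lit 0, nat_lit 0,
nat_lit 0, nat_lit 0, nat_lit 0, nat_lit 0, nat_lit 0, nat_lit 0,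
nat_lit 0x8055a767db713290249da15604, nat_lit 0x250e8e5baa342c110693384841e7, nat_lit 0x82de71983401c6520f21dfe8d1, nat_lit 0x230e274621deb17482, nat_lit 0, nat_lit 0,
nat_lit 0x11f8117372d69c9bcd777, nat_lit 0, nat_lit 0, nat_lit 0, nat_lit 0, nat_lit 0,
nat_lit 0, nat_lit 0, nat_lit 0, nat_lit 0, nat_lit 0, nat_lit 0,
nat_lit 0, nat_lit 0, nat_lit 0, nat_lit 0, nat_lit 0, nat_lit 0,
nat_lit 0, nat_lit 0, nat_lit 0, nat_lit 0x337b0dfc8a55ff3f9801bb2f9, nat_lit 0, nat_lit 0,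
nat_lit 0xa6cfa6fa149a5104dd54202f9787ab, nat_lit 0, nat_lit 0, nat_lit 0x1eb223baab281be1d88d41, nat_lit 0x491dbdb7174e31859300f17, nat_lit 0x4e3f36392a9ab465b228f590,
nat_lit 0x73e1e9e887a37c0a6c2c, nat_lit 0, nat_lit 0, nat_lit 0, nat_lit 0, nat_lit 0,
nat_lit 0, nat_lit 0, nat_lit 0, nat_lit 0x9d7ef7a8053, nat_lit 0, nat_lit 0,
nat_lit 0, nat_lit 0, nat_lit 0, nat_lit 0, nat_lit 0, nat_lit 0,
nat_lit 0x22fe429e014dc993e1, nat_lit 0, nat_lit 0, nat_lit 0xa2bc4517cee3ad60e5925c5, nat_lit 0, nat_lit 0,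
nat_lit 0x17226737875fc81b89e44c660, nat_lit 0x34fa9c82b07031379295940c8, nat_lit 0x1291b2b6c670553bf5a67a0, nat_lit 0, nat_lit 0, nat_lit 0x24692b3ddd7,
nat_lit 0, nat_lit 0, nat_lit 0, nat_lit 0, nat_lit 0, nat_lit 0,
nat_lit 0, nat_lit 0x4103a77c71cc38c36dc6d72c, nat_lit 0, nat_lit 0, nat_lit 0, nat_lit 0,
nat_lit 0, nat_lit 0, nat_lit 0, nat_lit 0x50b19cfe0e95b4f3dd640c2, nat_lit 0, nat_lit 0,
nat_lit 0x2acdce889ac6a2211dbcec3c80, nat_lit 0, nat_lit 0, nat_lit 0x132adb1e23ec7ecc6ee, nat_lit 0x5de3d96268aa13b6da653929, nat_lit 0x2f434b5b2b0f5d43ecbf9ddd5387,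
nat_lit 0, nat_lit 0x4461740c, nat_lit 0, nat_lit 0, nat_lit 0, nat_lit 0,
nat_lit 0, nat_lit 0, nat_lit 0, nat_lit 0, nat_lit 0, nat_lit 0x6fdee4cf0b28c6,
nat_lit 0, nat_lit 0, nat_lit 0, nat_lit 0, nat_lit 0, nat_lit 0,
nat_lit 0xb37c7eb6d891f54ec, nat_lit 0, nat_lit 0, nat_lit 0x576947c35aede593097c2a6f, nat_lit 0, nat_lit 0,
nat_lit 0x19da20204cb9d7876176728e1, nat_lit 0x64a4b10ff5b7fa3, nat_lit 0x6756c9e913f5c1936bb, nat_lit 0x56d11e62563200b0d683, nat_lit 0, nat_lit 0,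
nat_lit 0, nat_lit 0, nat_lit 0, nat_lit 0, nat_lit 0, nat_lit 0,
nat_lit 0x28dc3e01860bc3, nat_lit 0, nat_lit 0, nat_lit 0, nat_lit 0, nat_lit 0,
nat_lit 0, nat_lit 0, nat_lit 0, nat_lit 0x91b4207141c874b3965c22882, nat_lit 0, nat_lit 0,
nat_lit 0x1db9740995c45d80054cb032b1, nat_lit 0, nat_lit 0, nat_lit 0x32048698d86e1cac7fd7, nat_lit 0x11c01af7dd552cd69857e3, nat_lit 0x19599c53c54cef34539ac9862,
nat_lit 0, nat_lit 0x10078340b5eff5e65e, nat_lit 0, nat_lit 0, nat_lit 0, nat_lit 0,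
nat_lit 0, nat_lit 0, nat_lit 0, nat_lit 0, nat_lit 0, nat_lit 0x85accfa24454d46fc70,
nat_lit 0, nat_lit 0, nat_lit 0, nat_lit 0, nat_lit 0, nat_lit 0,
nat_lit 0x20239e72097ec5e0739f03, nat_lit 0, nat_lit 0, nat_lit 0x5bd51a49f4fec666062b379cfba2, nat_lit 0, nat_lit 0,
nat_lit 0xa23f9078dbf6b11c731f0f3, nat_lit 0x19ee8eacc271b6a859b291b819e0, nat_lit 0x874895641221fd43291d2fa6, nat_lit 0, nat_lit 0, nat_lit 0x4889cb36a160e7306,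
nat_lit 0, nat_lit 0, nat_lit 0, nat_lit 0, nat_lit 0, nat_lit 0,
nat_lit 0, nat_lit 0x3a9d761fe7b9996346d92, nat_lit 0, nat_lit 0, nat_lit 0, nat_lit 0,
nat_lit 0, nat_lit 0, nat_lit 0]

theorem len19 : cd19.length = 729 := by decide +kernel

theorem hC19 : allZ (chkN ap bsL ixL yW 7) cd19 (729 * 19) = true := by decide +kernel

end Cfsg.Agent.TcChain36.O7C
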