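import Mathlib
import Cfsg.Agent.TcChain36.O7C.Tab

set_option autoImplicit false
set_option maxRecDepth 1000000
set_option linter.all false

namespace Cfsg.Agent.TcChain36.O7C

open Cfsg.Agent.Lib.OutTree36 Cfsg.Agent.Lib.PcClass36

set_option Elab.async false

/-- The certificates of a block. -/
def cd2 : List ℕ := [
nat_lit 0x8a3a22ff, nat_lit 0x913ef3cbf9b6724188419f, nat_lit 0x51f4f35174623125158f7f5b3d, nat_lit 0x8fc378acc182fae37078fc, nat_lit 0, nat_lit 0,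
nat_lit 0x28cd884191255bf018, nat_lit 0, nat_lit 0, nat_lit 0x25b21a7d337d6, nat_lit 0x1ca83fb6a17faf381f4d5b68f49cb3, nat_lit 0x34744d9819bcbe009efeecbc,
nat_lit 0, nat_lit 0, nat_lit 0, nat_lit 0, nat_lit 0, nat_lit 0,
nat_lit 0x59b11a1acb0a3ce, nat_lit 0x6f3bbcc1547e43fe7dab43e798cbc28, nat_lit 0x1ced543089f9c3a2614f686b7f, nat_lit 0, nat_lit 0, nat_lit 0,
nat_lit 0, nat_lit 0, nat_lit 0, nat_lit 0xd035a0f3345010b232acde00c, nat_lit 0x91b4207141c9673297f707c2f, nat_lit 0x250e91030518edff2e4957a6b5bd,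
nat_lit 0xa1b89d0f098b8179e1dea, nat_lit 0, nat_lit 0, nat_lit 0x8141855c5ecccbe68b007cac81, nat_lit 0, nat_lit 0,
nat_lit 0, nat_lit 0, nat_lit 0, nat_lit 0, nat_lit 0, nat_lit 0,
nat_lit 0, nat_lit 0, nat_lit 0, nat_lit 0, nat_lit 0, nat_lit 0,
nat_lit 0, nat_lit 0, nat_lit 0, nat_lit 0, nat_lit 0, nat_lit 0,
nat_lit 0x2920bac4142559a8a41b6a2d, nat_lit 0xe4267ef13092250353e5fe2bf, nat_lit 0x8c0bce4c5ad730661bdd5537998, nat_lit 0x211e90c46acc183480b196408e, nat_lit 0, nat_lit 0,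
nat_lit 0x5b89e6dd6460118681228dcf, nat_lit 0, nat_lit 0, nat_lit 0, nat_lit 0, nat_lit 0,
nat_lit 0, nat_lit 0, nat_lit 0, nat_lit 0, nat_lit 0, nat_lit 0,
nat_lit 0, nat_lit 0, nat_lit 0, nat_lit 0, nat_lit 0, nat_lit 0,
nat_lit 0, nat_lit 0, nat_lit 0, nat_lit 0x11b786f7c64e7b, nat_lit 0, nat_lit 0,
nat_lit 0x7f8043a7144, nat_lit 0x53dd4ea9b5c93b1253c7b3be077, nat_lit 0xe4267ef1efb468d6f06fdf7d2, nat_lit 0x22fe429e0a5ac462d7, nat_lit 0, nat_lit 0,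
nat_lit 0xb30f134e984806, nat_lit 0, nat_lit 0, nat_lit 0, nat_lit 0, nat_lit 0,
nat_lit 0, nat_lit 0, nat_lit 0, nat_lit 0xb30da8c5401631, nat_lit 0, nat_lit 0,
nat_lit 0, nat_lit 0, nat_lit 0, nat_lit 0, nat_lit 0, nat_lit 0,
nat_lit 0x296cf5ec62b7c560b7cfc54d882b, nat_lit 0, nat_lit 0, nat_lit 0x328bef5e99695cbeabb6ec9e, nat_lit 0x905f8d6ad9bb4ecdd87866, nat_lit 0x8750afa050f02048f7204bbf,
nat_lit 0x5de3507acae8088abc822072, nat_lit 0, nat_lit 0, nat_lit 0, nat_lit 0, nat_lit 0x3abc1016e46eb9b977b960492,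
nat_lit 0, nat_lit 0, nat_lit 0, nat_lit 0, nat_lit 0, nat_lit 0,
nat_lit 0, nat_lit 0x2896a7c2fd8ba85ad12db, nat_lit 0, nat_lit 0, nat_lit 0, nat_lit 0,
nat_lit 0, nat_lit 0, nat_lit 0, nat_lit 0x1030bb4f794b9884ca10ca1f2, nat_lit 0, nat_lit 0,
nat_lit 0x2d1115ea2d6adee55b77b69c, nat_lit 0x119ef3f8510002e687eba, nat_lit 0x1b5f64686105541e577280, nat_lit 0x3971e7fa80037a4428bcd262f92e, nat_lit 0, nat_lit 0,
nat_lit 0, nat_lit 0x5584babc881987e829ad, nat_lit 0, nat_lit 0, nat_lit 0, nat_lit 0,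
nat_lit 0, nat_lit 0, nat_lit 0, nat_lit 0, nat_lit 0, nat_lit 0x1309e1bf83e9992,
nat_lit 0, nat_lit 0, nat_lit 0, nat_lit 0, nat_lit 0, nat_lit 0,
nat_lit 0xb8fd7c47c210, nat_lit 0, nat_lit 0, nat_lit 0x15dd4cb0c1def8, nat_lit 0x10b842f65bb2dc498f05193f653, nat_lit 0x6485244e47b403a72fe18f5f,
nat_lit 0x3260723dbe471731c0ce, nat_lit 0, nat_lit 0, nat_lit 0x26964330ae2a, nat_lit 0, nat_lit 0,
nat_lit 0, nat_lit 0, nat_lit 0, nat_lit 0, nat_lit 0, nat_lit 0,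
nat_lit 0x70c197b1a6353c1e, nat_lit 0, nat_lit 0, nat_lit 0, nat_lit 0, nat_lit 0,
nat_lit 0, nat_lit 0, nat_lit 0, nat_lit 0x2050127cf08b533712db5bc6f8c5a, nat_lit 0, nat_lit 0,
nat_lit 0x5126098111014d279e3, nat_lit 0x13b551b319d1aab657873af, nat_lit 0x345b2ece8e1bd19e62e4bf4f, nat_lit 0x9f9e291f4973593a0533aab, nat_lit 0, nat_lit 0,
nat_lit 0, nat_lit 0xcc01d7b93dee33, nat_lit 0, nat_lit 0, nat_lit 0, nat_lit 0,
nat_lit 0, nat_lit 0, nat_lit 0, nat_lit 0, nat_lit 0, nat_lit 0x3abb5399f131dde7e37f659c5,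
nat_lit 0, nat_lit 0, nat_lit 0, nat_lit 0, nat_lit 0, nat_lit 0,
nat_lit 0x51f12c7861c4754a2b8d76f930, nat_lit 0, nat_lit 0, nat_lit 0x149197051e860139aea0868c8f, nat_lit 0x499e257bfa7ab7758b0318cff95, nat_lit 0x74639e42b8dfc51f2302,
nat_lit 0x48b40c9301b14972a462fdb3b1c, nat_lit 0, nat_lit 0, nat_lit 0, nat_lit 0, nat_lit 0x16f39ca44cb517cd276,
nat_lit 0, nat_lit 0, nat_lit 0, nat_lit 0, nat_lit 0, nat_lit 0,
nat_lit 0, nat_lit 0xda9b7055aa9f1d48a4, nat_lit 0, nat_lit 0, nat_lit 0, nat_lit 0,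
nat_lit 0, nat_lit 0, nat_lit 0, nat_lit 0x32a92060d5371dbe, nat_lit 0x91b3c4c1e51d09bf8ce4dd81e, nat_lit 0x23068e71c9b5d218dd0895,
nat_lit 0x81888675e0018ca0d2709ea17d, nat_lit 0, nat_lit 0, nat_lit 0xa341cd595753346c92ba5de5c44, nat_lit 0, nat_lit 0,
nat_lit 0x5adc44302d2f613badf4db, nat_lit 0x1145282aaf22c29ab5bafbf, nat_lit 0x451bbd60c433751ae, nat_lit 0, nat_lit 0, nat_lit 0,
nat_lit 0, nat_lit 0, nat_lit 0, nat_lit 0x23a1c51dc0744d536c, nat_lit 0x8903f9762bcd295ace57f2c, nat_lit 0x51c73cae81e40a5f61e750a13b,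
nat_lit 0, nat_lit 0, nat_lit 0, nat_lit 0, nat_lit 0, nat_lit 0,
nat_lit 0x81418088b340d50c865ca474e6, nat_lit 0xf74c8eaa62d9f9a7a1a9ea, nat_lit 0x6b65638af4d806c8893, nat_lit 0x11f8117372d69c9bc3c3c, nat_lit 0, nat_lit 0,
nat_lit 0x1ff0e20a81e967be184f, nat_lit 0, nat_lit 0, nat_lit 0, nat_lit 0, nat_lit 0,
nat_lit 0, nat_lit 0, nat_lit 0, nat_lit 0, nat_lit 0, nat_lit 0,
nat_lit 0, nat_lit 0, nat_lit 0, nat_lit 0, nat_lit 0, nat_lit 0,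
nat_lit 0, nat_lit 0, nat_lit 0, nat_lit 0x81fc0050845f7ae470d79c, nat_lit 0x1292d509eca4cdd66e4d5b8, nat_lit 0x51dde09d0b7ad6a98ec4e95719,
nat_lit 0x1ae5c1a873156aba04e9c16361c67a, nat_lit 0, nat_lit 0, nat_lit 0x337b0dfc88d21f3f223bcc398, nat_lit 0, nat_lit 0,
nat_lit 0, nat_lit 0, nat_lit 0, nat_lit 0, nat_lit 0, nat_lit 0,
nat_lit 0, nat_lit 0, nat_lit 0, nat_lit 0, nat_lit 0, nat_lit 0,
nat_lit 0, nat_lit 0, nat_lit 0, nat_lit 0, nat_lit 0, nat_lit 0,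
nat_lit 0xb4129327c0214343897, nat_lit 0, nat_lit 0, nat_lit 0xd0352c7bfc8a847d63aea291b, nat_lit 0x1c82e3479ca1db165434c, nat_lit 0x28b1a8d804fcdfd186,
nat_lit 0x63d34dd339e9a13fc98d, nat_lit 0, nat_lit 0, nat_lit 0x6de1e53181f663, nat_lit 0, nat_lit 0,
nat_lit 0, nat_lit 0, nat_lit 0, nat_lit 0, nat_lit 0, nat_lit 0,
nat_lit 0x8128cf26785b47f1, nat_lit 0, nat_lit 0, nat_lit 0, nat_lit 0, nat_lit 0,
nat_lit 0, nat_lit 0, nat_lit 0, nat_lit 0x212e30f405e798adc25cc80e13, nat_lit 0, nat_lit 0,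
nat_lit 0x91b423e4375981b0c03a679e7, nat_lit 0xf072e7364f1c7601948a446, nat_lit 0x10b5dd6093c0c508176c4094220, nat_lit 0x2e628acd1d718e384a46c169d3a06, nat_lit 0, nat_lit 0,
nat_lit 0, nat_lit 0, nat_lit 0x9808686b94ba9c41908, nat_lit 0, nat_lit 0, nat_lit 0,
nat_lit 0, nat_lit 0, nat_lit 0, nat_lit 0, nat_lit 0x1c6ebf8c9944d52b1fa4dbff5, nat_lit 0,
nat_lit 0, nat_lit 0, nat_lit 0, nat_lit 0, nat_lit 0, nat_lit 0,
nat_lit 0x2e19fe43d5d06cecd293271872c, nat_lit 0, nat_lit 0, nat_lit 0x369509f8d44c75111913c, nat_lit 0x41e0fd14bcce873ab658f3efd3a, nat_lit 0x36950a116bb0a1ce3b1cb,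
nat_lit 0x5b89e6dd7e7036d2f7595c29, nat_lit 0, nat_lit 0, nat_lit 0, nat_lit 0x1db90846517250818d8f982253, nat_lit 0,
nat_lit 0, nat_lit 0, nat_lit 0, nat_lit 0, nat_lit 0, nat_lit 0,
nat_lit 0, nat_lit 0, nat_lit 0xd035b62b9d7eec57ba6be1bc1, nat_lit 0, nat_lit 0, nat_lit 0,
nat_lit 0, nat_lit 0, nat_lit 0, nat_lit 0xba6def955f8aae9bf7af767, nat_lit 0, nat_lit 0,
nat_lit 0x2da6efa4482145e4b3910ad6, nat_lit 0x211313c86372063e0e62f2, nat_lit 0x6eb2af2428cae2564825, nat_lit 0x834ca0a6fae4311ab6e8c59ad0fa5, nat_lit 0, nat_lit 0,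
nat_lit 0x7732ee2037970fa, nat_lit 0, nat_lit 0, nat_lit 0, nat_lit 0, nat_lit 0,
nat_lit 0, nat_lit 0, nat_lit 0, nat_lit 0x36950a01753ca73471cb7, nat_lit 0, nat_lit 0,
nat_lit 0, nat_lit 0, nat_lit 0, nat_lit 0, nat_lit 0, nat_lit 0,
nat_lit 0x19599c53b98c1d61037356b54, nat_lit 0, nat_lit 0, nat_lit 0x58eb99f347e032fd34a, nat_lit 0x29207aa5df966eeedef218f1, nat_lit 0x13db0717e487121b56f8b30,
nat_lit 0xa6a4c6aadcfdd53eaaa75f1, nat_lit 0, nat_lit 0, nat_lit 0, nat_lit 0x29207aa5df96755713d16127, nat_lit 0,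
nat_lit 0, nat_lit 0, nat_lit 0, nat_lit 0, nat_lit 0, nat_lit 0,
nat_lit 0, nat_lit 0, nat_lit 0x18d7513f4f647e1491, nat_lit 0, nat_lit 0, nat_lit 0,
nat_lit 0, nat_lit 0, nat_lit 0, nat_lit 0x327c208b4f24ffe3809c, nat_lit 0, nat_lit 0,
nat_lit 0x1098dc512da2cfcc9b656efafe, nat_lit 0x2e19fe43d5d091cb980e683672c, nat_lit 0x2acdf744a9ba78f883a14b7b17, nat_lit 0x1cbc5d408f2381564b1a30fa, nat_lit 0, nat_lit 0,
nat_lit 0, nat_lit 0, nat_lit 0x1223c5b41cab32e26dd0dedcf88, nat_lit 0, nat_lit 0, nat_lit 0,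
nat_lit 0, nat_lit 0, nat_lit 0, nat_lit 0, nat_lit 0x34b6c1512a24a43895, nat_lit 0,
nat_lit 0, nat_lit 0, nat_lit 0, nat_lit 0, nat_lit 0, nat_lit 0,
nat_lit 0x64026c4a00f843b, nat_lit 0xd0346ce7bbe9b5356a58a835c, nat_lit 0xa578ad376e574c6193f35a, nat_lit 0x19963a2a3f3660ee02fd53709, nat_lit 0, nat_lit 0,
nat_lit 0x9011ee2abd478a5b695b5fa452a, nat_lit 0, nat_lit 0, nat_lit 0x8d7da72, nat_lit 0x272d6dd04d8a5f188c, nat_lit 0x760b7c0f5aa6430fe2957345a47efb,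
nat_lit 0, nat_lit 0, nat_lit 0, nat_lit 0, nat_lit 0, nat_lit 0,
nat_lit 0x1846abe42dd7c7c, nat_lit 0x116c09f6d5224b539bc2023ff9b, nat_lit 0x278bde5d775f59, nat_lit 0, nat_lit 0, nat_lit 0,
nat_lit 0, nat_lit 0, nat_lit 0, nat_lit 0x2920b9303503968f7ab764dd, nat_lit 0x30c30b4c5be1ad1bd3bc4, nat_lit 0x3c619a5a808ba12c,
nat_lit 0x46c281a5507b94c47efc, nat_lit 0, nat_lit 0, nat_lit 0x1576009248c5ca57b26, nat_lit 0, nat_lit 0,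
nat_lit 0, nat_lit 0, nat_lit 0, nat_lit 0, nat_lit 0, nat_lit 0,
nat_lit 0, nat_lit 0, nat_lit 0, nat_lit 0, nat_lit 0, nat_lit 0,
nat_lit 0, nat_lit 0, nat_lit 0, nat_lit 0, nat_lit 0, nat_lit 0,
nat_lit 0x5b43c143fbbac3a000c0dd27, nat_lit 0x5df0d1bc87ee762f7f75a960, nat_lit 0x51c73cae8151f44c9bdd90194d, nat_lit 0x82ece9a267679293a6e92842b8, nat_lit 0, nat_lit 0,
nat_lit 0x6eae4508d5574b6, nat_lit 0, nat_lit 0, nat_lit 0, nat_lit 0, nat_lit 0,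
nat_lit 0, nat_lit 0, nat_lit 0, nat_lit 0, nat_lit 0, nat_lit 0,
nat_lit 0, nat_lit 0, nat_lit 0, nat_lit 0, nat_lit 0, nat_lit 0,
nat_lit 0, nat_lit 0, nat_lit 0, nat_lit 0x409b4f50b8f640bf, nat_lit 0, nat_lit 0,
nat_lit 0x1144341900468faf097954d, nat_lit 0x2920bab1a59b1dc261ebe4ae, nat_lit 0x40cd1f0e5bd8cbfc3ba23a56, nat_lit 0x34a1c436e342c9e78c3e9b163, nat_lit 0, nat_lit 0,
nat_lit 0x1495687146bd99265d6, nat_lit 0, nat_lit 0, nat_lit 0, nat_lit 0, nat_lit 0,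
nat_lit 0, nat_lit 0, nat_lit 0, nat_lit 0x1411748f8d1f7faa149, nat_lit 0, nat_lit 0,
nat_lit 0, nat_lit 0, nat_lit 0, nat_lit 0, nat_lit 0, nat_lit 0,
nat_lit 0xb58de06608e3ba7b82a57f82f6, nat_lit 0, nat_lit 0, nat_lit 0x24c58f0651a3d87af8, nat_lit 0x1090d9cf59a2fc5b995f16d50d, nat_lit 0x81fba90e9f9c6e88183b45,
nat_lit 0x91b423bb371e60192916265e7, nat_lit 0, nat_lit 0, nat_lit 0, nat_lit 0, nat_lit 0x1e70e4d5671fbbded4,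
nat_lit 0, nat_lit 0, nat_lit 0, nat_lit 0, nat_lit 0, nat_lit 0,
nat_lit 0, nat_lit 0x56b01415f8ada586cdc6, nat_lit 0, nat_lit 0, nat_lit 0, nat_lit 0,
nat_lit 0, nat_lit 0, nat_lit 0, nat_lit 0x4da66a3, nat_lit 0, nat_lit 0,
nat_lit 0x48302e2a6b6fac711498aa52a1a, nat_lit 0xffe46bcee8a5658ec07343228, nat_lit 0xab5203054bfce2359a0c015, nat_lit 0x2d63ea00ba341280dd7ac1f8, nat_lit 0, nat_lit 0,
nat_lit 0, nat_lit 0x2b2e81a49687ba593, nat_lit 0, nat_lit 0, nat_lit 0, nat_lit 0,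
nat_lit 0, nat_lit 0, nat_lit 0, nat_lit 0, nat_lit 0, nat_lit 0x53f38a229f3c40ce9f886f2099f,
nat_lit 0, nat_lit 0, nat_lit 0, nat_lit 0, nat_lit 0, nat_lit 0,
nat_lit 0x77801c8812a9, nat_lit 0, nat_lit 0, nat_lit 0xe8ab2122b28893c26d29afaad, nat_lit 0x389b2ff23c16164a, nat_lit 0x1c228bb613a00db459797,
nat_lit 0x371038a409b92a6c3b4e07774, nat_lit 0, nat_lit 0, nat_lit 0x14b083d2e6ed2f5be703a74, nat_lit 0, nat_lit 0,
nat_lit 0, nat_lit 0, nat_lit 0, nat_lit 0, nat_lit 0, nat_lit 0,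
nat_lit 0x132adb38ae2ac663c3e, nat_lit 0, nat_lit 0, nat_lit 0, nat_lit 0, nat_lit 0,
nat_lit 0, nat_lit 0, nat_lit 0, nat_lit 0x2718b9af75b704fa08, nat_lit 0, nat_lit 0,
nat_lit 0x9f9e291eed6d59b49eb628a, nat_lit 0x1ba9d6a1f46f05a14270b522f3, nat_lit 0xa9ad92183359c2ead75, nat_lit 0x48b40c9301b14972a462fdaa8ef, nat_lit 0, nat_lit 0,
nat_lit 0, nat_lit 0x14ae028ac118406c4810f27, nat_lit 0, nat_lit 0, nat_lit 0, nat_lit 0,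
nat_lit 0, nat_lit 0, nat_lit 0, nat_lit 0, nat_lit 0, nat_lit 0x18d7513aded473f022,
nat_lit 0, nat_lit 0, nat_lit 0, nat_lit 0, nat_lit 0, nat_lit 0,
nat_lit 0x50f4657a4323ee3878ab77fef95, nat_lit 0, nat_lit 0, nat_lit 0xe2692feb693b6e8, nat_lit 0x131d3b872002f7f0f48bb7, nat_lit 0x50f7461e0c221d1d21d75d84823,
nat_lit 0x4c188b9d84ef591e6dc1b02ba, nat_lit 0, nat_lit 0, nat_lit 0, nat_lit 0, nat_lit 0x1029fc802d8c5d9d8a84b4312,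
nat_lit 0, nat_lit 0, nat_lit 0, nat_lit 0, nat_lit 0, nat_lit 0,
nat_lit 0, nat_lit 0x21095f0fb5744b6894b4ad9c92, nat_lit 0, nat_lit 0, nat_lit 0, nat_lit 0,
nat_lit 0, nat_lit 0, nat_lit 0]

theorem len2 : cd2.length = 729 := by decide +kernel

theorem hC2 : allZ (chkN ap bsL ixL yW 7) cd2 (729 * 2) = true := by decide +kernel

end Cfsg.Agent.TcChain36.O7C
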