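import Mathlib
import Cfsg.Agent.TcChain36.O7C.Tab

set_option autoImplicit false
set_option maxRecDepth 1000000
set_option linter.all false

namespace Cfsg.Agent.TcChain36.O7C

open Cfsg.Agent.Lib.OutTree36 Cfsg.Agent.Lib.PcClass36

set_option Elab.async false

/-- The certificates of a block. -/
def cd20 : List ℕ := [
nat_lit 0xce37419ab6c83db, nat_lit 0xa287fe41ea1848dbd67f69d, nat_lit 0x19ad08fb7fdf50489fb90, nat_lit 0x3c90be5ccf18a6df0, nat_lit 0, nat_lit 0,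
nat_lit 0x16e3eefc97b2e3ccf2d, nat_lit 0, nat_lit 0, nat_lit 0x62aceaf9ea893f9a4796, nat_lit 0x916232fd56df430f65b490fc4, nat_lit 0xf39549b5a335ea37660f2d,
nat_lit 0, nat_lit 0, nat_lit 0, nat_lit 0, nat_lit 0, nat_lit 0,
nat_lit 0x7dc209a472ab0720ddf, nat_lit 0x201adce3ef07f51b9f770e, nat_lit 0x11e91a31075490395b, nat_lit 0, nat_lit 0, nat_lit 0,
nat_lit 0, nat_lit 0, nat_lit 0, nat_lit 0x24910c7ae0ee3b113672a0092, nat_lit 0x102770a65dc9df0ff2c90335a, nat_lit 0x9f73bcc2e51735,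
nat_lit 0x82ecb4a1e58717998675c2cb6e, nat_lit 0, nat_lit 0, nat_lit 0x2d95ac5bd0a674024f187016763dc, nat_lit 0, nat_lit 0,
nat_lit 0, nat_lit 0, nat_lit 0, nat_lit 0, nat_lit 0, nat_lit 0,
nat_lit 0, nat_lit 0, nat_lit 0, nat_lit 0, nat_lit 0, nat_lit 0,
nat_lit 0, nat_lit 0, nat_lit 0, nat_lit 0, nat_lit 0, nat_lit 0,
nat_lit 0xc97fe433da4145e0740d84, nat_lit 0x44cfe50c5b05b116e, nat_lit 0xd0352c7bfc8a83691b5d41414, nat_lit 0xe8c19f599b62cbb128baf23e0, nat_lit 0, nat_lit 0,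
nat_lit 0x20fd6974d545c1d3ac4141, nat_lit 0, nat_lit 0, nat_lit 0, nat_lit 0, nat_lit 0,
nat_lit 0, nat_lit 0, nat_lit 0, nat_lit 0, nat_lit 0, nat_lit 0,
nat_lit 0, nat_lit 0, nat_lit 0, nat_lit 0, nat_lit 0, nat_lit 0,
nat_lit 0, nat_lit 0, nat_lit 0, nat_lit 0x18d75140ee0066defa, nat_lit 0, nat_lit 0,
nat_lit 0x97615dc9, nat_lit 0x81fb317489c22c4dcff6ef, nat_lit 0xf8f88ca1d8a55f7aa438a991b1, nat_lit 0x128e8b51b7fb68ccabd3554, nat_lit 0, nat_lit 0,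
nat_lit 0x787184a49602eddfc81252a, nat_lit 0, nat_lit 0, nat_lit 0, nat_lit 0, nat_lit 0,
nat_lit 0, nat_lit 0, nat_lit 0, nat_lit 0x146d39626124d861a5, nat_lit 0, nat_lit 0,
nat_lit 0, nat_lit 0, nat_lit 0, nat_lit 0, nat_lit 0, nat_lit 0,
nat_lit 0xb91e4f2e12b4c4f64a28682d2d, nat_lit 0, nat_lit 0, nat_lit 0xe8ab2122b2809dbf336877eee, nat_lit 0x1090d9cf5a3a8e08c96369fda7, nat_lit 0x81418088b33cad4d62f870fb5d,
nat_lit 0x1f95db9fd552ec056e9ff3, nat_lit 0, nat_lit 0, nat_lit 0, nat_lit 0, nat_lit 0x17886af8f5,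
nat_lit 0, nat_lit 0, nat_lit 0, nat_lit 0, nat_lit 0, nat_lit 0,
nat_lit 0, nat_lit 0xba68e94033ac46d13b02839, nat_lit 0, nat_lit 0, nat_lit 0, nat_lit 0,
nat_lit 0, nat_lit 0, nat_lit 0, nat_lit 0x1cc95ab51b53c66b69a629d6, nat_lit 0, nat_lit 0,
nat_lit 0x576e1b1d9cbcd05d60983b74, nat_lit 0x11aadd0b8a5a3e9ad49253cdce1, nat_lit 0x3a3c24edfeb5ba21ffe71bcecb3e, nat_lit 0x142c368f54871bf1a0b36fe56e, nat_lit 0, nat_lit 0,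
nat_lit 0, nat_lit 0x2e19e141597e30196d9a88df2de, nat_lit 0, nat_lit 0, nat_lit 0, nat_lit 0,
nat_lit 0, nat_lit 0, nat_lit 0, nat_lit 0, nat_lit 0, nat_lit 0xa578ad3782cd1910deb173,
nat_lit 0, nat_lit 0, nat_lit 0, nat_lit 0, nat_lit 0, nat_lit 0,
nat_lit 0x3e448b56dbccc41703a4b, nat_lit 0, nat_lit 0, nat_lit 0x1616ecdb22, nat_lit 0x2df4eb238a02ba459892726e, nat_lit 0xe8ab2122b2809dde8eb933268,
nat_lit 0x2473696ad1354257c046a20af, nat_lit 0, nat_lit 0, nat_lit 0xce9081c587f97b2b9c3, nat_lit 0, nat_lit 0,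
nat_lit 0, nat_lit 0, nat_lit 0, nat_lit 0, nat_lit 0, nat_lit 0,
nat_lit 0x245065e548b665d3c, nat_lit 0, nat_lit 0, nat_lit 0, nat_lit 0, nat_lit 0,
nat_lit 0, nat_lit 0, nat_lit 0, nat_lit 0x2050127ce801f4c656ea36588c419, nat_lit 0, nat_lit 0,
nat_lit 0x8c0bcec12f5e91eff06d77a7987, nat_lit 0xd035b13e615dab055fa1ac62d, nat_lit 0xcd79b3651f94faae06be53, nat_lit 0x1ef91fdaae24ed829dd39e4af5, nat_lit 0, nat_lit 0,
nat_lit 0, nat_lit 0x60c4f17523cbac6a145f4dd, nat_lit 0, nat_lit 0, nat_lit 0, nat_lit 0,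
nat_lit 0, nat_lit 0, nat_lit 0, nat_lit 0, nat_lit 0, nat_lit 0xda9b705007314a2fb4,
nat_lit 0, nat_lit 0, nat_lit 0, nat_lit 0, nat_lit 0, nat_lit 0,
nat_lit 0x327c208b4f24ffe37c3e, nat_lit 0, nat_lit 0, nat_lit 0x53dd4ea9bc769bcfcd0378f7004, nat_lit 0x72e6fd21dbbb94489b81806, nat_lit 0x1ba9d6a1f46df1222757beb9eb,
nat_lit 0xa7f9d7d35e054f06c22e7f9d869, nat_lit 0, nat_lit 0, nat_lit 0, nat_lit 0, nat_lit 0x68b0ecde5ce297cfc8953599,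
nat_lit 0, nat_lit 0, nat_lit 0, nat_lit 0, nat_lit 0, nat_lit 0,
nat_lit 0, nat_lit 0xce0366f2b83ef2b4b0f, nat_lit 0, nat_lit 0, nat_lit 0, nat_lit 0,
nat_lit 0, nat_lit 0, nat_lit 0, nat_lit 0x51260877990ecc1809f, nat_lit 0x51c73cae81e40a5f61e75205a0, nat_lit 0x19ad0b560873d73c87b1f,
nat_lit 0x576947be9f7e38f1367e7557, nat_lit 0, nat_lit 0, nat_lit 0x345b2ece8e150f4b74529ab2, nat_lit 0, nat_lit 0,
nat_lit 0x16098dc52b9dd57f500, nat_lit 0x6fcc787ef4a36f, nat_lit 0x678171384b8ff5f35d4, nat_lit 0, nat_lit 0, nat_lit 0,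
nat_lit 0, nat_lit 0, nat_lit 0, nat_lit 0x3c6907fda82f8124a8a1, nat_lit 0x648454bd1c39b48d0244911d, nat_lit 0x39134fcdf50da1fe565ec,
nat_lit 0, nat_lit 0, nat_lit 0, nat_lit 0, nat_lit 0, nat_lit 0,
nat_lit 0x8c0bce94d900a76274f13b627b6, nat_lit 0x576e1aed97f64f2a62afe18d, nat_lit 0xba60f682a881a78b8632a9a, nat_lit 0x67cca7312dc0924d6ebe1067979, nat_lit 0, nat_lit 0,
nat_lit 0x3f078bf4ec0f126, nat_lit 0, nat_lit 0, nat_lit 0, nat_lit 0, nat_lit 0,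
nat_lit 0, nat_lit 0, nat_lit 0, nat_lit 0, nat_lit 0, nat_lit 0,
nat_lit 0, nat_lit 0, nat_lit 0, nat_lit 0, nat_lit 0, nat_lit 0,
nat_lit 0, nat_lit 0, nat_lit 0, nat_lit 0x1f8789b3efbb77b789315f, nat_lit 0xe8a7e7f87075cd176c293be6a, nat_lit 0xcccea48f52429be3c44f4a,
nat_lit 0x5deef1aab4e36583568c8131a6ee, nat_lit 0, nat_lit 0, nat_lit 0x34ba28ae2ecda7f03d9682ab0, nat_lit 0, nat_lit 0,
nat_lit 0, nat_lit 0, nat_lit 0, nat_lit 0, nat_lit 0, nat_lit 0,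
nat_lit 0, nat_lit 0, nat_lit 0, nat_lit 0, nat_lit 0, nat_lit 0,
nat_lit 0, nat_lit 0, nat_lit 0, nat_lit 0, nat_lit 0, nat_lit 0,
nat_lit 0x3e520cef5a9cdfd2b, nat_lit 0, nat_lit 0, nat_lit 0xe8a7e7f87075ccf73e0c42360, nat_lit 0x678762a884645171eb09c76c43a, nat_lit 0x1ab76f0608ca46002cd0738,
nat_lit 0x576947c35aede593097cc5aa, nat_lit 0, nat_lit 0, nat_lit 0x28b1a8d5efdb2c423f, nat_lit 0, nat_lit 0,
nat_lit 0, nat_lit 0, nat_lit 0, nat_lit 0, nat_lit 0, nat_lit 0,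
nat_lit 0x56d11e30d725402c423c, nat_lit 0, nat_lit 0, nat_lit 0, nat_lit 0, nat_lit 0,
nat_lit 0, nat_lit 0, nat_lit 0, nat_lit 0xa2b452214b491426d65f418, nat_lit 0, nat_lit 0,
nat_lit 0x64f2fcf81f53741fbb, nat_lit 0x53dd4ea9b8ca738577154f4da9f, nat_lit 0x1f8ce7f8636f623758576, nat_lit 0x1288e4e654db7af940bcef44004a2a, nat_lit 0, nat_lit 0,
nat_lit 0, nat_lit 0, nat_lit 0x156fb42b7a6b8517c02fe81ffb, nat_lit 0, nat_lit 0, nat_lit 0,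
nat_lit 0, nat_lit 0, nat_lit 0, nat_lit 0, nat_lit 0x12a97ac1f66b100bec608445ae6, nat_lit 0,
nat_lit 0, nat_lit 0, nat_lit 0, nat_lit 0, nat_lit 0, nat_lit 0,
nat_lit 0x2e00122227f2f474bd8cf50f7d6, nat_lit 0, nat_lit 0, nat_lit 0x10078340b5eff5b7ca, nat_lit 0xf8f88ca1d8a55f7aa082feeae6, nat_lit 0xd035b13e615dab0586d05941f,
nat_lit 0x61e45007a2b5390c18515b48, nat_lit 0, nat_lit 0, nat_lit 0, nat_lit 0x1c7f223677ef00c63, nat_lit 0,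
nat_lit 0, nat_lit 0, nat_lit 0, nat_lit 0, nat_lit 0, nat_lit 0,
nat_lit 0, nat_lit 0, nat_lit 0x51c4b5409b1b954689cc2d3, nat_lit 0, nat_lit 0, nat_lit 0,
nat_lit 0, nat_lit 0, nat_lit 0, nat_lit 0x1214092025577075d95cfc5, nat_lit 0, nat_lit 0,
nat_lit 0xa578ad378d0ab1c5f127ef, nat_lit 0x10e57babf1afb0be4bb, nat_lit 0x1988f5885708e4e606e2a23a7, nat_lit 0x8696a1a41778d87299c51ded9ae796, nat_lit 0, nat_lit 0,
nat_lit 0x184a28ecd9c39e1e84, nat_lit 0, nat_lit 0, nat_lit 0, nat_lit 0, nat_lit 0,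
nat_lit 0, nat_lit 0, nat_lit 0, nat_lit 0xf821729b92d23c, nat_lit 0, nat_lit 0,
nat_lit 0, nat_lit 0, nat_lit 0, nat_lit 0, nat_lit 0, nat_lit 0,
nat_lit 0x50b19cfe0e95b4f3dd703db, nat_lit 0, nat_lit 0, nat_lit 0x22134ca7215e0b7a64, nat_lit 0x2df4eb7371de616b096990ce, nat_lit 0xfd2e3dda58ebe8a1aa58ae4922,
nat_lit 0x5b43c143fbac7da7ecb42390, nat_lit 0, nat_lit 0, nat_lit 0, nat_lit 0x7c06a70, nat_lit 0,
nat_lit 0, nat_lit 0, nat_lit 0, nat_lit 0, nat_lit 0, nat_lit 0,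
nat_lit 0, nat_lit 0, nat_lit 0x1845694748bc38d, nat_lit 0, nat_lit 0, nat_lit 0,
nat_lit 0, nat_lit 0, nat_lit 0, nat_lit 0x13b7f617bbaba2de136, nat_lit 0, nat_lit 0,
nat_lit 0x751e40b9f786cdc42380d9f530, nat_lit 0x210305cfb28112ecc91834, nat_lit 0x65ebb3277282f83d15fa6725, nat_lit 0x1f8789b401dde560ca814b, nat_lit 0, nat_lit 0,
nat_lit 0, nat_lit 0, nat_lit 0x363735e50cdddf2a4, nat_lit 0, nat_lit 0, nat_lit 0,
nat_lit 0, nat_lit 0, nat_lit 0, nat_lit 0, nat_lit 0xcfcaf682cd2ad8f81437bab4cd85c, nat_lit 0,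
nat_lit 0, nat_lit 0, nat_lit 0, nat_lit 0, nat_lit 0, nat_lit 0,
nat_lit 0x72a6d0ef8b74333, nat_lit 0x196e72d07442fa7cf583ed7c6837, nat_lit 0x37d67b66d82531520fcc7452a, nat_lit 0x1ba84fb35076f00454b0e71366, nat_lit 0, nat_lit 0,
nat_lit 0x54b8c49d7394eb42957cd1d1e06d, nat_lit 0, nat_lit 0, nat_lit 0x138e8459d3ec79607, nat_lit 0x5d4089f1f4ddc38f53e26d0, nat_lit 0xa5cc19b6da07272b981d2f,
nat_lit 0, nat_lit 0, nat_lit 0, nat_lit 0, nat_lit 0, nat_lit 0,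
nat_lit 0xb2b4bb3e07eb1d66a719225, nat_lit 0xb9e9cd07558980e8bf39df2, nat_lit 0x19b0728d583bfd8288768fdd0, nat_lit 0, nat_lit 0, nat_lit 0,
nat_lit 0, nat_lit 0, nat_lit 0, nat_lit 0xd035a0f3c25e08f7d90659764, nat_lit 0x1dccf809833f1a3b9bb601e097, nat_lit 0x34d02a13a540b9e1b64d9789f,
nat_lit 0x61e36de117cf8a04039c1755, nat_lit 0, nat_lit 0, nat_lit 0x2798969db570c8, nat_lit 0, nat_lit 0,
nat_lit 0, nat_lit 0, nat_lit 0, nat_lit 0, nat_lit 0, nat_lit 0,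
nat_lit 0, nat_lit 0, nat_lit 0, nat_lit 0, nat_lit 0, nat_lit 0,
nat_lit 0, nat_lit 0, nat_lit 0, nat_lit 0, nat_lit 0, nat_lit 0,
nat_lit 0x1fda5dee37db2de71d63, nat_lit 0x2c4fbc4628be15524a64a368ba98b, nat_lit 0x12841327b84d6474cb8285b, nat_lit 0x24910c7ae0edfaa8bfa2db09e, nat_lit 0, nat_lit 0,
nat_lit 0x4117e6ed23495ce03, nat_lit 0, nat_lit 0, nat_lit 0, nat_lit 0, nat_lit 0,
nat_lit 0, nat_lit 0, nat_lit 0, nat_lit 0, nat_lit 0, nat_lit 0,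
nat_lit 0, nat_lit 0, nat_lit 0, nat_lit 0, nat_lit 0, nat_lit 0,
nat_lit 0, nat_lit 0, nat_lit 0, nat_lit 0x72cc5d6c015e2e7, nat_lit 0, nat_lit 0,
nat_lit 0x34d02a475adfab742a5755349, nat_lit 0x4117442dcef0f86e6, nat_lit 0x2d1115ea1c8dff874198dc0d, nat_lit 0x3fc176b531134ed5bcaf0dd3, nat_lit 0, nat_lit 0,
nat_lit 0xcc94708d, nat_lit 0, nat_lit 0, nat_lit 0, nat_lit 0, nat_lit 0,
nat_lit 0, nat_lit 0, nat_lit 0, nat_lit 0x7f867094b371c4d8557, nat_lit 0, nat_lit 0,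
nat_lit 0, nat_lit 0, nat_lit 0, nat_lit 0, nat_lit 0, nat_lit 0,
nat_lit 0xe69ee1b5cbc3beaa5209bfa78, nat_lit 0, nat_lit 0, nat_lit 0x1127770b20108898335, nat_lit 0x1d7d1cb178b6b8c7c3a2058f5, nat_lit 0x1cc7dafaa809c6578d2f5610,
nat_lit 0x9f9e291f35124ba243134b9, nat_lit 0, nat_lit 0, nat_lit 0, nat_lit 0, nat_lit 0x4173538fd7faa9cdb,
nat_lit 0, nat_lit 0, nat_lit 0, nat_lit 0, nat_lit 0, nat_lit 0,
nat_lit 0, nat_lit 0x1301321c833876d, nat_lit 0, nat_lit 0, nat_lit 0, nat_lit 0,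
nat_lit 0, nat_lit 0, nat_lit 0, nat_lit 0x3f3c4051620909ec2, nat_lit 0, nat_lit 0,
nat_lit 0x1ba9d6ac97bef0feb4f07d7e42, nat_lit 0x1090d9cf5a3b1859bf26b200b0, nat_lit 0x28e6f1cbb3e9ad547f759e9fcdfc, nat_lit 0xe5c7442f6da4a40d8207f5ebf, nat_lit 0, nat_lit 0,
nat_lit 0, nat_lit 0xe96397376a6fe216a025922a044d, nat_lit 0, nat_lit 0, nat_lit 0, nat_lit 0,
nat_lit 0, nat_lit 0, nat_lit 0, nat_lit 0, nat_lit 0, nat_lit 0x1645d86e9f42ff9,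
nat_lit 0, nat_lit 0, nat_lit 0, nat_lit 0, nat_lit 0, nat_lit 0,
nat_lit 0x192820fcbd66343, nat_lit 0, nat_lit 0, nat_lit 0x345b2ece9286612bd2afc35d, nat_lit 0x5970ff0a6c9918ea60887f790ad6, nat_lit 0x10cabe768c538391e337911ba33,
nat_lit 0x82ece9a2676784778597f115a9, nat_lit 0, nat_lit 0, nat_lit 0x50a4c0ce4e3d1, nat_lit 0, nat_lit 0,
nat_lit 0, nat_lit 0, nat_lit 0, nat_lit 0, nat_lit 0, nat_lit 0,
nat_lit 0x7ae6274bc6742ee1, nat_lit 0, nat_lit 0, nat_lit 0, nat_lit 0, nat_lit 0,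
nat_lit 0, nat_lit 0, nat_lit 0, nat_lit 0x2457bb8d4bdb3f936, nat_lit 0, nat_lit 0,
nat_lit 0x13562f69cdf40db13ec8ff3, nat_lit 0x16c19e57a119361397e103, nat_lit 0xdf91db49c88d01d575, nat_lit 0xe5c9d0a436c16a7d68e46bddb, nat_lit 0, nat_lit 0,
nat_lit 0, nat_lit 0x19da20204cba347d6f5872acf, nat_lit 0, nat_lit 0, nat_lit 0, nat_lit 0,
nat_lit 0, nat_lit 0, nat_lit 0, nat_lit 0, nat_lit 0, nat_lit 0x408eee0964d28031,
nat_lit 0, nat_lit 0, nat_lit 0, nat_lit 0, nat_lit 0, nat_lit 0,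
nat_lit 0x9ccc5c315e1afd94abd08b75987, nat_lit 0, nat_lit 0, nat_lit 0x3d9c6ae3a4be, nat_lit 0x81fc00541508a907037e7a, nat_lit 0x20bf6f971d624be000c67,
nat_lit 0xa1b45989f3efe3cce6546, nat_lit 0, nat_lit 0, nat_lit 0, nat_lit 0, nat_lit 0x3310eb2b8fadaf9d83e8,
nat_lit 0, nat_lit 0, nat_lit 0, nat_lit 0, nat_lit 0, nat_lit 0,
nat_lit 0, nat_lit 0x361e08976c80c9dce, nat_lit 0, nat_lit 0, nat_lit 0, nat_lit 0,
nat_lit 0, nat_lit 0, nat_lit 0]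

theorem len20 : cd20.length = 729 := by decide +kernel

theorem hC20 : allZ (chkN ap bsL ixL yW 7) cd20 (729 * 20) = true := by decide +kernel

end Cfsg.Agent.TcChain36.O7C
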