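import Mathlib
import Cfsg.Agent.TcChain36.O7C.Tab

set_option autoImplicit false
set_option maxRecDepth 1000000
set_option linter.all false

namespace Cfsg.Agent.TcChain36.O7C

open Cfsg.Agent.Lib.OutTree36 Cfsg.Agent.Lib.PcClass36

set_option Elab.async false

/-- The certificates of a block. -/
def cd21 : List ℕ := [
nat_lit 0x40f6727d57, nat_lit 0x3e448b74f900f821030ad, nat_lit 0xc4c872b0af42b0, nat_lit 0x29207aa5df967559e190507f, nat_lit 0x1cf6a6dfef233633bb601fa0ff, nat_lit 0xce9369cf9a51637,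
nat_lit 0x1d8187a7c46ad369413498873, nat_lit 0x10307561eadd7d3e82a9b45c3, nat_lit 0x14d83191b2de05dfa42cb91ab9661, nat_lit 0x9e0f1b22f133fae9ddd7e2b, nat_lit 0x953f05ba617513fe0815631c3b, nat_lit 0xfd2e1266da8b66e863a1ce8bc0,
nat_lit 0, nat_lit 0, nat_lit 0, nat_lit 0, nat_lit 0, nat_lit 0,
nat_lit 0x16e0f709024f3a9, nat_lit 0x58e40698e56e2d4cd09cf148, nat_lit 0x499e257bfa79695adab9c2dbb6c, nat_lit 0, nat_lit 0, nat_lit 0,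
nat_lit 0, nat_lit 0, nat_lit 0, nat_lit 0xce0366f502458933685, nat_lit 0x18d932d041661b35e7, nat_lit 0x25b6be2c48aa8283d,
nat_lit 0x2df58e724f83b8fb5a3bbe7e, nat_lit 0x2309589129c725684ba4b4, nat_lit 0x1988f5885708e7b7cc6e7eec7, nat_lit 0x82de727bbf42434b12e6e53e37, nat_lit 0x1026b572a6360afdf2fdb4, nat_lit 0x2305bdd846de29213,
nat_lit 0, nat_lit 0, nat_lit 0, nat_lit 0, nat_lit 0, nat_lit 0,
nat_lit 0, nat_lit 0, nat_lit 0, nat_lit 0, nat_lit 0, nat_lit 0,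
nat_lit 0, nat_lit 0, nat_lit 0, nat_lit 0, nat_lit 0, nat_lit 0,
nat_lit 0x50b0bae2a707997a626c797, nat_lit 0x1c6109a1431a38eab, nat_lit 0x304217d5e7, nat_lit 0xffe46bd3e7231ff657cf86286, nat_lit 0x250e90fd12c721b635a54a3b84f8, nat_lit 0xe4267ef1ebe07332db22b67fc,
nat_lit 0xa1417b85fac59862760fb, nat_lit 0x172269ae22373d6fad33214d6, nat_lit 0x751e33a3df742e2f0f9d587746, nat_lit 0, nat_lit 0, nat_lit 0,
nat_lit 0, nat_lit 0, nat_lit 0, nat_lit 0, nat_lit 0, nat_lit 0,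
nat_lit 0, nat_lit 0, nat_lit 0, nat_lit 0, nat_lit 0, nat_lit 0,
nat_lit 0, nat_lit 0, nat_lit 0, nat_lit 0x27cd691d97b3a46572b4d, nat_lit 0, nat_lit 0,
nat_lit 0x576947c35aede593097b5c73, nat_lit 0, nat_lit 0, nat_lit 0x49a5436b5a2a42730de325df2b4, nat_lit 0, nat_lit 0,
nat_lit 0xe55d7d51bb4f8fd, nat_lit 0, nat_lit 0, nat_lit 0, nat_lit 0, nat_lit 0,
nat_lit 0, nat_lit 0, nat_lit 0, nat_lit 0x50d0536c346cedabcff, nat_lit 0, nat_lit 0,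
nat_lit 0, nat_lit 0, nat_lit 0, nat_lit 0, nat_lit 0, nat_lit 0,
nat_lit 0x5bcfbfb4acdd4a01c92223fef573, nat_lit 0, nat_lit 0, nat_lit 0x14b6e1bb43812fd9bc06d40, nat_lit 0, nat_lit 0,
nat_lit 0x3925ab66d09d6d4249fff, nat_lit 0, nat_lit 0, nat_lit 0, nat_lit 0, nat_lit 0x6840b0ef5333497edffe1120,
nat_lit 0, nat_lit 0, nat_lit 0, nat_lit 0, nat_lit 0, nat_lit 0,
nat_lit 0, nat_lit 0xa7b1e66b6a934894ccd3bf3fbd2, nat_lit 0, nat_lit 0, nat_lit 0, nat_lit 0,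
nat_lit 0, nat_lit 0, nat_lit 0, nat_lit 0x34d7eabbb4eb50e397a4dd80c, nat_lit 0, nat_lit 0,
nat_lit 0x89bfef1126ccac7bff79c0aafd8, nat_lit 0, nat_lit 0, nat_lit 0x5b43c143fbbac3a000c17863, nat_lit 0, nat_lit 0,
nat_lit 0, nat_lit 0xbed595c7d56311, nat_lit 0, nat_lit 0, nat_lit 0, nat_lit 0,
nat_lit 0, nat_lit 0, nat_lit 0, nat_lit 0, nat_lit 0, nat_lit 0x1022d30d3f8f2b0cbfb7f4,
nat_lit 0, nat_lit 0, nat_lit 0, nat_lit 0, nat_lit 0, nat_lit 0,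
nat_lit 0x452a511abcec5, nat_lit 0, nat_lit 0, nat_lit 0x149197051e855e03d3ad2e3c2a, nat_lit 0, nat_lit 0,
nat_lit 0x3a935757a40cc93bb3997bd886f9, nat_lit 0, nat_lit 0, nat_lit 0xdf91db382f29bba053, nat_lit 0, nat_lit 0,
nat_lit 0, nat_lit 0, nat_lit 0, nat_lit 0, nat_lit 0, nat_lit 0,
nat_lit 0x787184a46ad02826e6be165, nat_lit 0, nat_lit 0, nat_lit 0, nat_lit 0, nat_lit 0,
nat_lit 0, nat_lit 0, nat_lit 0, nat_lit 0x751de905be0debccff0f0bc9ad, nat_lit 0, nat_lit 0,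
nat_lit 0x50a45f00369d4, nat_lit 0, nat_lit 0, nat_lit 0x452ababbbcc10, nat_lit 0, nat_lit 0,
nat_lit 0, nat_lit 0xa3419f0a898134acc48f5e78cb7, nat_lit 0, nat_lit 0, nat_lit 0, nat_lit 0,
nat_lit 0, nat_lit 0, nat_lit 0, nat_lit 0, nat_lit 0, nat_lit 0xd0346ce7bbe9b32f91b68b208,
nat_lit 0, nat_lit 0, nat_lit 0, nat_lit 0, nat_lit 0, nat_lit 0,
nat_lit 0x3315fb1d703f14ad09ef806, nat_lit 0, nat_lit 0, nat_lit 0x1ba9d6ac97bef0feb4f0791dbe, nat_lit 0, nat_lit 0,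
nat_lit 0x751d7d4259b361f7bfc57033c1, nat_lit 0, nat_lit 0, nat_lit 0, nat_lit 0, nat_lit 0x1f8e607ba9284816457fa,
nat_lit 0, nat_lit 0, nat_lit 0, nat_lit 0, nat_lit 0, nat_lit 0,
nat_lit 0, nat_lit 0x148dfa4080b0, nat_lit 0, nat_lit 0, nat_lit 0, nat_lit 0,
nat_lit 0, nat_lit 0, nat_lit 0, nat_lit 0x3c619a120df92a68, nat_lit 0x59b11b2816f2ab2, nat_lit 0x1e09bf6a2aee5b9bb5,
nat_lit 0x91b3c4bf1a94f214bd9f8c8fa, nat_lit 0xa031f003741d46c24b, nat_lit 0x14d80f9b1f16fd24d11b3b556a593, nat_lit 0x8ff07ca73203c1fa9164bfd712, nat_lit 0x2bef1fa4e79c152ad14e49994, nat_lit 0x25b6be2acc7218311,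
nat_lit 0xa2871922c15c1982c76f29e, nat_lit 0x13b3b02002c94acdc585e7c, nat_lit 0x1cbfb1933e4b55eb6edb802d, nat_lit 0, nat_lit 0, nat_lit 0,
nat_lit 0, nat_lit 0, nat_lit 0, nat_lit 0x18427f748b73791, nat_lit 0xe920d4caa6b8de5d7991f67f728a, nat_lit 0x6108f5165c51c87aaf0c,
nat_lit 0, nat_lit 0, nat_lit 0, nat_lit 0, nat_lit 0, nat_lit 0,
nat_lit 0x34ba1a72a6a2e1c685c73136d, nat_lit 0x3c90be6d323926572, nat_lit 0x2d24469754, nat_lit 0x2968f979ec914a0a9802165caa25, nat_lit 0x576e1b6a28536fd2bf3ceace, nat_lit 0x499d1fe59d40fe4ec43740bc5d5,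
nat_lit 0x1030bc76f44b9f66ac2ecd079, nat_lit 0x82de71983401c650a5539e48ba, nat_lit 0xfd36e9663933f6fa395c6, nat_lit 0, nat_lit 0, nat_lit 0,
nat_lit 0, nat_lit 0, nat_lit 0, nat_lit 0, nat_lit 0, nat_lit 0,
nat_lit 0, nat_lit 0, nat_lit 0, nat_lit 0, nat_lit 0, nat_lit 0,
nat_lit 0, nat_lit 0, nat_lit 0, nat_lit 0xfd1a320c603c89, nat_lit 0x138e846056732c24a, nat_lit 0x22ab8586521524259c,
nat_lit 0xe8c19f599b62d2dc7e3535aa3, nat_lit 0x1090d9cf5cf2fe706360adc6b0, nat_lit 0x362fafb56e67728a6, nat_lit 0x41e101cc7ad6fc695e136fbc77d, nat_lit 0x491dbafe9d48d81017019b4, nat_lit 0x751e33a3e096b23c8f821dbd09,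
nat_lit 0, nat_lit 0, nat_lit 0, nat_lit 0, nat_lit 0, nat_lit 0,
nat_lit 0, nat_lit 0, nat_lit 0, nat_lit 0, nat_lit 0, nat_lit 0,
nat_lit 0, nat_lit 0, nat_lit 0, nat_lit 0, nat_lit 0, nat_lit 0,
nat_lit 0x13f163487eb0c4e90, nat_lit 0, nat_lit 0, nat_lit 0xc97fe433da4145e0740d85, nat_lit 0, nat_lit 0,
nat_lit 0x337b0dfc8a39bee123b597416, nat_lit 0, nat_lit 0, nat_lit 0x16fbe68fec53cf9, nat_lit 0, nat_lit 0,
nat_lit 0, nat_lit 0, nat_lit 0, nat_lit 0, nat_lit 0, nat_lit 0,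
nat_lit 0x91178b1b3f39191898ce01, nat_lit 0, nat_lit 0, nat_lit 0, nat_lit 0, nat_lit 0,
nat_lit 0, nat_lit 0, nat_lit 0, nat_lit 0x13562f69cdf40db13ed2b2f, nat_lit 0, nat_lit 0,
nat_lit 0x9fe6a7e119d1f7bc8314058, nat_lit 0, nat_lit 0, nat_lit 0x109646b3c4bc664432ba7419fe, nat_lit 0, nat_lit 0,
nat_lit 0, nat_lit 0, nat_lit 0x9235a946, nat_lit 0, nat_lit 0, nat_lit 0,
nat_lit 0, nat_lit 0, nat_lit 0, nat_lit 0, nat_lit 0x1956d5c2276ac0f746, nat_lit 0,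
nat_lit 0, nat_lit 0, nat_lit 0, nat_lit 0, nat_lit 0, nat_lit 0,
nat_lit 0x52764c1750c9e0641244e611783e, nat_lit 0, nat_lit 0, nat_lit 0x7dcb91bfa1cacf52d81, nat_lit 0, nat_lit 0,
nat_lit 0x5afacc81eae92a6999b8bc, nat_lit 0, nat_lit 0, nat_lit 0, nat_lit 0x2df4eb238a02bab5612145c2, nat_lit 0,
nat_lit 0, nat_lit 0, nat_lit 0, nat_lit 0, nat_lit 0, nat_lit 0,
nat_lit 0, nat_lit 0, nat_lit 0x5ac3237616a88c470c5006, nat_lit 0, nat_lit 0, nat_lit 0,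
nat_lit 0, nat_lit 0, nat_lit 0, nat_lit 0xcdba28da827db2b, nat_lit 0, nat_lit 0,
nat_lit 0x38a0a6fcd50fa91d93c, nat_lit 0, nat_lit 0, nat_lit 0x576e1b1d9cbcd05d60983b75, nat_lit 0, nat_lit 0,
nat_lit 0x11ccae78b8815c2649, nat_lit 0, nat_lit 0, nat_lit 0, nat_lit 0, nat_lit 0,
nat_lit 0, nat_lit 0, nat_lit 0, nat_lit 0x126baf5407aa3e7adb6593, nat_lit 0, nat_lit 0,
nat_lit 0, nat_lit 0, nat_lit 0, nat_lit 0, nat_lit 0, nat_lit 0,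
nat_lit 0x250e54a1fe61c205268a96d003cb, nat_lit 0, nat_lit 0, nat_lit 0x345b2ece93a0623fa146c525, nat_lit 0, nat_lit 0,
nat_lit 0x576947be9f7e38f1367de329, nat_lit 0, nat_lit 0, nat_lit 0, nat_lit 0x2920bbb01f1c3b53b30be55e, nat_lit 0,
nat_lit 0, nat_lit 0, nat_lit 0, nat_lit 0, nat_lit 0, nat_lit 0,
nat_lit 0, nat_lit 0, nat_lit 0x13074381a92499b, nat_lit 0, nat_lit 0, nat_lit 0,
nat_lit 0, nat_lit 0, nat_lit 0, nat_lit 0xe5c7442f6da4a40d8207df588, nat_lit 0, nat_lit 0,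
nat_lit 0x661fce39650018e38efa505fba6, nat_lit 0, nat_lit 0, nat_lit 0x43d2ccb2ed62fc74e, nat_lit 0, nat_lit 0,
nat_lit 0, nat_lit 0, nat_lit 0x24c392bdc1c7a5e174d38b, nat_lit 0, nat_lit 0, nat_lit 0,
nat_lit 0, nat_lit 0, nat_lit 0, nat_lit 0, nat_lit 0x3667647c414fff321c42, nat_lit 0,
nat_lit 0, nat_lit 0, nat_lit 0, nat_lit 0, nat_lit 0, nat_lit 0,
nat_lit 0x5db6c78c0ad9b7f28, nat_lit 0x18d75135b50cca91d9, nat_lit 0x16b14eaa7306b5, nat_lit 0x1cc7ed1fda6d36e2b98c8698, nat_lit 0x1b6d861e4b9c8d98a581ee, nat_lit 0x1cc7dafaa809c6531ddbbcd3,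
nat_lit 0x17226737875fc81b58a2cd2d4, nat_lit 0x1b6db65af39c3fbd06c35b, nat_lit 0x6b58310632dd4d8, nat_lit 0xb802e6de9b0e00923c, nat_lit 0x126d088ddad29e1ac191b1cb4dbcbc, nat_lit 0xa287fb3e1f9e7e359ff6b57,
nat_lit 0, nat_lit 0, nat_lit 0, nat_lit 0, nat_lit 0, nat_lit 0,
nat_lit 0x73c5b5e00453dcd8, nat_lit 0xa287fb3e278e2fb786bcfc1, nat_lit 0x48b703313fd853d3099b60690a7, nat_lit 0, nat_lit 0, nat_lit 0,
nat_lit 0, nat_lit 0, nat_lit 0, nat_lit 0x51bc718cadf66e7dc85e5d8, nat_lit 0x4857e980c727d7d81, nat_lit 0x3063087255,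
nat_lit 0xd0352c7bfc8a847d63ae3389c, nat_lit 0x2f34e98fe538d278eb01c339fb01, nat_lit 0x1f8c19d979e2cd37aef3da0f65, nat_lit 0x20eacca87f70d98d31b7a8, nat_lit 0x1d734a54337719ab5b5673feb, nat_lit 0x4c1cedf518179031cab2093d2,
nat_lit 0, nat_lit 0, nat_lit 0, nat_lit 0, nat_lit 0, nat_lit 0,
nat_lit 0, nat_lit 0, nat_lit 0, nat_lit 0, nat_lit 0, nat_lit 0,
nat_lit 0, nat_lit 0, nat_lit 0, nat_lit 0, nat_lit 0, nat_lit 0,
nat_lit 0x1c322ce36ca, nat_lit 0x19ef3776ea8e7eb45ed0c, nat_lit 0x3c61990775764eab, nat_lit 0x34747f63244c22823b08f103, nat_lit 0x918a72f96d2ff9759b5ac4801, nat_lit 0xab4bf35b7d76c5d,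
nat_lit 0x1c6eb6a5364b442b4096e57d9, nat_lit 0xf8f88c021b52ca8e1bf4e32d7a, nat_lit 0x48b4d84ce4d22171bd4f1c8970a, nat_lit 0, nat_lit 0, nat_lit 0,
nat_lit 0, nat_lit 0, nat_lit 0, nat_lit 0, nat_lit 0, nat_lit 0,
nat_lit 0, nat_lit 0, nat_lit 0, nat_lit 0, nat_lit 0, nat_lit 0,
nat_lit 0, nat_lit 0, nat_lit 0, nat_lit 0x5b856e32ba591b1ae786c062, nat_lit 0, nat_lit 0,
nat_lit 0x64f60746d9d2050c86, nat_lit 0, nat_lit 0, nat_lit 0x661fce39650018e5797d17b9a75, nat_lit 0, nat_lit 0,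
nat_lit 0x14ae058e294ce74620d395a, nat_lit 0, nat_lit 0, nat_lit 0, nat_lit 0, nat_lit 0,
nat_lit 0, nat_lit 0, nat_lit 0, nat_lit 0x29dbce2066181, nat_lit 0, nat_lit 0,
nat_lit 0, nat_lit 0, nat_lit 0, nat_lit 0, nat_lit 0, nat_lit 0,
nat_lit 0x92996ad4190ec83dd44c03eb4f0, nat_lit 0, nat_lit 0, nat_lit 0x1f95dba6655fcb9c720613, nat_lit 0, nat_lit 0,
nat_lit 0x102fa3a8f48dcc8c3aa2aed87, nat_lit 0, nat_lit 0, nat_lit 0, nat_lit 0, nat_lit 0x3013c73f92,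
nat_lit 0, nat_lit 0, nat_lit 0, nat_lit 0, nat_lit 0, nat_lit 0,
nat_lit 0, nat_lit 0x1029fc802d8c5d9d8a84b4986, nat_lit 0, nat_lit 0, nat_lit 0, nat_lit 0,
nat_lit 0, nat_lit 0, nat_lit 0, nat_lit 0xa702e5df77b1253f979c816, nat_lit 0, nat_lit 0,
nat_lit 0x122d0a66428119af90e3be91cee4b8, nat_lit 0, nat_lit 0, nat_lit 0x7dcb91bfa1cacf4db48, nat_lit 0, nat_lit 0,
nat_lit 0, nat_lit 0xeda34138b9b11b2c99, nat_lit 0, nat_lit 0, nat_lit 0, nat_lit 0,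
nat_lit 0, nat_lit 0, nat_lit 0, nat_lit 0, nat_lit 0, nat_lit 0x284c3741098ee,
nat_lit 0, nat_lit 0, nat_lit 0, nat_lit 0, nat_lit 0, nat_lit 0,
nat_lit 0x7d249ff8c15d, nat_lit 0, nat_lit 0, nat_lit 0x2da564d1d548f56baf45, nat_lit 0, nat_lit 0,
nat_lit 0x4fd267f5a243a31f, nat_lit 0, nat_lit 0, nat_lit 0x3e7341538e45, nat_lit 0, nat_lit 0,
nat_lit 0, nat_lit 0, nat_lit 0, nat_lit 0, nat_lit 0, nat_lit 0,
nat_lit 0xab58790f6ef421b, nat_lit 0, nat_lit 0, nat_lit 0, nat_lit 0, nat_lit 0,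
nat_lit 0, nat_lit 0, nat_lit 0, nat_lit 0x369509f875e2b442e3d24, nat_lit 0, nat_lit 0,
nat_lit 0x1cc8efbaf25b11af704e3615, nat_lit 0, nat_lit 0, nat_lit 0x820d43eb8d481f20d04ce4639d, nat_lit 0, nat_lit 0,
nat_lit 0, nat_lit 0x506ad5271531a, nat_lit 0, nat_lit 0, nat_lit 0, nat_lit 0,
nat_lit 0, nat_lit 0, nat_lit 0, nat_lit 0, nat_lit 0, nat_lit 0xf3c4170,
nat_lit 0, nat_lit 0, nat_lit 0, nat_lit 0, nat_lit 0, nat_lit 0,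
nat_lit 0x510a15f89089f57bd504aa3f7ae7, nat_lit 0, nat_lit 0, nat_lit 0xb158b9e7a4c599, nat_lit 0, nat_lit 0,
nat_lit 0x63d34dd339e9a14016e0, nat_lit 0, nat_lit 0, nat_lit 0, nat_lit 0, nat_lit 0x65985e18e29883f34ccb,
nat_lit 0, nat_lit 0, nat_lit 0, nat_lit 0, nat_lit 0, nat_lit 0,
nat_lit 0, nat_lit 0x1d0e6d99d69fc276ad2e2d580b70b8, nat_lit 0, nat_lit 0, nat_lit 0, nat_lit 0,
nat_lit 0, nat_lit 0, nat_lit 0]

theorem len21 : cd21.length = 729 := by decide +kernel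

theorem hC21 : allZ (chkN ap bsL ixL yW 7) cd21 (729 * 21) = true := by decide +kernel

end Cfsg.Agent.TcChain36.O7C
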