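import Mathlib
import Cfsg.Agent.TcChain36.O7C.Tab

set_option autoImplicit false
set_option maxRecDepth 1000000
set_option linter.all false

namespace Cfsg.Agent.TcChain36.O7C

open Cfsg.Agent.Lib.OutTree36 Cfsg.Agent.Lib.PcClass36

set_option Elab.async false

/-- The certificates of a block. -/
def cd22 : List ℕ := [
nat_lit 0x409c90643a60ed61, nat_lit 0x48b4d84ce4d479cc62d4e2370a5, nat_lit 0x2d8b1770e6d3306081c3f842ff16, nat_lit 0x1029f4745083f8c08a3ec981a, nat_lit 0, nat_lit 0,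
nat_lit 0x914b4934eab2230749787c94e, nat_lit 0, nat_lit 0, nat_lit 0x1f38b65913356d1fd0aa29, nat_lit 0x81418088b340d887cc252061df, nat_lit 0x15ddc6eb9e14480dc46,
nat_lit 0, nat_lit 0, nat_lit 0, nat_lit 0, nat_lit 0, nat_lit 0,
nat_lit 0x128247847d56cfe8, nat_lit 0x2d89f25d61568c37bb1a87df7a40, nat_lit 0xfb91df, nat_lit 0, nat_lit 0, nat_lit 0,
nat_lit 0, nat_lit 0, nat_lit 0, nat_lit 0x5128c67963c95fcf781e4c7, nat_lit 0x491db7fe50e0c4e0381f87a, nat_lit 0x51f7340940cf2dbe525,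
nat_lit 0xda6aa1f7aa25f68, nat_lit 0, nat_lit 0, nat_lit 0x8c04137bc74bb92a979f39d526b, nat_lit 0, nat_lit 0,
nat_lit 0, nat_lit 0, nat_lit 0, nat_lit 0, nat_lit 0, nat_lit 0,
nat_lit 0, nat_lit 0, nat_lit 0, nat_lit 0, nat_lit 0, nat_lit 0,
nat_lit 0, nat_lit 0, nat_lit 0, nat_lit 0, nat_lit 0, nat_lit 0,
nat_lit 0xa1b3785531ad9d3607c99, nat_lit 0x47bba317f82c88ffa46f, nat_lit 0x9517a84a43ddb7a40a14321085, nat_lit 0x5df1a14db369735bb84189cd, nat_lit 0, nat_lit 0,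
nat_lit 0x8e6ee34940877e174d2077, nat_lit 0, nat_lit 0, nat_lit 0, nat_lit 0, nat_lit 0,
nat_lit 0, nat_lit 0, nat_lit 0, nat_lit 0, nat_lit 0, nat_lit 0,
nat_lit 0, nat_lit 0, nat_lit 0, nat_lit 0, nat_lit 0, nat_lit 0,
nat_lit 0, nat_lit 0, nat_lit 0, nat_lit 0x27cd691da2312b9879165, nat_lit 0, nat_lit 0,
nat_lit 0x1001fe04da2e36cfc4f11e76988, nat_lit 0, nat_lit 0, nat_lit 0x19da20204cb8f5c54c62ffbd2, nat_lit 0x1223c312b551a5eb1ebf04fa5e4, nat_lit 0x48b4d84ce4d2217b87abbf8d5eb,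
nat_lit 0xa69fc8225a95c572, nat_lit 0, nat_lit 0, nat_lit 0, nat_lit 0, nat_lit 0,
nat_lit 0, nat_lit 0, nat_lit 0, nat_lit 0x2cc853b2e59cb6a7c, nat_lit 0, nat_lit 0,
nat_lit 0, nat_lit 0, nat_lit 0, nat_lit 0, nat_lit 0, nat_lit 0,
nat_lit 0x68ddd6c4060aa03e24c27c2e, nat_lit 0, nat_lit 0, nat_lit 0x61e3f2eabbf3d9a3f7a729bd, nat_lit 0, nat_lit 0,
nat_lit 0x5a10398fb3f0350, nat_lit 0x51f51ead10e0557bbf40bc833d, nat_lit 0x21fb6a3f9bc675eb501db, nat_lit 0, nat_lit 0, nat_lit 0xfb9e050e7c4bd0,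
nat_lit 0, nat_lit 0, nat_lit 0, nat_lit 0, nat_lit 0, nat_lit 0,
nat_lit 0, nat_lit 0x1956d5c2276ac0cf78, nat_lit 0, nat_lit 0, nat_lit 0, nat_lit 0,
nat_lit 0, nat_lit 0, nat_lit 0, nat_lit 0x41e096755274e71b5bdf0f1d198, nat_lit 0, nat_lit 0,
nat_lit 0x96261dd80348a9aefcd25ad1f3f, nat_lit 0, nat_lit 0, nat_lit 0x918a72de4d3543280b99e120d, nat_lit 0x91178b1b3e8ff43178c31a, nat_lit 0x9a1c95690f108035cd9,
nat_lit 0, nat_lit 0x491dbdb7174e318592fd5b3, nat_lit 0, nat_lit 0, nat_lit 0, nat_lit 0,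
nat_lit 0, nat_lit 0, nat_lit 0, nat_lit 0, nat_lit 0, nat_lit 0x3ae38dd1184db0601d1b07a65,
nat_lit 0, nat_lit 0, nat_lit 0, nat_lit 0, nat_lit 0, nat_lit 0,
nat_lit 0xe406a719c49d905d9b, nat_lit 0, nat_lit 0, nat_lit 0x142c368f54871bf1a0b36a839b, nat_lit 0, nat_lit 0,
nat_lit 0x41e101cc7ad6fc695e136bc3b45, nat_lit 0x751e33a3e096b7be88d8fe012c, nat_lit 0x172269ae126e939f465455bdb, nat_lit 0x2305d19b0f03a8b1c, nat_lit 0, nat_lit 0,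
nat_lit 0, nat_lit 0, nat_lit 0, nat_lit 0, nat_lit 0, nat_lit 0,
nat_lit 0x43bfda9c944d30013131b223, nat_lit 0, nat_lit 0, nat_lit 0, nat_lit 0, nat_lit 0,
nat_lit 0, nat_lit 0, nat_lit 0, nat_lit 0xbeef02c5fe69876a75, nat_lit 0, nat_lit 0,
nat_lit 0xb177a6ccd8bbc954f4e, nat_lit 0, nat_lit 0, nat_lit 0xcbd33a8d6924e9, nat_lit 0x172244fd4dc4a2386372095c2, nat_lit 0x17225a46aa48476c18d40813c,
nat_lit 0, nat_lit 0x68de57a55647744354c6f53b, nat_lit 0, nat_lit 0, nat_lit 0, nat_lit 0,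
nat_lit 0, nat_lit 0, nat_lit 0, nat_lit 0, nat_lit 0, nat_lit 0x85accfa23b020f81faf,
nat_lit 0, nat_lit 0, nat_lit 0, nat_lit 0, nat_lit 0, nat_lit 0,
nat_lit 0x2acdce889ac6b73ef12baaf80f, nat_lit 0, nat_lit 0, nat_lit 0x1f8789b3fdd75df3ce3156, nat_lit 0, nat_lit 0,
nat_lit 0x19599c53b9919e87edf2e244c, nat_lit 0x9e0f1b22ba430ac6db7385c, nat_lit 0x26e2b3b844698bd0c6, nat_lit 0, nat_lit 0, nat_lit 0x3ae38dd1184ff501920a7b049,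
nat_lit 0, nat_lit 0, nat_lit 0, nat_lit 0, nat_lit 0, nat_lit 0,
nat_lit 0, nat_lit 0xa3955d98b67f93258142590de7e44d, nat_lit 0, nat_lit 0, nat_lit 0, nat_lit 0,
nat_lit 0, nat_lit 0, nat_lit 0, nat_lit 0x22a7fc202d5cf, nat_lit 0x491dc02f4bd4df13f1f6fb9, nat_lit 0x5d41038e1d90eaf2493f1e4,
nat_lit 0x1644be34e2b3aa0, nat_lit 0, nat_lit 0, nat_lit 0x82c89f24cc80f9fd5dd93943aa, nat_lit 0, nat_lit 0,
nat_lit 0x10aece2374330111053b, nat_lit 0x15f8d645cb37eb84d499060d30460a, nat_lit 0x11c1dc125a8f3ee85fb017b070d, nat_lit 0, nat_lit 0, nat_lit 0,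
nat_lit 0, nat_lit 0, nat_lit 0, nat_lit 0x20c00436fe78ae0f6886e, nat_lit 0x118fe69216042d64177a19c, nat_lit 0x2968f515bce44b9bdbc46e3e380c,
nat_lit 0, nat_lit 0, nat_lit 0, nat_lit 0, nat_lit 0, nat_lit 0,
nat_lit 0x491dbb005e3f448d4bd7cd2, nat_lit 0x250e54a1fe61c84c495c17a7a6b1, nat_lit 0xf8f88bb347fe592405c7c6f2bd, nat_lit 0x1f8789b3efbb77b7893160, nat_lit 0, nat_lit 0,
nat_lit 0x9625f5507c85da6f5885f0bf9c7, nat_lit 0, nat_lit 0, nat_lit 0, nat_lit 0, nat_lit 0,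
nat_lit 0, nat_lit 0, nat_lit 0, nat_lit 0, nat_lit 0, nat_lit 0,
nat_lit 0, nat_lit 0, nat_lit 0, nat_lit 0, nat_lit 0, nat_lit 0,
nat_lit 0, nat_lit 0, nat_lit 0, nat_lit 0x1c6eb6a5364b442b4096e5165, nat_lit 0x5de3d96268aa13b6da653b91, nat_lit 0x6ebb91c7bfd5c8251aa2,
nat_lit 0x452a51198e7cd, nat_lit 0, nat_lit 0, nat_lit 0x149197051e85dcfeebcb9a9a21, nat_lit 0, nat_lit 0,
nat_lit 0, nat_lit 0, nat_lit 0, nat_lit 0, nat_lit 0, nat_lit 0,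
nat_lit 0, nat_lit 0, nat_lit 0, nat_lit 0, nat_lit 0, nat_lit 0,
nat_lit 0, nat_lit 0, nat_lit 0, nat_lit 0, nat_lit 0, nat_lit 0,
nat_lit 0xa5a3181be0762a7, nat_lit 0, nat_lit 0, nat_lit 0xa1b45989f3efe3ccf285f, nat_lit 0, nat_lit 0,
nat_lit 0x38c8ae4b919ef151d6a, nat_lit 0x2f2c7c3f77f1e0fb12fbfcadd832, nat_lit 0x322da356268f0d61eaaab2a, nat_lit 0x2c990b373a9f98, nat_lit 0, nat_lit 0,
nat_lit 0, nat_lit 0, nat_lit 0, nat_lit 0, nat_lit 0, nat_lit 0,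
nat_lit 0x11ccae78b8ccb192dc, nat_lit 0, nat_lit 0, nat_lit 0, nat_lit 0, nat_lit 0,
nat_lit 0, nat_lit 0, nat_lit 0, nat_lit 0x59f1be6e9e861b5a09bb42ef, nat_lit 0, nat_lit 0,
nat_lit 0xba6def95601d002722aa3f2, nat_lit 0, nat_lit 0, nat_lit 0x1d734a54330a3743cabfafcdf, nat_lit 0x1b7827e13b893fd25b8014, nat_lit 0x17226906ee5fbdab47de42d30,
nat_lit 0, nat_lit 0, nat_lit 0xe4a53e2acec7c87, nat_lit 0, nat_lit 0, nat_lit 0,
nat_lit 0, nat_lit 0, nat_lit 0, nat_lit 0, nat_lit 0x2123fe2803064cac25ba4674af, nat_lit 0,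
nat_lit 0, nat_lit 0, nat_lit 0, nat_lit 0, nat_lit 0, nat_lit 0,
nat_lit 0x1ef8cd08298fece25a440933b5, nat_lit 0, nat_lit 0, nat_lit 0x11bc3d75410cd10672b1307, nat_lit 0, nat_lit 0,
nat_lit 0x20ecfaea59b0242, nat_lit 0x9f01c567dd81f2ca2153898d15f, nat_lit 0x11390d34cc9b51ea2214e1b523, nat_lit 0, nat_lit 0x6061c418ae69d415, nat_lit 0,
nat_lit 0, nat_lit 0, nat_lit 0, nat_lit 0, nat_lit 0, nat_lit 0,
nat_lit 0, nat_lit 0, nat_lit 0x1f8d8b65ceb79688c98c4, nat_lit 0, nat_lit 0, nat_lit 0,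
nat_lit 0, nat_lit 0, nat_lit 0, nat_lit 0x3922e0cabb8c733b92872, nat_lit 0, nat_lit 0,
nat_lit 0x8140165aadac9c47992474df73, nat_lit 0, nat_lit 0, nat_lit 0x9e149fe92864a12725, nat_lit 0x19d9c470f00d16cc35479bcd3, nat_lit 0xa781fdd30c1249e0a8e12503a63,
nat_lit 0x362fafab4b9f4dc97, nat_lit 0, nat_lit 0, nat_lit 0, nat_lit 0, nat_lit 0,
nat_lit 0, nat_lit 0, nat_lit 0, nat_lit 0xb8fc66908ba6, nat_lit 0, nat_lit 0,
nat_lit 0, nat_lit 0, nat_lit 0, nat_lit 0, nat_lit 0, nat_lit 0,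
nat_lit 0x2920a07da0807faf634044fd, nat_lit 0, nat_lit 0, nat_lit 0x5a927f1883b6372de668df83f56e, nat_lit 0, nat_lit 0,
nat_lit 0x53ec49e35e9de831fe02534d668, nat_lit 0x312def59243b017c8646c15a3, nat_lit 0x102fa3a6094a01b18574eb471, nat_lit 0, nat_lit 0xceea004061d75f30f5c, nat_lit 0,
nat_lit 0, nat_lit 0, nat_lit 0, nat_lit 0, nat_lit 0, nat_lit 0,
nat_lit 0, nat_lit 0, nat_lit 0x3260723dc344b7b6262b, nat_lit 0, nat_lit 0, nat_lit 0,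
nat_lit 0, nat_lit 0, nat_lit 0, nat_lit 0x1c564151a268765db7ed6, nat_lit 0, nat_lit 0,
nat_lit 0xb58decf8494a848b79572da451, nat_lit 0, nat_lit 0, nat_lit 0x19599c53b98c1d610372e7ad4, nat_lit 0x485848a105366de5e, nat_lit 0x7d44c068c54cbb3dfd60fda16ca,
nat_lit 0, nat_lit 0, nat_lit 0x743148ffc454c8709507, nat_lit 0, nat_lit 0, nat_lit 0,
nat_lit 0, nat_lit 0, nat_lit 0, nat_lit 0, nat_lit 0xa77ffa9f732fa129b6f9938, nat_lit 0,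
nat_lit 0, nat_lit 0, nat_lit 0, nat_lit 0, nat_lit 0, nat_lit 0,
nat_lit 0x2da564c34618530be255, nat_lit 0x1ba9d6bca64b437f672affe17f, nat_lit 0x1d8187a7c46ad374aa23b89dc, nat_lit 0x14b6e1bb43904e8974c12a6, nat_lit 0, nat_lit 0,
nat_lit 0x370fedce9d64bda24207c3691, nat_lit 0, nat_lit 0, nat_lit 0xdf30a102a42e5c1, nat_lit 0xda60b8a8d02fd54, nat_lit 0x4d123c515285f15a416314df,
nat_lit 0, nat_lit 0, nat_lit 0, nat_lit 0, nat_lit 0, nat_lit 0,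
nat_lit 0xac782e3cc11613f0ca5, nat_lit 0x27a530470b25ce69b8d59783ec273, nat_lit 0x109933cceaf850d51c54cb660a, nat_lit 0, nat_lit 0, nat_lit 0,
nat_lit 0, nat_lit 0, nat_lit 0, nat_lit 0x9f01c567dd81f3275f972d6ba18, nat_lit 0x17226993117fe15f14b6b101c, nat_lit 0x19d9c443fda1890606a2b7a14,
nat_lit 0x6108f547ee04ceaf8099, nat_lit 0, nat_lit 0, nat_lit 0x3afcc8ce4309355f5b350cfc0, nat_lit 0, nat_lit 0,
nat_lit 0, nat_lit 0, nat_lit 0, nat_lit 0, nat_lit 0, nat_lit 0,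
nat_lit 0, nat_lit 0, nat_lit 0, nat_lit 0, nat_lit 0, nat_lit 0,
nat_lit 0, nat_lit 0, nat_lit 0, nat_lit 0, nat_lit 0, nat_lit 0,
nat_lit 0x19ee8eb4c256fb0c2ce67d048db0, nat_lit 0xce0366f1a1bb85e61f5, nat_lit 0x1026db1a6cee5b1f7c321c, nat_lit 0x127b8746319ae3aea90d086, nat_lit 0, nat_lit 0,
nat_lit 0xa7aabce2185bbd4697472cc35a2, nat_lit 0, nat_lit 0, nat_lit 0, nat_lit 0, nat_lit 0,
nat_lit 0, nat_lit 0, nat_lit 0, nat_lit 0, nat_lit 0, nat_lit 0,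
nat_lit 0, nat_lit 0, nat_lit 0, nat_lit 0, nat_lit 0, nat_lit 0,
nat_lit 0, nat_lit 0, nat_lit 0, nat_lit 0x2d0b6955a7d24c3dc, nat_lit 0, nat_lit 0,
nat_lit 0x1029f4745083f8c08a3ec05ed, nat_lit 0, nat_lit 0, nat_lit 0xa118e46f9111d88ded, nat_lit 0x5d3f5ef5ad639075c1c0c64, nat_lit 0x332a68da0e4a4429de8e063,
nat_lit 0x40baf7a050, nat_lit 0, nat_lit 0, nat_lit 0, nat_lit 0, nat_lit 0,
nat_lit 0, nat_lit 0, nat_lit 0, nat_lit 0x1283fcaa4a0f55ad, nat_lit 0, nat_lit 0,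
nat_lit 0, nat_lit 0, nat_lit 0, nat_lit 0, nat_lit 0, nat_lit 0,
nat_lit 0x3826dbd27b54f83291d24, nat_lit 0, nat_lit 0, nat_lit 0x10b86b75d45d5d0ddb73ff14f61, nat_lit 0, nat_lit 0,
nat_lit 0x1d734a54326b96a8a6826ed9d, nat_lit 0x250e8f3c2337e6f066805682c3ee, nat_lit 0x751e2f2b374a24ab24879666e4, nat_lit 0, nat_lit 0, nat_lit 0xb0f8034c6e,
nat_lit 0, nat_lit 0, nat_lit 0, nat_lit 0, nat_lit 0, nat_lit 0,
nat_lit 0, nat_lit 0x1e7f100062c2db25cb, nat_lit 0, nat_lit 0, nat_lit 0, nat_lit 0,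
nat_lit 0, nat_lit 0, nat_lit 0, nat_lit 0x11378a44b18, nat_lit 0, nat_lit 0,
nat_lit 0x48b4db03f55332b1ae3046928d9, nat_lit 0, nat_lit 0, nat_lit 0x2d63e84ee83435c92c964844, nat_lit 0x1fe836d914eb1e2768f8, nat_lit 0x120f02caf913560899e9411,
nat_lit 0, nat_lit 0x351227ab8a199f6ed16a8bf1c, nat_lit 0, nat_lit 0, nat_lit 0, nat_lit 0,
nat_lit 0, nat_lit 0, nat_lit 0, nat_lit 0, nat_lit 0, nat_lit 0xba6ed4b4275af5461f18a7b,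
nat_lit 0, nat_lit 0, nat_lit 0, nat_lit 0, nat_lit 0, nat_lit 0,
nat_lit 0x8b92d09e30ae881, nat_lit 0, nat_lit 0, nat_lit 0x510a91a0f7935554fceb624fd47a, nat_lit 0, nat_lit 0,
nat_lit 0xae07aa67c8010db526d474c, nat_lit 0x51b48b75e2af4302a8e74b4, nat_lit 0x1956d665d93471bbd6, nat_lit 0x38a752666d3de77c, nat_lit 0, nat_lit 0,
nat_lit 0, nat_lit 0, nat_lit 0, nat_lit 0, nat_lit 0, nat_lit 0,
nat_lit 0x38a34a25179ffbd6, nat_lit 0, nat_lit 0, nat_lit 0, nat_lit 0, nat_lit 0,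
nat_lit 0, nat_lit 0, nat_lit 0, nat_lit 0x874814a641a981fd34e5fc5d, nat_lit 0, nat_lit 0,
nat_lit 0x9140f7ee04c5cbbbdabdb1, nat_lit 0, nat_lit 0, nat_lit 0x1f95dba6655fcb9c720612, nat_lit 0x711dfac4c0f2d8aec72b, nat_lit 0xf8f88bb197bd32a3a93542b424,
nat_lit 0, nat_lit 0x410381c3ebda0b4f7fdd651a, nat_lit 0, nat_lit 0, nat_lit 0, nat_lit 0,
nat_lit 0, nat_lit 0, nat_lit 0, nat_lit 0, nat_lit 0, nat_lit 0x1c181d5,
nat_lit 0, nat_lit 0, nat_lit 0, nat_lit 0, nat_lit 0, nat_lit 0,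
nat_lit 0x51f6b442560eb4290320fd7621, nat_lit 0, nat_lit 0, nat_lit 0x1da8aee07dbb9effab3c4e5769, nat_lit 0, nat_lit 0,
nat_lit 0x22c478453d823c99, nat_lit 0x48b4d84ce4d471808991832c99e, nat_lit 0x9517a84a26bb37f8e523c45e49, nat_lit 0, nat_lit 0, nat_lit 0x6893850605bb92ba92efeede,
nat_lit 0, nat_lit 0, nat_lit 0, nat_lit 0, nat_lit 0, nat_lit 0,
nat_lit 0, nat_lit 0x16fbe2e0db66a86, nat_lit 0, nat_lit 0, nat_lit 0, nat_lit 0,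
nat_lit 0, nat_lit 0, nat_lit 0]

theorem len22 : cd22.length = 729 := by decide +kernel

theorem hC22 : allZ (chkN ap bsL ixL yW 7) cd22 (729 * 22) = true := by decide +kernel

end Cfsg.Agent.TcChain36.O7C
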