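import Mathlib
import Cfsg.Agent.TcChain36.O7C.Tab

set_option autoImplicit false
set_option maxRecDepth 1000000
set_option linter.all false

namespace Cfsg.Agent.TcChain36.O7C

open Cfsg.Agent.Lib.OutTree36 Cfsg.Agent.Lib.PcClass36

set_option Elab.async false

/-- The certificates of a block. -/
def cd24 : List ℕ := [
nat_lit 0x13b7f6171ca3e1216c0, nat_lit 0x22a6c6667e69c3968e, nat_lit 0x16e3eefcd82c4fe98f4, nat_lit 0x576e1b1d9cbcd05d6090fda1, nat_lit 0x82c89aac41e2b892fecd5f83d5, nat_lit 0x1c82e3479d5a75e864f42,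
nat_lit 0x7157f05d2ac4b74e4146841, nat_lit 0x4d791be71d0e5, nat_lit 0x17225a46aa48476c18d132030, nat_lit 0x62aceaf9ea893f9a47d5, nat_lit 0x201adc4b7d32ef62edf743, nat_lit 0x10b8433eda84f639604702f1ca3,
nat_lit 0, nat_lit 0, nat_lit 0, nat_lit 0, nat_lit 0, nat_lit 0,
nat_lit 0x258efbf5a16708164f, nat_lit 0xa729df749ad78b6704c4029, nat_lit 0x14d822c915a359e33a16ebf50bc3d, nat_lit 0, nat_lit 0, nat_lit 0,
nat_lit 0, nat_lit 0, nat_lit 0, nat_lit 0x8f74aaacf7484456654fe4, nat_lit 0xcc3c0212c421a4, nat_lit 0x4303789a5367,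
nat_lit 0x5af4f3afebf1a86aa7b75d, nat_lit 0x409bf7eeac1c2f8d, nat_lit 0x2e19e13320ca2833546ca232662, nat_lit 0x19ee8eacc271b6a7da41d00e0d6b, nat_lit 0x501e5fd9b1ba9c1b4166ae2, nat_lit 0x5d40e2775cf9210b94f42e1,
nat_lit 0, nat_lit 0, nat_lit 0, nat_lit 0, nat_lit 0, nat_lit 0,
nat_lit 0, nat_lit 0, nat_lit 0, nat_lit 0, nat_lit 0, nat_lit 0,
nat_lit 0, nat_lit 0, nat_lit 0, nat_lit 0, nat_lit 0, nat_lit 0,
nat_lit 0x28b173587006696980, nat_lit 0x560564589, nat_lit 0x5df150e860a35df3dac336c7, nat_lit 0x2df58e724f8346460299af3a, nat_lit 0x5970ff0a6c68dce5f9b90f5c392a, nat_lit 0xffe46bd3e7231ff79c5b21d36,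
nat_lit 0x1284131ec7af7a5f6be0b89, nat_lit 0x491dbdad983034e7ca86862, nat_lit 0x10307561eadd8f73205d5aee8, nat_lit 0, nat_lit 0, nat_lit 0,
nat_lit 0, nat_lit 0, nat_lit 0, nat_lit 0, nat_lit 0, nat_lit 0,
nat_lit 0, nat_lit 0, nat_lit 0, nat_lit 0, nat_lit 0, nat_lit 0,
nat_lit 0, nat_lit 0, nat_lit 0, nat_lit 0xb0b2eb2bb98d66, nat_lit 0, nat_lit 0,
nat_lit 0x2050127ce801f4c656ea3658e25ec, nat_lit 0, nat_lit 0, nat_lit 0x332d1309142327db667cbc7, nat_lit 0, nat_lit 0,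
nat_lit 0xb9e6af147a59448f2bd, nat_lit 0, nat_lit 0, nat_lit 0, nat_lit 0, nat_lit 0,
nat_lit 0, nat_lit 0, nat_lit 0, nat_lit 0x743148ffc454c8840e63, nat_lit 0, nat_lit 0,
nat_lit 0, nat_lit 0, nat_lit 0, nat_lit 0, nat_lit 0, nat_lit 0,
nat_lit 0x103075bf77e6ee3baf3b4ba0e, nat_lit 0, nat_lit 0, nat_lit 0x751d7d4259b361f7bfc57035ab, nat_lit 0, nat_lit 0,
nat_lit 0x2e0cce58566dda3fababb066c78, nat_lit 0, nat_lit 0, nat_lit 0, nat_lit 0, nat_lit 0x1daa7aa9825ccf733d4,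
nat_lit 0, nat_lit 0, nat_lit 0, nat_lit 0, nat_lit 0, nat_lit 0,
nat_lit 0, nat_lit 0x7732edfe95a483b, nat_lit 0, nat_lit 0, nat_lit 0, nat_lit 0,
nat_lit 0, nat_lit 0, nat_lit 0, nat_lit 0x19da20204cb8f5c54c62ffbd3, nat_lit 0, nat_lit 0,
nat_lit 0xd471f9b2db4, nat_lit 0, nat_lit 0, nat_lit 0x27b6cd199bb35b8c98, nat_lit 0, nat_lit 0,
nat_lit 0, nat_lit 0x12a8ba86f5418a662c5bf39, nat_lit 0, nat_lit 0, nat_lit 0, nat_lit 0,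
nat_lit 0, nat_lit 0, nat_lit 0, nat_lit 0, nat_lit 0, nat_lit 0x82de71983401c6520fdd0a0c8a,
nat_lit 0, nat_lit 0, nat_lit 0, nat_lit 0, nat_lit 0, nat_lit 0,
nat_lit 0x63d2b576a79a747a6dc9, nat_lit 0, nat_lit 0, nat_lit 0x48f8456a85697154b73baccd04a, nat_lit 0, nat_lit 0,
nat_lit 0xb177a6ccd8bbc954f4d, nat_lit 0, nat_lit 0, nat_lit 0x2d3c17e5fbeba1, nat_lit 0, nat_lit 0,
nat_lit 0, nat_lit 0, nat_lit 0, nat_lit 0, nat_lit 0, nat_lit 0,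
nat_lit 0x13d0dd9e2db0946f27e, nat_lit 0, nat_lit 0, nat_lit 0, nat_lit 0, nat_lit 0,
nat_lit 0, nat_lit 0, nat_lit 0, nat_lit 0xae07aab83db3f3a3b972a37, nat_lit 0, nat_lit 0,
nat_lit 0x5b43c143fbbac3a000c0dd28, nat_lit 0, nat_lit 0, nat_lit 0x5a927f1883b602f0a931e9718d40, nat_lit 0, nat_lit 0,
nat_lit 0, nat_lit 0x15df8517a771358fad8, nat_lit 0, nat_lit 0, nat_lit 0, nat_lit 0,
nat_lit 0, nat_lit 0, nat_lit 0, nat_lit 0, nat_lit 0, nat_lit 0x5db9ea5daf977cd72,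
nat_lit 0, nat_lit 0, nat_lit 0, nat_lit 0, nat_lit 0, nat_lit 0,
nat_lit 0x9011ee283cd7beb1e92d67227ce, nat_lit 0, nat_lit 0, nat_lit 0x654a72c65c11d614087c, nat_lit 0, nat_lit 0,
nat_lit 0x5b856e32bd0aa9549c72ba60, nat_lit 0, nat_lit 0, nat_lit 0, nat_lit 0, nat_lit 0x1d796ad7e731fdb3797770d2f96954,
nat_lit 0, nat_lit 0, nat_lit 0, nat_lit 0, nat_lit 0, nat_lit 0,
nat_lit 0, nat_lit 0xa77097936e9eddf98af6d8b, nat_lit 0, nat_lit 0, nat_lit 0, nat_lit 0,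
nat_lit 0, nat_lit 0, nat_lit 0, nat_lit 0x32739f4cb572e769, nat_lit 0x55cad5093, nat_lit 0x61e36c4f2003c2a903ddbd54,
nat_lit 0xd035a0f3c25e08f7d906af937, nat_lit 0x14d80f9b1f1700a7c6508e33c44d4, nat_lit 0x1098dc512da2cfcc03b319dd45, nat_lit 0x11bc3d7536d342db2e143db, nat_lit 0x19d9c470f00d16c9b6af3f47e, nat_lit 0x19da20204cb88175510534f63,
nat_lit 0x120f02caf9128a1b3eb5c3d, nat_lit 0x9e0f1b22f133fae9ddd79cd, nat_lit 0x3466adcd3e7e2fce6cb2b7a023326, nat_lit 0, nat_lit 0, nat_lit 0,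
nat_lit 0, nat_lit 0, nat_lit 0, nat_lit 0x709d4a21a4db863b, nat_lit 0x501b93d2a364295b293175380e2e, nat_lit 0x198832ac63a42a3a8283910d7,
nat_lit 0, nat_lit 0, nat_lit 0, nat_lit 0, nat_lit 0, nat_lit 0,
nat_lit 0xda9b704c10476f27bf, nat_lit 0xc4c872b0af42b3, nat_lit 0x34b6d03ec61a77785f, nat_lit 0x345b2ece8e150f4b74529ab1, nat_lit 0xe8a7e663eaadd21f75e8b521b, nat_lit 0x3e4981021162099cfac3b,
nat_lit 0x50b1a001777b7910e3f8d66, nat_lit 0xfd1ac95aa9cbe2, nat_lit 0x1c6eb6a5c4593c70d87bf3a6e, nat_lit 0, nat_lit 0, nat_lit 0,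
nat_lit 0, nat_lit 0, nat_lit 0, nat_lit 0, nat_lit 0, nat_lit 0,
nat_lit 0, nat_lit 0, nat_lit 0, nat_lit 0, nat_lit 0, nat_lit 0,
nat_lit 0, nat_lit 0, nat_lit 0, nat_lit 0x28956f1d860d767ea9cdf, nat_lit 0xbed5b9f619100f, nat_lit 0x81239cba696f,
nat_lit 0x11c44b8d9905e287ffcc166, nat_lit 0x131ae2f9ec8768e0c6, nat_lit 0x1ba9d6aae6976bd6e395569fbf, nat_lit 0x4ec6a3e13d609cbaac15e0d18310, nat_lit 0x17226903ed388798853751c43, nat_lit 0x491d4bd18d7d3c54f56958e,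
nat_lit 0, nat_lit 0, nat_lit 0, nat_lit 0, nat_lit 0, nat_lit 0,
nat_lit 0, nat_lit 0, nat_lit 0, nat_lit 0, nat_lit 0, nat_lit 0,
nat_lit 0, nat_lit 0, nat_lit 0, nat_lit 0, nat_lit 0, nat_lit 0,
nat_lit 0x2798969db5aef6, nat_lit 0, nat_lit 0, nat_lit 0x45a658f6f87c1d6c7, nat_lit 0, nat_lit 0,
nat_lit 0x19e00a333678a981aa9f49d8b655, nat_lit 0, nat_lit 0, nat_lit 0x1c2e8a3, nat_lit 0, nat_lit 0,
nat_lit 0, nat_lit 0, nat_lit 0, nat_lit 0, nat_lit 0, nat_lit 0,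
nat_lit 0x50a4c0ce4b196, nat_lit 0, nat_lit 0, nat_lit 0, nat_lit 0, nat_lit 0,
nat_lit 0, nat_lit 0, nat_lit 0, nat_lit 0x2d95ac5bd14d9a15a7d45b0ed0a28, nat_lit 0, nat_lit 0,
nat_lit 0x116bf3549760f53f52c6452d134, nat_lit 0, nat_lit 0, nat_lit 0x43d382148498f052f, nat_lit 0, nat_lit 0,
nat_lit 0, nat_lit 0, nat_lit 0x20ecaa33c99e251, nat_lit 0, nat_lit 0, nat_lit 0,
nat_lit 0, nat_lit 0, nat_lit 0, nat_lit 0, nat_lit 0x68b0ecde5ce297cfc895f8b2, nat_lit 0,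
nat_lit 0, nat_lit 0, nat_lit 0, nat_lit 0, nat_lit 0, nat_lit 0,
nat_lit 0xac81b40e18ec1a1b8fa, nat_lit 0, nat_lit 0, nat_lit 0x19da20204cb9d7876176728e2, nat_lit 0, nat_lit 0,
nat_lit 0x91acc0f098fc30ee0fb180dd3, nat_lit 0, nat_lit 0, nat_lit 0, nat_lit 0x7b9078f5ea62c9e7, nat_lit 0,
nat_lit 0, nat_lit 0, nat_lit 0, nat_lit 0, nat_lit 0, nat_lit 0,
nat_lit 0, nat_lit 0, nat_lit 0x272e73399, nat_lit 0, nat_lit 0, nat_lit 0,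
nat_lit 0, nat_lit 0, nat_lit 0, nat_lit 0x3922e0cabb8c733b928b1, nat_lit 0, nat_lit 0,
nat_lit 0x199fe030a4dcdc4bd039f8da1, nat_lit 0, nat_lit 0, nat_lit 0x59c039db3f6fd178faf, nat_lit 0, nat_lit 0,
nat_lit 0x131ae2582cb105269a, nat_lit 0, nat_lit 0, nat_lit 0, nat_lit 0, nat_lit 0,
nat_lit 0, nat_lit 0, nat_lit 0, nat_lit 0x9f73bc3cf2b4b5, nat_lit 0, nat_lit 0,
nat_lit 0, nat_lit 0, nat_lit 0, nat_lit 0, nat_lit 0, nat_lit 0,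
nat_lit 0x198833a068bd4a687c94f6850, nat_lit 0, nat_lit 0, nat_lit 0xff0577bc86d3289a54777, nat_lit 0, nat_lit 0,
nat_lit 0x68226262eac165bf782d4df4123, nat_lit 0, nat_lit 0, nat_lit 0, nat_lit 0x38198f14baf24743bc77, nat_lit 0,
nat_lit 0, nat_lit 0, nat_lit 0, nat_lit 0, nat_lit 0, nat_lit 0,
nat_lit 0, nat_lit 0, nat_lit 0x5c9ee2792cc3, nat_lit 0, nat_lit 0, nat_lit 0,
nat_lit 0, nat_lit 0, nat_lit 0, nat_lit 0x199dc0455850ffe544113add3d2e2, nat_lit 0, nat_lit 0,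
nat_lit 0x332c54da926902ff008c65f, nat_lit 0, nat_lit 0, nat_lit 0x1f95dba6655fcb9c716ad8, nat_lit 0, nat_lit 0,
nat_lit 0, nat_lit 0, nat_lit 0x65985e1689f2ccf61b84, nat_lit 0, nat_lit 0, nat_lit 0,
nat_lit 0, nat_lit 0, nat_lit 0, nat_lit 0, nat_lit 0x5e076549d27ce7620329e7e7, nat_lit 0,
nat_lit 0, nat_lit 0, nat_lit 0, nat_lit 0, nat_lit 0, nat_lit 0,
nat_lit 0x28b17358d2739fe3f2, nat_lit 0x1b16d312585, nat_lit 0x63c59d355ffafe52b8ac3ee0, nat_lit 0x1ba9d6ac97bef0feb4f07e415b, nat_lit 0x8c0bce93e56c951506c1a19938a, nat_lit 0x499d1fe59d40ff8d5cf3569229d,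
nat_lit 0x38a0a6fcd513dfd3c2c, nat_lit 0x2968f515bce505eb6fe362bf8f2b, nat_lit 0x19d7e8489089d985b11d9c167, nat_lit 0x2459100e9d7f93026, nat_lit 0x250e6ed7198450b80e9c33717209, nat_lit 0x38158349bf41c1722f8664851,
nat_lit 0, nat_lit 0, nat_lit 0, nat_lit 0, nat_lit 0, nat_lit 0,
nat_lit 0xc832fb7f077d19b, nat_lit 0x2df59016b554f8d1deb58f6b, nat_lit 0x8e6ee34a3506b1e18ee6dc, nat_lit 0, nat_lit 0, nat_lit 0,
nat_lit 0, nat_lit 0, nat_lit 0, nat_lit 0x18427f747c8c6f5, nat_lit 0x25b71d4b02f1f864b, nat_lit 0xe4a53e19d47a9e8,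
nat_lit 0x250e91030518edff2e38fc1f3545, nat_lit 0x8e6ee34a1f84a3bead8983, nat_lit 0x2dfea5ee4032c0d86fb12751, nat_lit 0x1f68a569d983fd1e9d0d2aae5a, nat_lit 0x4f9d072ccee7ce54, nat_lit 0x751e33b316c4b0331bb3592858,
nat_lit 0, nat_lit 0, nat_lit 0, nat_lit 0, nat_lit 0, nat_lit 0,
nat_lit 0, nat_lit 0, nat_lit 0, nat_lit 0, nat_lit 0, nat_lit 0,
nat_lit 0, nat_lit 0, nat_lit 0, nat_lit 0, nat_lit 0, nat_lit 0,
nat_lit 0x3c90be6d323926575, nat_lit 0x43930049cd1d69b4, nat_lit 0x4fd2866081378296, nat_lit 0x1c689631912bb050ed6a69b4a1, nat_lit 0x50157aef24f6c934, nat_lit 0x34747f63244c229683cdba45,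
nat_lit 0x491dbb005e3f448d4be3feb, nat_lit 0x296861f128748fb5b96c3afd142b, nat_lit 0x250e8cecac712b97b8fbb6c95bd5, nat_lit 0, nat_lit 0, nat_lit 0,
nat_lit 0, nat_lit 0, nat_lit 0, nat_lit 0, nat_lit 0, nat_lit 0,
nat_lit 0, nat_lit 0, nat_lit 0, nat_lit 0, nat_lit 0, nat_lit 0,
nat_lit 0, nat_lit 0, nat_lit 0, nat_lit 0x2796a77a7987a4, nat_lit 0, nat_lit 0,
nat_lit 0x2d63e84ee83435c92c8846a1, nat_lit 0, nat_lit 0, nat_lit 0x15c330d4a3bc91cae62, nat_lit 0, nat_lit 0,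
nat_lit 0xcc9470cc, nat_lit 0, nat_lit 0, nat_lit 0, nat_lit 0, nat_lit 0,
nat_lit 0, nat_lit 0, nat_lit 0, nat_lit 0x76b449ba573a873e, nat_lit 0, nat_lit 0,
nat_lit 0, nat_lit 0, nat_lit 0, nat_lit 0, nat_lit 0, nat_lit 0,
nat_lit 0x128e8b51b7f73d0710e4b20, nat_lit 0, nat_lit 0, nat_lit 0x11378a5ab95, nat_lit 0, nat_lit 0,
nat_lit 0xb91e4f2e12b4c4f64a28687a81, nat_lit 0, nat_lit 0, nat_lit 0, nat_lit 0, nat_lit 0x2a4baec158cc92de4a8d6,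
nat_lit 0, nat_lit 0, nat_lit 0, nat_lit 0, nat_lit 0, nat_lit 0,
nat_lit 0, nat_lit 0x415baf8a48aac3fceea85, nat_lit 0, nat_lit 0, nat_lit 0, nat_lit 0,
nat_lit 0, nat_lit 0, nat_lit 0, nat_lit 0x2f34e98fe538d29c1ee14ed665e2, nat_lit 0, nat_lit 0,
nat_lit 0x59f1be6e9e861b5a09ba7fd6, nat_lit 0, nat_lit 0, nat_lit 0xa578ad378d0ab1c5f127f0, nat_lit 0, nat_lit 0,
nat_lit 0, nat_lit 0x81fbfbf01e187835dfe73c, nat_lit 0, nat_lit 0, nat_lit 0, nat_lit 0,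
nat_lit 0, nat_lit 0, nat_lit 0, nat_lit 0, nat_lit 0, nat_lit 0xa155ec035db0827dfb,
nat_lit 0, nat_lit 0, nat_lit 0, nat_lit 0, nat_lit 0, nat_lit 0,
nat_lit 0x23742d5193f6684e, nat_lit 0, nat_lit 0, nat_lit 0x5b856e32bd0a017c293fc6e7, nat_lit 0, nat_lit 0,
nat_lit 0x5832f3dbc4ef2ea3a0a54e72258e, nat_lit 0, nat_lit 0, nat_lit 0x30d5a0fb6f3a58a2bb750, nat_lit 0, nat_lit 0,
nat_lit 0, nat_lit 0, nat_lit 0, nat_lit 0, nat_lit 0, nat_lit 0,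
nat_lit 0x4173538fd7fa3accc, nat_lit 0, nat_lit 0, nat_lit 0, nat_lit 0, nat_lit 0,
nat_lit 0, nat_lit 0, nat_lit 0, nat_lit 0x9011ee2bab9fed4dec7a1239521, nat_lit 0, nat_lit 0,
nat_lit 0x91b695cb43a85cbab03aa627a, nat_lit 0, nat_lit 0, nat_lit 0x16638b054e771a122c3b8f, nat_lit 0, nat_lit 0,
nat_lit 0, nat_lit 0x20af8a83105b14c0f6379, nat_lit 0, nat_lit 0, nat_lit 0, nat_lit 0,
nat_lit 0, nat_lit 0, nat_lit 0, nat_lit 0, nat_lit 0, nat_lit 0x39548fbfdb3dee978924b270e,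
nat_lit 0, nat_lit 0, nat_lit 0, nat_lit 0, nat_lit 0, nat_lit 0,
nat_lit 0x13562f69cdf40db13ec8ff4, nat_lit 0, nat_lit 0, nat_lit 0x35260d49e06f52710cba0d0b5b4d6, nat_lit 0, nat_lit 0,
nat_lit 0x9012ca19104b1aea5aa61f2cf43, nat_lit 0, nat_lit 0, nat_lit 0, nat_lit 0, nat_lit 0xab59284315d739e,
nat_lit 0, nat_lit 0, nat_lit 0, nat_lit 0, nat_lit 0, nat_lit 0,
nat_lit 0, nat_lit 0x261beaf7f631a42662558bda0, nat_lit 0, nat_lit 0, nat_lit 0, nat_lit 0,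
nat_lit 0, nat_lit 0, nat_lit 0]

theorem len24 : cd24.length = 729 := by decide +kernel

theorem hC24 : allZ (chkN ap bsL ixL yW 7) cd24 (729 * 24) = true := by decide +kernel

end Cfsg.Agent.TcChain36.O7C
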