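import Mathlib
import Cfsg.Agent.TcChain36.O7C.Tab

set_option autoImplicit false
set_option maxRecDepth 1000000
set_option linter.all false

namespace Cfsg.Agent.TcChain36.O7C

open Cfsg.Agent.Lib.OutTree36 Cfsg.Agent.Lib.PcClass36

set_option Elab.async false

/-- The certificates of a block. -/
def cd25 : List ℕ := [
nat_lit 0x2e9c68, nat_lit 0x10306b31fd0339f8d6c40bbd4, nat_lit 0x2b5a41edbe6b57c2c4c7bbba5, nat_lit 0x8141855c5ecc9a5616092bcf4f, nat_lit 0, nat_lit 0,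
nat_lit 0x48f8456a855467c60ec4fd093db, nat_lit 0, nat_lit 0, nat_lit 0x14a83339b3a3839caf2340b, nat_lit 0x576e1b70c3b4f79571a0554e, nat_lit 0xb462f5e69e4cc7817d8,
nat_lit 0, nat_lit 0, nat_lit 0, nat_lit 0, nat_lit 0, nat_lit 0,
nat_lit 0x6fcc787ef4ec7f, nat_lit 0x29617ce29c3f7bf4707e6fec4bd6, nat_lit 0x64ef5c1c6e778b39d9, nat_lit 0, nat_lit 0, nat_lit 0,
nat_lit 0, nat_lit 0, nat_lit 0, nat_lit 0x4ec6a40af3190b33edb329b77bb3, nat_lit 0x19599c53dba865f0598e56235, nat_lit 0x17226906ee5fb3e0a4b06e16b,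
nat_lit 0x9f9e291f35124ba24382538, nat_lit 0, nat_lit 0, nat_lit 0x38f9e08f93d3fefdf42cd, nat_lit 0, nat_lit 0,
nat_lit 0, nat_lit 0, nat_lit 0, nat_lit 0, nat_lit 0, nat_lit 0,
nat_lit 0, nat_lit 0, nat_lit 0, nat_lit 0, nat_lit 0, nat_lit 0,
nat_lit 0, nat_lit 0, nat_lit 0, nat_lit 0, nat_lit 0, nat_lit 0,
nat_lit 0x19da20204cb9d787617668da6, nat_lit 0x9f01c567dd81f2ca21538d5f57b, nat_lit 0x1dda363f260b12acf76302f3d9, nat_lit 0xb95cff5284546ad06c5, nat_lit 0, nat_lit 0,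
nat_lit 0x1ba84fb35076f004523dfc430c, nat_lit 0, nat_lit 0, nat_lit 0, nat_lit 0, nat_lit 0,
nat_lit 0, nat_lit 0, nat_lit 0, nat_lit 0, nat_lit 0, nat_lit 0,
nat_lit 0, nat_lit 0, nat_lit 0, nat_lit 0, nat_lit 0, nat_lit 0,
nat_lit 0, nat_lit 0, nat_lit 0, nat_lit 0xc4c0ca1ebf6210, nat_lit 0, nat_lit 0,
nat_lit 0x1ef93d526a7b8e5fc4ac15361f, nat_lit 0, nat_lit 0, nat_lit 0x50b0bae2a6a8cfd8d5214e1, nat_lit 0xc4cbfde96e226bcf89f, nat_lit 0x751e33a3e094f42872d0436631,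
nat_lit 0x31b3c1bca5903, nat_lit 0, nat_lit 0, nat_lit 0, nat_lit 0, nat_lit 0,
nat_lit 0, nat_lit 0, nat_lit 0, nat_lit 0x2d0c26aacfe5bf114, nat_lit 0, nat_lit 0,
nat_lit 0, nat_lit 0, nat_lit 0, nat_lit 0, nat_lit 0, nat_lit 0,
nat_lit 0xa104702b94d1cc56821fd7e6543, nat_lit 0, nat_lit 0, nat_lit 0x547570c981d8df726e3653161906, nat_lit 0, nat_lit 0,
nat_lit 0xa1b3785531ad9d2f630d6, nat_lit 0x32048698d7d4b294f88e, nat_lit 0x955fbec1525cce71fc51f45b09, nat_lit 0, nat_lit 0, nat_lit 0x68bd9b610c6c6394a18295e4,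
nat_lit 0, nat_lit 0, nat_lit 0, nat_lit 0, nat_lit 0, nat_lit 0,
nat_lit 0, nat_lit 0x1b782a9d4f7f5db157ad27, nat_lit 0, nat_lit 0, nat_lit 0, nat_lit 0,
nat_lit 0, nat_lit 0, nat_lit 0, nat_lit 0x77801c7b4f85, nat_lit 0, nat_lit 0,
nat_lit 0x49db16c2ad95a6ae7e8b5af6276660, nat_lit 0, nat_lit 0, nat_lit 0x284b97b0e33de2d670, nat_lit 0x67cc908eeffefcdf46771ad78aa, nat_lit 0x1f68a569d994ec7e466317208d,
nat_lit 0, nat_lit 0x27b91e6a5b3de3f9c5, nat_lit 0, nat_lit 0, nat_lit 0, nat_lit 0,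
nat_lit 0, nat_lit 0, nat_lit 0, nat_lit 0, nat_lit 0, nat_lit 0x2d63e84eea0360fd1b36102e,
nat_lit 0, nat_lit 0, nat_lit 0, nat_lit 0, nat_lit 0, nat_lit 0,
nat_lit 0x3260741f5bafbdba26ce, nat_lit 0, nat_lit 0, nat_lit 0x10aee25e46b9896fd051ec11288, nat_lit 0, nat_lit 0,
nat_lit 0x6344699a63d052847d963a28, nat_lit 0x59d84092532e1fde5b4c8c9, nat_lit 0x8740a20e8bd69753bcc4d438, nat_lit 0xcbf6d6dc9c570f, nat_lit 0, nat_lit 0,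
nat_lit 0, nat_lit 0, nat_lit 0, nat_lit 0, nat_lit 0, nat_lit 0,
nat_lit 0x85accfa23b020f81fab, nat_lit 0, nat_lit 0, nat_lit 0, nat_lit 0, nat_lit 0,
nat_lit 0, nat_lit 0, nat_lit 0, nat_lit 0x51dde09d0b6df5c686868eefa1, nat_lit 0, nat_lit 0,
nat_lit 0x61e45007a2b5390c18507bc7, nat_lit 0, nat_lit 0, nat_lit 0x5b43c143fbbac3a000c00f2c, nat_lit 0x245951aee99cd7522, nat_lit 0x19ee8eacc271b69cdf7d17bca76f,
nat_lit 0, nat_lit 0x2368f00b548a7a20, nat_lit 0, nat_lit 0, nat_lit 0, nat_lit 0,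
nat_lit 0, nat_lit 0, nat_lit 0, nat_lit 0, nat_lit 0, nat_lit 0x7b9078f5ea62c6fa,
nat_lit 0, nat_lit 0, nat_lit 0, nat_lit 0, nat_lit 0, nat_lit 0,
nat_lit 0xac782e3cc0e24edc9d6, nat_lit 0, nat_lit 0, nat_lit 0x23dcd2c5eb9adc583a2277c3a, nat_lit 0, nat_lit 0,
nat_lit 0x32048698d7d4b294f616, nat_lit 0xe5c9c80f7ff963eb6e2ae27c0, nat_lit 0x63bbc36bbfd9a74c954, nat_lit 0, nat_lit 0, nat_lit 0xe8812355cff9e5f388ab321bc,
nat_lit 0, nat_lit 0, nat_lit 0, nat_lit 0, nat_lit 0, nat_lit 0,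
nat_lit 0, nat_lit 0x261beaf8127079665c491d261, nat_lit 0, nat_lit 0, nat_lit 0, nat_lit 0,
nat_lit 0, nat_lit 0, nat_lit 0, nat_lit 0x6fccaf82df2d79, nat_lit 0x41e101cc66674ce254c6eca0262, nat_lit 0x20b9ef841d08895538c8b,
nat_lit 0x4d4bafed951d5, nat_lit 0, nat_lit 0, nat_lit 0xb920d7259d5ad3fa71767d7c81, nat_lit 0, nat_lit 0,
nat_lit 0x4303bd920e4b, nat_lit 0x7b7405bd0259af2bdd8e7c9e6db, nat_lit 0x20ba711962fa6d33e4846, nat_lit 0, nat_lit 0, nat_lit 0,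
nat_lit 0, nat_lit 0, nat_lit 0, nat_lit 0x23a1c51dc0744d532d, nat_lit 0x2d3b2c3fedad490a9bdec290, nat_lit 0xe71566064c129120c53ef,
nat_lit 0, nat_lit 0, nat_lit 0, nat_lit 0, nat_lit 0, nat_lit 0,
nat_lit 0x1f68a569d983fd1e9d0d2a6106, nat_lit 0x1f38bbb50faa41f4e9bc04, nat_lit 0x34ba27c9459b3ae7d24204f49, nat_lit 0x6e51291b7d4, nat_lit 0, nat_lit 0,
nat_lit 0x23dcd2df2fffa732bc060f567, nat_lit 0, nat_lit 0, nat_lit 0, nat_lit 0, nat_lit 0,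
nat_lit 0, nat_lit 0, nat_lit 0, nat_lit 0, nat_lit 0, nat_lit 0,
nat_lit 0, nat_lit 0, nat_lit 0, nat_lit 0, nat_lit 0, nat_lit 0,
nat_lit 0, nat_lit 0, nat_lit 0, nat_lit 0x19963a2a3f30dfc7187dc7e10, nat_lit 0xabf1fa6649015b616a, nat_lit 0x8055a767ab505ca829cc5facc0,
nat_lit 0x547570c981d83f0eb2fe583d1fdd, nat_lit 0, nat_lit 0, nat_lit 0x18d80629c940e91b1661242d4fa6a, nat_lit 0, nat_lit 0,
nat_lit 0, nat_lit 0, nat_lit 0, nat_lit 0, nat_lit 0, nat_lit 0,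
nat_lit 0, nat_lit 0, nat_lit 0, nat_lit 0, nat_lit 0, nat_lit 0,
nat_lit 0, nat_lit 0, nat_lit 0, nat_lit 0, nat_lit 0, nat_lit 0,
nat_lit 0xb4129327c0214343858, nat_lit 0, nat_lit 0, nat_lit 0x9011ee2bab9fed4dec7a122b5a0, nat_lit 0, nat_lit 0,
nat_lit 0x1eb3d59bf76b01db5631b7, nat_lit 0x3c69a07114ef0a860bea, nat_lit 0x8ff07ca462dd0919e13be61b3d, nat_lit 0x809cf2f814505164, nat_lit 0, nat_lit 0,
nat_lit 0, nat_lit 0, nat_lit 0, nat_lit 0, nat_lit 0, nat_lit 0,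
nat_lit 0x9a5752770514d577e97, nat_lit 0, nat_lit 0, nat_lit 0, nat_lit 0, nat_lit 0,
nat_lit 0, nat_lit 0, nat_lit 0, nat_lit 0x1f95ab6a8b07dedabcbddd, nat_lit 0, nat_lit 0,
nat_lit 0x61e3f2eabbf3d9a3f7a65bc1, nat_lit 0, nat_lit 0, nat_lit 0x172244fd4dc4a2028ee12d44e, nat_lit 0x685567b331003412ddab, nat_lit 0xb49d190da5c26ca6bbf,
nat_lit 0, nat_lit 0, nat_lit 0x5df226525028f008a26e4b25, nat_lit 0, nat_lit 0, nat_lit 0,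
nat_lit 0, nat_lit 0, nat_lit 0, nat_lit 0, nat_lit 0x2305d9943216a358c, nat_lit 0,
nat_lit 0, nat_lit 0, nat_lit 0, nat_lit 0, nat_lit 0, nat_lit 0,
nat_lit 0xe8ab2122b28893c26d29afaae, nat_lit 0, nat_lit 0, nat_lit 0x914b4934eab224f6853695ab6, nat_lit 0, nat_lit 0,
nat_lit 0x6108f547ee04ceb0601a, nat_lit 0x39547f7cda39e878856e33ffe, nat_lit 0x34bcb3e440ce79e668, nat_lit 0, nat_lit 0xed161cdb8d8e35afee, nat_lit 0,
nat_lit 0, nat_lit 0, nat_lit 0, nat_lit 0, nat_lit 0, nat_lit 0,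
nat_lit 0, nat_lit 0, nat_lit 0xe4267ef185ecb04989a17d7be, nat_lit 0, nat_lit 0, nat_lit 0,
nat_lit 0, nat_lit 0, nat_lit 0, nat_lit 0x40f65dc901, nat_lit 0, nat_lit 0,
nat_lit 0xffad47be1ac55db3466f00dbed, nat_lit 0, nat_lit 0, nat_lit 0x1722682b1dd204b0b50728b9c, nat_lit 0xda7c0b114dff6c7, nat_lit 0xfd36e965c7ad71254d49d,
nat_lit 0x3c2bf2fd4c7dc, nat_lit 0, nat_lit 0, nat_lit 0, nat_lit 0, nat_lit 0,
nat_lit 0, nat_lit 0, nat_lit 0, nat_lit 0x9237adbe, nat_lit 0, nat_lit 0,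
nat_lit 0, nat_lit 0, nat_lit 0, nat_lit 0, nat_lit 0, nat_lit 0,
nat_lit 0x296ce52bf4eaf7c6faad410d4206, nat_lit 0, nat_lit 0, nat_lit 0x3971e732d66c538855d9081c1ec9, nat_lit 0, nat_lit 0,
nat_lit 0x218442c901d9b313df, nat_lit 0x8c0bcf1b09dd05b4fa49ae2de76, nat_lit 0x19ee8eb4c256fb0e6145a26a5d83, nat_lit 0, nat_lit 0xaf5f42e, nat_lit 0,
nat_lit 0, nat_lit 0, nat_lit 0, nat_lit 0, nat_lit 0, nat_lit 0,
nat_lit 0, nat_lit 0, nat_lit 0x129c712e293e2e59f7e2db3, nat_lit 0, nat_lit 0, nat_lit 0,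
nat_lit 0, nat_lit 0, nat_lit 0, nat_lit 0x1cc8efbaf25b11b325fb045f, nat_lit 0, nat_lit 0,
nat_lit 0x371064f818bd41e79a27f5bba, nat_lit 0, nat_lit 0, nat_lit 0x17225a46aa48479c278521a29, nat_lit 0xf7396be15f19a220f1bf58, nat_lit 0x28cd88411fe920059c,
nat_lit 0, nat_lit 0, nat_lit 0x102bd2fdb44c8b60c04de91d8, nat_lit 0, nat_lit 0, nat_lit 0,
nat_lit 0, nat_lit 0, nat_lit 0, nat_lit 0, nat_lit 0xa6ae1da62cb0887d, nat_lit 0,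
nat_lit 0, nat_lit 0, nat_lit 0, nat_lit 0, nat_lit 0, nat_lit 0,
nat_lit 0x132adb1e23ec7ec9f87, nat_lit 0x19d9c443fda188b5c9d42ab75, nat_lit 0x120f1bea754a7fcd11c6147, nat_lit 0x1ff1d8184f6f06441cc5, nat_lit 0, nat_lit 0,
nat_lit 0x211e90c46acc183480b1968de3, nat_lit 0, nat_lit 0, nat_lit 0xd101baf6037, nat_lit 0x7893cfaafe7d8933, nat_lit 0x59e56a1cea67886efa271f0ef6e1,
nat_lit 0, nat_lit 0, nat_lit 0, nat_lit 0, nat_lit 0, nat_lit 0,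
nat_lit 0x10aece23742b80a69a39, nat_lit 0x54be92d8c011f38f43d3eda5e079, nat_lit 0xa5cc19b6da07488ea49528, nat_lit 0, nat_lit 0, nat_lit 0,
nat_lit 0, nat_lit 0, nat_lit 0, nat_lit 0xff084bdeb5ac294b82d91, nat_lit 0x19599c53e13c0b649fc6c4fca, nat_lit 0x491dbdb710edc39e4df1f00,
nat_lit 0x46c281fbb85bceed4d6f, nat_lit 0, nat_lit 0, nat_lit 0x1ef8f71ea3209ab612916c26ca, nat_lit 0, nat_lit 0,
nat_lit 0, nat_lit 0, nat_lit 0, nat_lit 0, nat_lit 0, nat_lit 0,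
nat_lit 0, nat_lit 0, nat_lit 0, nat_lit 0, nat_lit 0, nat_lit 0,
nat_lit 0, nat_lit 0, nat_lit 0, nat_lit 0, nat_lit 0, nat_lit 0,
nat_lit 0x17225a46aa4847d2a7d42ba07, nat_lit 0xdf91db27692a2a4ffa, nat_lit 0x1722673777971e4cad1106e5a, nat_lit 0x491dbb005e3f448d4be3fec, nat_lit 0, nat_lit 0,
nat_lit 0x576947be9f7e38f1367d95d6, nat_lit 0, nat_lit 0, nat_lit 0, nat_lit 0, nat_lit 0,
nat_lit 0, nat_lit 0, nat_lit 0, nat_lit 0, nat_lit 0, nat_lit 0,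
nat_lit 0, nat_lit 0, nat_lit 0, nat_lit 0, nat_lit 0, nat_lit 0,
nat_lit 0, nat_lit 0, nat_lit 0, nat_lit 0x48a94329566aab2fb, nat_lit 0, nat_lit 0,
nat_lit 0x20ead1e8dca3eae99d0dac, nat_lit 0, nat_lit 0, nat_lit 0x48b4d84ce4d474be0444a773ebb, nat_lit 0x56d7d0076114599c7ff7, nat_lit 0x6eb2bed34df35cabe331,
nat_lit 0x4d210d9eb, nat_lit 0, nat_lit 0, nat_lit 0, nat_lit 0, nat_lit 0,
nat_lit 0, nat_lit 0, nat_lit 0, nat_lit 0x13e53f8d08ed9e, nat_lit 0, nat_lit 0,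
nat_lit 0, nat_lit 0, nat_lit 0, nat_lit 0, nat_lit 0, nat_lit 0,
nat_lit 0x174d4a6f27f77eef327809278ca43, nat_lit 0, nat_lit 0, nat_lit 0x12a9fb894355ec561593637e72e, nat_lit 0, nat_lit 0,
nat_lit 0x2305b34cf1017246d, nat_lit 0x751e2a88cd6d0964913e02f906, nat_lit 0x51f5523fb50102ee4742e6cb94, nat_lit 0, nat_lit 0, nat_lit 0x1dda36507dae69ae55cbe7dbf2,
nat_lit 0, nat_lit 0, nat_lit 0, nat_lit 0, nat_lit 0, nat_lit 0,
nat_lit 0, nat_lit 0xce9081c6a8c734a524d, nat_lit 0, nat_lit 0, nat_lit 0, nat_lit 0,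
nat_lit 0, nat_lit 0, nat_lit 0, nat_lit 0x81888675e0034ab4ef227d80b8, nat_lit 0, nat_lit 0,
nat_lit 0x13af0578ec37b405ddc, nat_lit 0, nat_lit 0, nat_lit 0x14d83265191dedff38919eceb7af8, nat_lit 0x4178090587fdd32f0cf25, nat_lit 0x11ccae78940a41abaf,
nat_lit 0, nat_lit 0x39548fbfdb3dee978924b28f8, nat_lit 0, nat_lit 0, nat_lit 0, nat_lit 0,
nat_lit 0, nat_lit 0, nat_lit 0, nat_lit 0, nat_lit 0, nat_lit 0x19ee9f0628455226be30a07b9c48,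
nat_lit 0, nat_lit 0, nat_lit 0, nat_lit 0, nat_lit 0, nat_lit 0,
nat_lit 0x8a02ca, nat_lit 0, nat_lit 0, nat_lit 0xef499be0a8b694f19be19b9ead77a, nat_lit 0, nat_lit 0,
nat_lit 0x13a251253a0d1b, nat_lit 0x1eb3d5c67a7b6462011d74, nat_lit 0x250e8e56da0fae6529682cbd4e21, nat_lit 0x151fb6f43ee, nat_lit 0, nat_lit 0,
nat_lit 0, nat_lit 0, nat_lit 0, nat_lit 0, nat_lit 0, nat_lit 0,
nat_lit 0x31f1f3, nat_lit 0, nat_lit 0, nat_lit 0, nat_lit 0, nat_lit 0,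
nat_lit 0, nat_lit 0, nat_lit 0, nat_lit 0x507e64e832ca5, nat_lit 0, nat_lit 0,
nat_lit 0xff9464c140ab4f7022996, nat_lit 0, nat_lit 0, nat_lit 0x19d9c443fda1891c79fe0e303, nat_lit 0x8c0bcf6568046365c621371384b, nat_lit 0x249d6e7bc1794e11c0,
nat_lit 0, nat_lit 0x58976ebd050a, nat_lit 0, nat_lit 0, nat_lit 0, nat_lit 0,
nat_lit 0, nat_lit 0, nat_lit 0, nat_lit 0, nat_lit 0, nat_lit 0x82c89aac41e2b892fecd5f6fe7,
nat_lit 0, nat_lit 0, nat_lit 0, nat_lit 0, nat_lit 0, nat_lit 0,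
nat_lit 0x5e7c8966e45420c8fa2e5014308f, nat_lit 0, nat_lit 0, nat_lit 0xa104702b94d2293527d6e2b12b3, nat_lit 0, nat_lit 0,
nat_lit 0x61e44fda608097b5e5d043b0, nat_lit 0x53ec49e35e9de7d5e6b61f1b163, nat_lit 0x8b104caec57e6b32884dd8d, nat_lit 0, nat_lit 0, nat_lit 0x68b0fc1e641281bb97a1cceb,
nat_lit 0, nat_lit 0, nat_lit 0, nat_lit 0, nat_lit 0, nat_lit 0,
nat_lit 0, nat_lit 0xeda4ff595d0896df2a, nat_lit 0, nat_lit 0, nat_lit 0, nat_lit 0,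
nat_lit 0, nat_lit 0, nat_lit 0]

theorem len25 : cd25.length = 729 := by decide +kernel

theorem hC25 : allZ (chkN ap bsL ixL yW 7) cd25 (729 * 25) = true := by decide +kernel

end Cfsg.Agent.TcChain36.O7C
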