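import Mathlib
import Cfsg.Agent.TcChain36.O7C.Tab

set_option autoImplicit false
set_option maxRecDepth 1000000
set_option linter.all false

namespace Cfsg.Agent.TcChain36.O7C

open Cfsg.Agent.Lib.OutTree36 Cfsg.Agent.Lib.PcClass36

set_option Elab.async false

/-- The certificates of a block. -/
def cd26 : List ℕ := [
nat_lit 0x2b518211b76dba, nat_lit 0x3289a4524eca12d12ff1b1d7, nat_lit 0x1098976fb55ee692e5d902d124, nat_lit 0x23dcd2e6c6d4a8438c99fd1ab, nat_lit 0, nat_lit 0,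
nat_lit 0xa2bc4517cee3ad60e5925c4, nat_lit 0, nat_lit 0, nat_lit 0x5e07825ffbe4b9de076e20ba, nat_lit 0x172244fd4dc4a23857bf78b85, nat_lit 0xa18795aafafb36ae81218,
nat_lit 0, nat_lit 0, nat_lit 0, nat_lit 0, nat_lit 0, nat_lit 0,
nat_lit 0x7403f590e12a0c9d, nat_lit 0x1d7d1cb178c14f74e287fe0ce, nat_lit 0x3b447e3b6981a, nat_lit 0, nat_lit 0, nat_lit 0,
nat_lit 0, nat_lit 0, nat_lit 0, nat_lit 0x1cc70101281dae08021ab1f2, nat_lit 0x1c228bb625d4ab6808e2f, nat_lit 0x5405db4cbe5434201dee1a35664,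
nat_lit 0x598f03fc05cdf68e9c6, nat_lit 0, nat_lit 0, nat_lit 0x61e45007a2b5390c18507bc6, nat_lit 0, nat_lit 0,
nat_lit 0, nat_lit 0, nat_lit 0, nat_lit 0, nat_lit 0, nat_lit 0,
nat_lit 0, nat_lit 0, nat_lit 0, nat_lit 0, nat_lit 0, nat_lit 0,
nat_lit 0, nat_lit 0, nat_lit 0, nat_lit 0, nat_lit 0, nat_lit 0,
nat_lit 0x1144341900468faf09cf720, nat_lit 0x81fbfbf0296e90ed7717c3, nat_lit 0x1cc7ed1fda6d70ccab50b133, nat_lit 0x1cc86b8704f42df152ffe352, nat_lit 0, nat_lit 0,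
nat_lit 0xe541b7f8d0557c9, nat_lit 0, nat_lit 0, nat_lit 0, nat_lit 0, nat_lit 0,
nat_lit 0, nat_lit 0, nat_lit 0, nat_lit 0, nat_lit 0, nat_lit 0,
nat_lit 0, nat_lit 0, nat_lit 0, nat_lit 0, nat_lit 0, nat_lit 0,
nat_lit 0, nat_lit 0, nat_lit 0, nat_lit 0x1977fded78f1f68, nat_lit 0, nat_lit 0,
nat_lit 0x91b4207141c874b3965c22881, nat_lit 0x1145282ae105406fbba6764, nat_lit 0x80473e1781cfef10526, nat_lit 0x661fd54ba939ea8e744109a0397, nat_lit 0, nat_lit 0,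
nat_lit 0x6af44bc6a5012f3ffc06, nat_lit 0, nat_lit 0, nat_lit 0, nat_lit 0, nat_lit 0,
nat_lit 0, nat_lit 0, nat_lit 0, nat_lit 0x711dfac4c0f30233d458, nat_lit 0, nat_lit 0,
nat_lit 0, nat_lit 0, nat_lit 0, nat_lit 0, nat_lit 0, nat_lit 0,
nat_lit 0xa23f9078dbf6b11c731f0f4, nat_lit 0, nat_lit 0, nat_lit 0x28e5b9ab40b78368f683501013a5, nat_lit 0x8e6ee3493e9cb08a395369, nat_lit 0x81fbff9b44cc1b6001e4ef,
nat_lit 0x9f9e291f35124ba24382539, nat_lit 0, nat_lit 0, nat_lit 0, nat_lit 0, nat_lit 0x3abb53aa758887e7104a095f1,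
nat_lit 0, nat_lit 0, nat_lit 0, nat_lit 0, nat_lit 0, nat_lit 0,
nat_lit 0, nat_lit 0x1421e30644e86861a8bc56f, nat_lit 0, nat_lit 0, nat_lit 0, nat_lit 0,
nat_lit 0, nat_lit 0, nat_lit 0, nat_lit 0x5aa67ecab900385e1ff, nat_lit 0, nat_lit 0,
nat_lit 0xcbfeafef7e694d051f7, nat_lit 0x14d83010daa8d218e756fee771199, nat_lit 0x11aadd0b8a5a3e875e01d0c248c, nat_lit 0x9b65d4e98535265abb887c3, nat_lit 0, nat_lit 0,
nat_lit 0, nat_lit 0x10e57853a399919edc0, nat_lit 0, nat_lit 0, nat_lit 0, nat_lit 0,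
nat_lit 0, nat_lit 0, nat_lit 0, nat_lit 0, nat_lit 0, nat_lit 0x2309592033e883d2d9b98a,
nat_lit 0, nat_lit 0, nat_lit 0, nat_lit 0, nat_lit 0, nat_lit 0,
nat_lit 0xff084bdfb599b5a69020f, nat_lit 0, nat_lit 0, nat_lit 0xe8ab2122b2809dbf33687787a, nat_lit 0x29207aa5df9675b99458f47b, nat_lit 0x1e09bf6a913856cfca,
nat_lit 0x8141855c5ecccbe68b007d8c03, nat_lit 0, nat_lit 0, nat_lit 0x1979147153bf12f, nat_lit 0, nat_lit 0,
nat_lit 0, nat_lit 0, nat_lit 0, nat_lit 0, nat_lit 0, nat_lit 0,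
nat_lit 0x700d6b5224e2aa, nat_lit 0, nat_lit 0, nat_lit 0, nat_lit 0, nat_lit 0,
nat_lit 0, nat_lit 0, nat_lit 0, nat_lit 0x1cb7be385d2bb78e3476f6bc, nat_lit 0, nat_lit 0,
nat_lit 0x2e19e13320ca2846d9588e51df4, nat_lit 0xe4267ef30d90094e5cf7d39c6, nat_lit 0xd035b13e615dab0586d0072e9, nat_lit 0x96261dd80348a9aefcd25ad2129, nat_lit 0, nat_lit 0,
nat_lit 0, nat_lit 0x81fbf1c41e015e0063c64c, nat_lit 0, nat_lit 0, nat_lit 0, nat_lit 0,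
nat_lit 0, nat_lit 0, nat_lit 0, nat_lit 0, nat_lit 0, nat_lit 0x1295457610dfc07297a1a72cd95,
nat_lit 0, nat_lit 0, nat_lit 0, nat_lit 0, nat_lit 0, nat_lit 0,
nat_lit 0xa2b452215012f424a45a329, nat_lit 0, nat_lit 0, nat_lit 0xac81b3b5f974f2a0e81, nat_lit 0x81418088b7fc48346df820bcb3, nat_lit 0x19ad07af941b9809837be,
nat_lit 0x68ac7433dfe3c1dce86a5992, nat_lit 0, nat_lit 0, nat_lit 0, nat_lit 0, nat_lit 0x19df3c2cc56527550da5a16eb,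
nat_lit 0, nat_lit 0, nat_lit 0, nat_lit 0, nat_lit 0, nat_lit 0,
nat_lit 0, nat_lit 0xbeed22c02fdfe6950d, nat_lit 0, nat_lit 0, nat_lit 0, nat_lit 0,
nat_lit 0, nat_lit 0, nat_lit 0, nat_lit 0x5126086d1b879911a87, nat_lit 0x5970ff0a6c991921b37979fe6304, nat_lit 0x41e0fd0c2e54c75b2e5ab02a78a,
nat_lit 0x370fedce9d64bda24207cd1cc, nat_lit 0, nat_lit 0, nat_lit 0x34d842875fcd59f0533b6180d, nat_lit 0, nat_lit 0,
nat_lit 0x1983557185e24c7, nat_lit 0x9a1c942380fd2b0fdff, nat_lit 0x381f286e05fc80d8503edbcc5, nat_lit 0, nat_lit 0, nat_lit 0,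
nat_lit 0, nat_lit 0, nat_lit 0, nat_lit 0x5dc1f1c7b111c43b4, nat_lit 0x954961427355bae59eb80461db, nat_lit 0x11e409f2d0c8f0b20659585061d,
nat_lit 0, nat_lit 0, nat_lit 0, nat_lit 0, nat_lit 0, nat_lit 0,
nat_lit 0x51c73cae7fe8cf086d6c5e4bda, nat_lit 0x8e6ee34a002f2fc428ca44, nat_lit 0x98113af09fb905388d1, nat_lit 0x17168df6b42fb4d5aaac540f7ead0, nat_lit 0, nat_lit 0,
nat_lit 0x1f95ab6a8b07dedabcbe23, nat_lit 0, nat_lit 0, nat_lit 0, nat_lit 0, nat_lit 0,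
nat_lit 0, nat_lit 0, nat_lit 0, nat_lit 0, nat_lit 0, nat_lit 0,
nat_lit 0, nat_lit 0, nat_lit 0, nat_lit 0, nat_lit 0, nat_lit 0,
nat_lit 0, nat_lit 0, nat_lit 0, nat_lit 0x8c0bce023439fa2f6ad18fad5b1, nat_lit 0x2920bab6fe30698e04da99f4, nat_lit 0xa578ad378eae3859fa180c,
nat_lit 0x10aee507ba7efffe232b1b5eaf6, nat_lit 0, nat_lit 0, nat_lit 0x102bd3dfcfb65f7d10a9d8ec6, nat_lit 0, nat_lit 0,
nat_lit 0, nat_lit 0, nat_lit 0, nat_lit 0, nat_lit 0, nat_lit 0,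
nat_lit 0, nat_lit 0, nat_lit 0, nat_lit 0, nat_lit 0, nat_lit 0,
nat_lit 0, nat_lit 0, nat_lit 0, nat_lit 0, nat_lit 0, nat_lit 0,
nat_lit 0xdee16b612bdfa0f, nat_lit 0, nat_lit 0, nat_lit 0x9f9e291eed6d59b49eb68fe, nat_lit 0x112777dd42e50cd77a7, nat_lit 0x714f5b217ba1a96eb9d3076,
nat_lit 0x337d91dc971f1ed6ab2243d48, nat_lit 0, nat_lit 0, nat_lit 0x1f7f25501d43d, nat_lit 0, nat_lit 0,
nat_lit 0, nat_lit 0, nat_lit 0, nat_lit 0, nat_lit 0, nat_lit 0,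
nat_lit 0x2fa5b52618, nat_lit 0, nat_lit 0, nat_lit 0, nat_lit 0, nat_lit 0,
nat_lit 0, nat_lit 0, nat_lit 0, nat_lit 0x5af7d858755fa54fbe65bb, nat_lit 0, nat_lit 0,
nat_lit 0x138e844ff846a9b53, nat_lit 0x10961e76e52b19aea7cc481a03, nat_lit 0x41e096755274f255e2f28de695d, nat_lit 0xff9464c140ab4f701667d, nat_lit 0, nat_lit 0,
nat_lit 0, nat_lit 0, nat_lit 0x184a28ec94ac580ee9, nat_lit 0, nat_lit 0, nat_lit 0,
nat_lit 0, nat_lit 0, nat_lit 0, nat_lit 0, nat_lit 0x56d11e62f4ee3198f120, nat_lit 0,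
nat_lit 0, nat_lit 0, nat_lit 0, nat_lit 0, nat_lit 0, nat_lit 0,
nat_lit 0xa6a4c6aadcfdd53eab87795, nat_lit 0, nat_lit 0, nat_lit 0x1c228bb5ef4068ee951b3, nat_lit 0x203f87b63abf2053bdae86b853, nat_lit 0x16db927fc1d7f21,
nat_lit 0x1023a9c51cf9886a34bfc2, nat_lit 0, nat_lit 0, nat_lit 0, nat_lit 0x2109c90ce07e48785358458dbe, nat_lit 0,
nat_lit 0, nat_lit 0, nat_lit 0, nat_lit 0, nat_lit 0, nat_lit 0,
nat_lit 0, nat_lit 0, nat_lit 0x13c277ab7036a1, nat_lit 0, nat_lit 0, nat_lit 0,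
nat_lit 0, nat_lit 0, nat_lit 0, nat_lit 0x74377e0ee17093ef, nat_lit 0, nat_lit 0,
nat_lit 0xb1b3cd7820, nat_lit 0x1145282a76182fb88d072ce, nat_lit 0x11aadd0b8a63c5070797bd48551, nat_lit 0x1029f4745083f8c08a3ebb899, nat_lit 0, nat_lit 0,
nat_lit 0x70c197b1a078c8aa, nat_lit 0, nat_lit 0, nat_lit 0, nat_lit 0, nat_lit 0,
nat_lit 0, nat_lit 0, nat_lit 0, nat_lit 0x149568570e4d1dc5073, nat_lit 0, nat_lit 0,
nat_lit 0, nat_lit 0, nat_lit 0, nat_lit 0, nat_lit 0, nat_lit 0,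
nat_lit 0x9af3dbaa83f, nat_lit 0, nat_lit 0, nat_lit 0x24910c7ae0ee3b11367293d79, nat_lit 0x2e19e141597e30186db7c20d179, nat_lit 0x40a1ee630b998368d77a3c73,
nat_lit 0x9011ee2bab9fed4dec7a12302f3, nat_lit 0, nat_lit 0, nat_lit 0, nat_lit 0x211ffaf26e939ad95ee4b82f8a, nat_lit 0,
nat_lit 0, nat_lit 0, nat_lit 0, nat_lit 0, nat_lit 0, nat_lit 0,
nat_lit 0, nat_lit 0, nat_lit 0x184a28ed12f53cbda0, nat_lit 0, nat_lit 0, nat_lit 0,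
nat_lit 0, nat_lit 0, nat_lit 0, nat_lit 0x2d7cd92ea93a7161f2a6b8b2, nat_lit 0, nat_lit 0,
nat_lit 0xd0352c7bfc8a847d63ae2eb48, nat_lit 0x56d11da6862f83dc1687, nat_lit 0x56af7ba4429787297bce, nat_lit 0x5af5725d9936f023418f4e, nat_lit 0, nat_lit 0,
nat_lit 0, nat_lit 0, nat_lit 0x11ecf11265ea934341, nat_lit 0, nat_lit 0, nat_lit 0,
nat_lit 0, nat_lit 0, nat_lit 0, nat_lit 0, nat_lit 0x361e0896f3450e227, nat_lit 0,
nat_lit 0, nat_lit 0, nat_lit 0, nat_lit 0, nat_lit 0, nat_lit 0,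
nat_lit 0x7786b5d4939d, nat_lit 0x81fc00541508a90701efce, nat_lit 0x81455b02389d06cc82db561017, nat_lit 0xb88845acc31d75defdc3ab62da, nat_lit 0, nat_lit 0,
nat_lit 0x22c47911cace704d, nat_lit 0, nat_lit 0, nat_lit 0x42c5580fc317596e8, nat_lit 0xf827c2580d998a1b581c9ff55, nat_lit 0xb2b34a3c09cf2fdb8a057d7,
nat_lit 0, nat_lit 0, nat_lit 0, nat_lit 0, nat_lit 0, nat_lit 0,
nat_lit 0x5589c215f7ef3bb34c56, nat_lit 0x9e0f1b22f13e7871118e9f9, nat_lit 0x10b5dd6093bfb63e71d5e0289b9, nat_lit 0, nat_lit 0, nat_lit 0,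
nat_lit 0, nat_lit 0, nat_lit 0, nat_lit 0x23dcd30d7a883dffc298afed1, nat_lit 0xd0346ce7bbe9b51ec1c201911, nat_lit 0x182a1a5ab9c6bb1,
nat_lit 0x48f8456a85697154b73bacaa8cb, nat_lit 0, nat_lit 0, nat_lit 0x15e263a9332d8e5, nat_lit 0, nat_lit 0,
nat_lit 0, nat_lit 0, nat_lit 0, nat_lit 0, nat_lit 0, nat_lit 0,
nat_lit 0, nat_lit 0, nat_lit 0, nat_lit 0, nat_lit 0, nat_lit 0,
nat_lit 0, nat_lit 0, nat_lit 0, nat_lit 0, nat_lit 0, nat_lit 0,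
nat_lit 0x2920b77f298dd585f2e7bdea, nat_lit 0x5e076549d27ce762032c0f65, nat_lit 0x499e257bfa796902bd7807b5d73, nat_lit 0x9b65d4e11b8b0fe5b63498f, nat_lit 0, nat_lit 0,
nat_lit 0x34d7eabbb4e01c6a5d03ca5a8, nat_lit 0, nat_lit 0, nat_lit 0, nat_lit 0, nat_lit 0,
nat_lit 0, nat_lit 0, nat_lit 0, nat_lit 0, nat_lit 0, nat_lit 0,
nat_lit 0, nat_lit 0, nat_lit 0, nat_lit 0, nat_lit 0, nat_lit 0,
nat_lit 0, nat_lit 0, nat_lit 0, nat_lit 0xa703fb59ad33a9f32589213, nat_lit 0, nat_lit 0,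
nat_lit 0x19ad07af941b9808c39e8, nat_lit 0x34d02a475adfab16dad8ef296, nat_lit 0x328b070967fc4040ed67bb67, nat_lit 0x1987eb21b6d9678fb91d54370, nat_lit 0, nat_lit 0,
nat_lit 0x1c82ec383f29e40404b5c, nat_lit 0, nat_lit 0, nat_lit 0, nat_lit 0, nat_lit 0,
nat_lit 0, nat_lit 0, nat_lit 0, nat_lit 0x184434c9e2, nat_lit 0, nat_lit 0,
nat_lit 0, nat_lit 0, nat_lit 0, nat_lit 0, nat_lit 0, nat_lit 0,
nat_lit 0x16638b1ee735c1413faa71, nat_lit 0, nat_lit 0, nat_lit 0x1098dc4e5e7c16eb34ad95cbe2, nat_lit 0x91b4207141c9673297f75714a, nat_lit 0x14d830138fbd619c189e1b5001586,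
nat_lit 0x34a1c436e342c9e78c3e9b162, nat_lit 0, nat_lit 0, nat_lit 0, nat_lit 0, nat_lit 0x98113af0c0661e3f9c4,
nat_lit 0, nat_lit 0, nat_lit 0, nat_lit 0, nat_lit 0, nat_lit 0,
nat_lit 0, nat_lit 0x33a7c35255712265b2af0920765ae, nat_lit 0, nat_lit 0, nat_lit 0, nat_lit 0,
nat_lit 0, nat_lit 0, nat_lit 0, nat_lit 0x5d13e16f3f5603ff579a426, nat_lit 0, nat_lit 0,
nat_lit 0x14d830138ed879343c8164a07dafa, nat_lit 0x16fd8de0ef1892dea69, nat_lit 0xa031f00370100c7aac, nat_lit 0x2fd15847e909a5ecc1096fa784f17, nat_lit 0, nat_lit 0,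
nat_lit 0, nat_lit 0x1116ae32de5657592bc, nat_lit 0, nat_lit 0, nat_lit 0, nat_lit 0,
nat_lit 0, nat_lit 0, nat_lit 0, nat_lit 0, nat_lit 0, nat_lit 0x1009a4ceb365c5e3c0b0fd,
nat_lit 0, nat_lit 0, nat_lit 0, nat_lit 0, nat_lit 0, nat_lit 0,
nat_lit 0x64c2b86dddb8180, nat_lit 0, nat_lit 0, nat_lit 0x1cc7edce43d26c1225dfb073, nat_lit 0x13eb603dd499480e8, nat_lit 0x1a8905e3b3780d924f5d9a14e9c18,
nat_lit 0x103106d9285339f2af2d34a0b, nat_lit 0, nat_lit 0, nat_lit 0x1e09b9783a3f923eb3, nat_lit 0, nat_lit 0,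
nat_lit 0, nat_lit 0, nat_lit 0, nat_lit 0, nat_lit 0, nat_lit 0,
nat_lit 0x1f7f289512bee, nat_lit 0, nat_lit 0, nat_lit 0, nat_lit 0, nat_lit 0,
nat_lit 0, nat_lit 0, nat_lit 0, nat_lit 0x312b385de325d122b55563fe2, nat_lit 0, nat_lit 0,
nat_lit 0x4a1b23ee58f7d, nat_lit 0xe8ab3f9e6791506288a8693ef, nat_lit 0x366e3e83ca28740d288f358a, nat_lit 0x1ef91fdc457827dce15ba5be6b, nat_lit 0, nat_lit 0,
nat_lit 0, nat_lit 0x8f5dc88b35ca, nat_lit 0, nat_lit 0, nat_lit 0, nat_lit 0,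
nat_lit 0, nat_lit 0, nat_lit 0, nat_lit 0, nat_lit 0, nat_lit 0x1536caf86a97194168,
nat_lit 0, nat_lit 0, nat_lit 0, nat_lit 0, nat_lit 0, nat_lit 0,
nat_lit 0x28fc328b4be07d7ee295a270f334, nat_lit 0, nat_lit 0, nat_lit 0xae07aab83d947b3b349d18f, nat_lit 0x24e7673268cff239716129f0ea93, nat_lit 0x9a6335d7a546607a0df,
nat_lit 0x14b6e1bb439171cb75a123b, nat_lit 0, nat_lit 0, nat_lit 0, nat_lit 0, nat_lit 0x14b655a260cda5041ad2f2c,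
nat_lit 0, nat_lit 0, nat_lit 0, nat_lit 0, nat_lit 0, nat_lit 0,
nat_lit 0, nat_lit 0x21095f0697ac0cd26ff7a3c5f1, nat_lit 0, nat_lit 0, nat_lit 0, nat_lit 0,
nat_lit 0, nat_lit 0, nat_lit 0]

theorem len26 : cd26.length = 729 := by decide +kernel

theorem hC26 : allZ (chkN ap bsL ixL yW 7) cd26 (729 * 26) = true := by decide +kernel

end Cfsg.Agent.TcChain36.O7C
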