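import Mathlib
import Cfsg.Agent.TcChain36.O7C.Tab

set_option autoImplicit false
set_option maxRecDepth 1000000
set_option linter.all false

namespace Cfsg.Agent.TcChain36.O7C

open Cfsg.Agent.Lib.OutTree36 Cfsg.Agent.Lib.PcClass36

set_option Elab.async false

/-- The certificates of a block. -/
def cd3 : List ℕ := [
nat_lit 0x39682b779, nat_lit 0x55245b22b, nat_lit 0x302923, nat_lit 0x81fc053e60f8f5accc97b3, nat_lit 0x345b2ece8e064f904003a469, nat_lit 0xe8ab2122b27f944e71b5ea6cb,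
nat_lit 0x2d63e84ee83435c92c9baa17, nat_lit 0x19d57659bb352da7aea409b0f, nat_lit 0xf8f88bb197bd32a3a93534b018, nat_lit 0x2c2973f7cce956560, nat_lit 0xcdb8267dda258c5, nat_lit 0x9e0f1b22c6259884d34adec,
nat_lit 0, nat_lit 0, nat_lit 0, nat_lit 0, nat_lit 0, nat_lit 0,
nat_lit 0xf29f77259fb9b5, nat_lit 0xa70259c69626283f51890f4, nat_lit 0x26754cc283bfdf, nat_lit 0, nat_lit 0, nat_lit 0,
nat_lit 0, nat_lit 0, nat_lit 0, nat_lit 0x13e70742bc661d, nat_lit 0xc73b5f5606c94, nat_lit 0x372992702,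
nat_lit 0x90487d4994f4388d47eb6b, nat_lit 0x81fbf719fb2c2ac74478b3, nat_lit 0x7732ee2110dea9c, nat_lit 0x492776347f789182752b4078053, nat_lit 0x2e1b9c8145ea0f84bb7344f2632, nat_lit 0x296861f128748f8c3701021ebb51,
nat_lit 0, nat_lit 0, nat_lit 0, nat_lit 0, nat_lit 0, nat_lit 0,
nat_lit 0, nat_lit 0, nat_lit 0, nat_lit 0, nat_lit 0, nat_lit 0,
nat_lit 0, nat_lit 0, nat_lit 0, nat_lit 0, nat_lit 0, nat_lit 0,
nat_lit 0x6eca1889f4247013, nat_lit 0x4e82955327287281, nat_lit 0x31feda818d208, nat_lit 0x16d73e9b6baaab67424a184bd8883, nat_lit 0x576e1bc232c960db152d9acc, nat_lit 0xd035b12356613cdd70e757632,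
nat_lit 0xa1b5d742f34c00c320739, nat_lit 0x1d734a543137a0c610a2e43ca, nat_lit 0x451886330e0c, nat_lit 0, nat_lit 0, nat_lit 0,
nat_lit 0, nat_lit 0, nat_lit 0, nat_lit 0, nat_lit 0, nat_lit 0,
nat_lit 0, nat_lit 0, nat_lit 0, nat_lit 0, nat_lit 0, nat_lit 0,
nat_lit 0, nat_lit 0, nat_lit 0, nat_lit 0x27cd691da2312b9878f6d, nat_lit 0, nat_lit 0,
nat_lit 0xff9464c140ab4f6fd05f8, nat_lit 0, nat_lit 0, nat_lit 0x5e7c8966e4e2fc73cd3a27c530f8, nat_lit 0, nat_lit 0,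
nat_lit 0x17ca924cc15668e5a74c54, nat_lit 0, nat_lit 0, nat_lit 0, nat_lit 0, nat_lit 0,
nat_lit 0, nat_lit 0, nat_lit 0, nat_lit 0x2d0c26aacfe5bf0ce, nat_lit 0, nat_lit 0,
nat_lit 0, nat_lit 0, nat_lit 0, nat_lit 0, nat_lit 0, nat_lit 0,
nat_lit 0xff084bdeb5ac294b79b64, nat_lit 0, nat_lit 0, nat_lit 0x5dbcba1936c2f1ab18280443, nat_lit 0, nat_lit 0,
nat_lit 0x38cc8564d584a7d7777, nat_lit 0, nat_lit 0, nat_lit 0, nat_lit 0, nat_lit 0x14b47f2d313fa0ecf91,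
nat_lit 0, nat_lit 0, nat_lit 0, nat_lit 0, nat_lit 0, nat_lit 0,
nat_lit 0, nat_lit 0xb30f3bf5505607, nat_lit 0, nat_lit 0, nat_lit 0, nat_lit 0,
nat_lit 0, nat_lit 0, nat_lit 0, nat_lit 0x1d9aff40d3c26a881990e3ed2e, nat_lit 0, nat_lit 0,
nat_lit 0x5a927f1883b602f0a931e9718f2a, nat_lit 0, nat_lit 0, nat_lit 0x38c8ae4b919ef1523df, nat_lit 0, nat_lit 0,
nat_lit 0, nat_lit 0xa15ae9b57da07de09ca66, nat_lit 0, nat_lit 0, nat_lit 0, nat_lit 0,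
nat_lit 0, nat_lit 0, nat_lit 0, nat_lit 0, nat_lit 0, nat_lit 0x501e5fd9a01a8ade571d430,
nat_lit 0, nat_lit 0, nat_lit 0, nat_lit 0, nat_lit 0, nat_lit 0,
nat_lit 0x284bd9af9ee93e688f, nat_lit 0, nat_lit 0, nat_lit 0x61e37227f0999d1cac757c33, nat_lit 0, nat_lit 0,
nat_lit 0x142c36801e594f8cef19848d08, nat_lit 0, nat_lit 0, nat_lit 0x1e7f042ad53c60ae74, nat_lit 0, nat_lit 0,
nat_lit 0, nat_lit 0, nat_lit 0, nat_lit 0, nat_lit 0, nat_lit 0,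
nat_lit 0x34195f643dd67, nat_lit 0, nat_lit 0, nat_lit 0, nat_lit 0, nat_lit 0,
nat_lit 0, nat_lit 0, nat_lit 0, nat_lit 0xb0799f4b5c1d0479c2d4b10, nat_lit 0, nat_lit 0,
nat_lit 0x27b6cd199bb35b84bf, nat_lit 0, nat_lit 0, nat_lit 0xe26928e2a8997a6, nat_lit 0, nat_lit 0,
nat_lit 0, nat_lit 0x184441010d, nat_lit 0, nat_lit 0, nat_lit 0, nat_lit 0,
nat_lit 0, nat_lit 0, nat_lit 0, nat_lit 0, nat_lit 0, nat_lit 0x5013943a98325e5a,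
nat_lit 0, nat_lit 0, nat_lit 0, nat_lit 0, nat_lit 0, nat_lit 0,
nat_lit 0x5b89e6dd7e7036d2f75734aa, nat_lit 0, nat_lit 0, nat_lit 0x918a72de4d3543280b99e120e, nat_lit 0, nat_lit 0,
nat_lit 0xe71555e4798d4c40ea46c, nat_lit 0, nat_lit 0, nat_lit 0, nat_lit 0, nat_lit 0x164cebf4fb9822ace71a0d0b03ba17,
nat_lit 0, nat_lit 0, nat_lit 0, nat_lit 0, nat_lit 0, nat_lit 0,
nat_lit 0, nat_lit 0x1125169851462366ce6, nat_lit 0, nat_lit 0, nat_lit 0, nat_lit 0,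
nat_lit 0, nat_lit 0, nat_lit 0, nat_lit 0x64c1ec86e2e0431, nat_lit 0x3e9d9fcad40a87f98, nat_lit 0x5c9ee275d04e,
nat_lit 0x1ff0e20a81e967be42a5, nat_lit 0x174b09dc3a40d14ff5f45a97608e6, nat_lit 0x2cc8540935af71037, nat_lit 0xf8f88bb348e4b7cb7a906992a7, nat_lit 0x82e042a3846862981393ba1be9, nat_lit 0x4ec6a433310d13aa4208de5f3be1,
nat_lit 0xab4160ec60883a9, nat_lit 0xc832fb7f07857c1, nat_lit 0xf39549b5a333d7bde09a9d, nat_lit 0, nat_lit 0, nat_lit 0,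
nat_lit 0, nat_lit 0, nat_lit 0, nat_lit 0x3103725491c36, nat_lit 0x678276bcebabca04655, nat_lit 0x15a0e4a991a7773,
nat_lit 0, nat_lit 0, nat_lit 0, nat_lit 0, nat_lit 0, nat_lit 0,
nat_lit 0x2c2ccc135289e54e6, nat_lit 0x361e67b68e0df6129, nat_lit 0x5964cf33e, nat_lit 0x2920b77f298dd585f2e6fad1, nat_lit 0x41e096755274f255e6a6114a545, nat_lit 0x48302e2a6b604b9b4d28133c996,
nat_lit 0x61e45007a2a385514d9b15d2, nat_lit 0xb5802ce94d12ad132b9d69cf41, nat_lit 0x363736ddfc50027c4, nat_lit 0, nat_lit 0, nat_lit 0,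
nat_lit 0, nat_lit 0, nat_lit 0, nat_lit 0, nat_lit 0, nat_lit 0,
nat_lit 0, nat_lit 0, nat_lit 0, nat_lit 0, nat_lit 0, nat_lit 0,
nat_lit 0, nat_lit 0, nat_lit 0, nat_lit 0x552441f2d, nat_lit 0x502dfe2b0, nat_lit 0x241966,
nat_lit 0x37d67b66d8252e6a86a480b3f, nat_lit 0x4c145335385b36fbfe61a6143, nat_lit 0x41e0f7ecf38d55488ea8157cd3d, nat_lit 0x2da565589990bb664f46, nat_lit 0x1d734a542fe38cc12401414a2, nat_lit 0x605dfa4456dbf7400e6ed9be,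
nat_lit 0, nat_lit 0, nat_lit 0, nat_lit 0, nat_lit 0, nat_lit 0,
nat_lit 0, nat_lit 0, nat_lit 0, nat_lit 0, nat_lit 0, nat_lit 0,
nat_lit 0, nat_lit 0, nat_lit 0, nat_lit 0, nat_lit 0, nat_lit 0,
nat_lit 0x13b7f617bbaba2d1e4e, nat_lit 0, nat_lit 0, nat_lit 0x50f4657a4323194e46b05af0122, nat_lit 0, nat_lit 0,
nat_lit 0x20239e72097f00d1827096, nat_lit 0, nat_lit 0, nat_lit 0x34bd4bd8043338ac6a, nat_lit 0, nat_lit 0,
nat_lit 0, nat_lit 0, nat_lit 0, nat_lit 0, nat_lit 0, nat_lit 0,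
nat_lit 0x19418f7adac5b5b7b5, nat_lit 0, nat_lit 0, nat_lit 0, nat_lit 0, nat_lit 0,
nat_lit 0, nat_lit 0, nat_lit 0, nat_lit 0x1fcdb4b98042ba49572422ece4, nat_lit 0, nat_lit 0,
nat_lit 0x1ba84fb35076f00454b0e1efc8, nat_lit 0, nat_lit 0, nat_lit 0x35260d49e06f52710cba0d0b4f1bd, nat_lit 0, nat_lit 0,
nat_lit 0, nat_lit 0, nat_lit 0xa7ee8ebe9f4ddd978f2f5bf, nat_lit 0, nat_lit 0, nat_lit 0,
nat_lit 0, nat_lit 0, nat_lit 0, nat_lit 0, nat_lit 0xe4e2066f283c3031d03320215a4d, nat_lit 0,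
nat_lit 0, nat_lit 0, nat_lit 0, nat_lit 0, nat_lit 0, nat_lit 0,
nat_lit 0xe5c9d0a436c16a7d68e46bdda, nat_lit 0, nat_lit 0, nat_lit 0x16638b42c00d6ae71a2093, nat_lit 0, nat_lit 0,
nat_lit 0x51f6b442560eb4203ef2c34e00, nat_lit 0, nat_lit 0, nat_lit 0, nat_lit 0x2e1b0d452f3621c58faa, nat_lit 0,
nat_lit 0, nat_lit 0, nat_lit 0, nat_lit 0, nat_lit 0, nat_lit 0,
nat_lit 0, nat_lit 0, nat_lit 0xc2b1f604dbf8c86, nat_lit 0, nat_lit 0, nat_lit 0,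
nat_lit 0, nat_lit 0, nat_lit 0, nat_lit 0x1644be34e45d4ff, nat_lit 0, nat_lit 0,
nat_lit 0x147124151a3090b177, nat_lit 0, nat_lit 0, nat_lit 0x2d1115ea2d6adee55b77b69d, nat_lit 0, nat_lit 0,
nat_lit 0xc597a4f71225d4ee89c, nat_lit 0, nat_lit 0, nat_lit 0, nat_lit 0, nat_lit 0,
nat_lit 0, nat_lit 0, nat_lit 0, nat_lit 0xea331404d55, nat_lit 0, nat_lit 0,
nat_lit 0, nat_lit 0, nat_lit 0, nat_lit 0, nat_lit 0, nat_lit 0,
nat_lit 0x95324a77c4a6f21ffc75e95458, nat_lit 0, nat_lit 0, nat_lit 0x17225a46aa4847d2a7d426cb4, nat_lit 0, nat_lit 0,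
nat_lit 0x51f6af712c6c616d19b5d67af9, nat_lit 0, nat_lit 0, nat_lit 0, nat_lit 0xf6db68fc0b2c988765062f, nat_lit 0,
nat_lit 0, nat_lit 0, nat_lit 0, nat_lit 0, nat_lit 0, nat_lit 0,
nat_lit 0, nat_lit 0, nat_lit 0x491dbdb7174e31859302307, nat_lit 0, nat_lit 0, nat_lit 0,
nat_lit 0, nat_lit 0, nat_lit 0, nat_lit 0x1f8789b401dde560c9be31, nat_lit 0, nat_lit 0,
nat_lit 0x5e500a3f556f9837313336f6687c, nat_lit 0, nat_lit 0, nat_lit 0x40d4c724dda1e6960, nat_lit 0, nat_lit 0,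
nat_lit 0, nat_lit 0, nat_lit 0x19df3d593ee2e8a7cdf0cf4a1, nat_lit 0, nat_lit 0, nat_lit 0,
nat_lit 0, nat_lit 0, nat_lit 0, nat_lit 0, nat_lit 0x745b3f389c6845df, nat_lit 0,
nat_lit 0, nat_lit 0, nat_lit 0, nat_lit 0, nat_lit 0, nat_lit 0,
nat_lit 0x29af50c3006a09, nat_lit 0x20ec95031848fcf, nat_lit 0x1984d1809d3, nat_lit 0x13562f60dd55734d0451930, nat_lit 0xa578ad3782cd1910de9d83, nat_lit 0x1c1f6c22d0de71,
nat_lit 0x41e104689b3bd3be53f87a99e87, nat_lit 0x8c0bcf6567e3894f84e1839c286, nat_lit 0x17257c669c9557a109c500d7608cb, nat_lit 0x3103720decbed, nat_lit 0xc2a809f61db4525, nat_lit 0x3a3962caec6914d6d761,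
nat_lit 0, nat_lit 0, nat_lit 0, nat_lit 0, nat_lit 0, nat_lit 0,
nat_lit 0xcd3d2875, nat_lit 0xba69025fb143df89cbd7672, nat_lit 0x6feba33ec1d7ea, nat_lit 0, nat_lit 0, nat_lit 0,
nat_lit 0, nat_lit 0, nat_lit 0, nat_lit 0x701165a063d12e, nat_lit 0x2361d404dd279, nat_lit 0x1f07625f0c,
nat_lit 0x5970ff0a6c68dcebcd9d495cfdc7, nat_lit 0x2920bbe03cd3fb7133ea87fd, nat_lit 0x2df4eb238a02bab5612147f8, nat_lit 0xfd36e9656943b06331c09, nat_lit 0x312def6bb6aeeee68b930c8ab, nat_lit 0x80950a2d1df0,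
nat_lit 0, nat_lit 0, nat_lit 0, nat_lit 0, nat_lit 0, nat_lit 0,
nat_lit 0, nat_lit 0, nat_lit 0, nat_lit 0, nat_lit 0, nat_lit 0,
nat_lit 0, nat_lit 0, nat_lit 0, nat_lit 0, nat_lit 0, nat_lit 0,
nat_lit 0x50a6e26d7, nat_lit 0x573364e99, nat_lit 0x2418e8, nat_lit 0x8f73135a0bd6c6d6d03b3a, nat_lit 0x576e1b56f5da71964d75f253, nat_lit 0x2920bab1a53516e3ed9af497,
nat_lit 0x6344699a63d052847d97a35e, nat_lit 0x5135bf8c1b67f74e2af8bb7, nat_lit 0x82dcec344a8995fc16541d03a0, nat_lit 0, nat_lit 0, nat_lit 0,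
nat_lit 0, nat_lit 0, nat_lit 0, nat_lit 0, nat_lit 0, nat_lit 0,
nat_lit 0, nat_lit 0, nat_lit 0, nat_lit 0, nat_lit 0, nat_lit 0,
nat_lit 0, nat_lit 0, nat_lit 0, nat_lit 0x24d358695bab3cd642fd27, nat_lit 0, nat_lit 0,
nat_lit 0x13af0578d8aa289ad38, nat_lit 0, nat_lit 0, nat_lit 0x24910c7ae0ee3b11367293d7a, nat_lit 0, nat_lit 0,
nat_lit 0x20ec936dc7779f8, nat_lit 0, nat_lit 0, nat_lit 0, nat_lit 0, nat_lit 0,
nat_lit 0, nat_lit 0, nat_lit 0, nat_lit 0xb002a728f464c7200, nat_lit 0, nat_lit 0,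
nat_lit 0, nat_lit 0, nat_lit 0, nat_lit 0, nat_lit 0, nat_lit 0,
nat_lit 0x2f9d2e898b701a9f00cfef62e3bfd, nat_lit 0, nat_lit 0, nat_lit 0x50ddf3e12cd9ad1fe845eae, nat_lit 0, nat_lit 0,
nat_lit 0xa1b45989f3efe3cd08cc5, nat_lit 0, nat_lit 0, nat_lit 0, nat_lit 0, nat_lit 0x49d9bd79623648b0841a03927593e3,
nat_lit 0, nat_lit 0, nat_lit 0, nat_lit 0, nat_lit 0, nat_lit 0,
nat_lit 0, nat_lit 0x13b49c996688d761121ddb3, nat_lit 0, nat_lit 0, nat_lit 0, nat_lit 0,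
nat_lit 0, nat_lit 0, nat_lit 0, nat_lit 0x1ef93d526a7b8e5fc4ac146824, nat_lit 0, nat_lit 0,
nat_lit 0x2f6c1513d86a087d51dbd4b1f4ee9, nat_lit 0, nat_lit 0, nat_lit 0x1c564151a268765db8383, nat_lit 0, nat_lit 0,
nat_lit 0, nat_lit 0x3219d1, nat_lit 0, nat_lit 0, nat_lit 0, nat_lit 0,
nat_lit 0, nat_lit 0, nat_lit 0, nat_lit 0, nat_lit 0, nat_lit 0x328bff6e3bdf392aeeb50b73,
nat_lit 0, nat_lit 0, nat_lit 0, nat_lit 0, nat_lit 0, nat_lit 0,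
nat_lit 0x15d8990687d22cc, nat_lit 0, nat_lit 0, nat_lit 0x51f5523fb500c1a50493d36c61, nat_lit 0, nat_lit 0,
nat_lit 0x272d920aebc5d32569, nat_lit 0, nat_lit 0, nat_lit 0x1b782a9d4f7f5db15ec78a, nat_lit 0, nat_lit 0,
nat_lit 0, nat_lit 0, nat_lit 0, nat_lit 0, nat_lit 0, nat_lit 0,
nat_lit 0x20ecaa33c99e24c, nat_lit 0, nat_lit 0, nat_lit 0, nat_lit 0, nat_lit 0,
nat_lit 0, nat_lit 0, nat_lit 0, nat_lit 0x81418088a6830db0cb70f6785c, nat_lit 0, nat_lit 0,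
nat_lit 0xa6a4c6aadcfdd53eabdd968, nat_lit 0, nat_lit 0, nat_lit 0x19da20204cb9d787617668da7, nat_lit 0, nat_lit 0,
nat_lit 0, nat_lit 0x1cc7ed1fda6d506f212dad8a, nat_lit 0, nat_lit 0, nat_lit 0, nat_lit 0,
nat_lit 0, nat_lit 0, nat_lit 0, nat_lit 0, nat_lit 0, nat_lit 0x5e2f5542ee395cdc5e2a16a1,
nat_lit 0, nat_lit 0, nat_lit 0, nat_lit 0, nat_lit 0, nat_lit 0,
nat_lit 0x48b4db03f55316d06c6528a499e, nat_lit 0, nat_lit 0, nat_lit 0x8f1996f22494, nat_lit 0, nat_lit 0,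
nat_lit 0x1ef8f5c43888aaab452456fa68, nat_lit 0, nat_lit 0, nat_lit 0, nat_lit 0, nat_lit 0x64b89626c328a1a,
nat_lit 0, nat_lit 0, nat_lit 0, nat_lit 0, nat_lit 0, nat_lit 0,
nat_lit 0, nat_lit 0x6af43b5f689b54a88201, nat_lit 0, nat_lit 0, nat_lit 0, nat_lit 0,
nat_lit 0, nat_lit 0, nat_lit 0]

theorem len3 : cd3.length = 729 := by decide +kernel

theorem hC3 : allZ (chkN ap bsL ixL yW 7) cd3 (729 * 3) = true := by decide +kernel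

end Cfsg.Agent.TcChain36.O7C
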