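import Mathlib
import Cfsg.Agent.TcChain36.O7C.Tab

set_option autoImplicit false
set_option maxRecDepth 1000000
set_option linter.all false

namespace Cfsg.Agent.TcChain36.O7C

open Cfsg.Agent.Lib.OutTree36 Cfsg.Agent.Lib.PcClass36

set_option Elab.async false

/-- The certificates of a block. -/
def cd4 : List ℕ := [
nat_lit 0x2fae83704d, nat_lit 0x8ff07ca462dd091ce22725bdbb, nat_lit 0x9b6e69802838d77063be579, nat_lit 0x5769474199dcc4e649edc0b7, nat_lit 0, nat_lit 0,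
nat_lit 0x11f8117372d69c9bcd776, nat_lit 0, nat_lit 0, nat_lit 0x430bfcbfc7474b75, nat_lit 0x63bdab71d1ba7983ea26969d, nat_lit 0x270fb5d1692bfd3048394fd3c0065,
nat_lit 0, nat_lit 0, nat_lit 0, nat_lit 0, nat_lit 0, nat_lit 0,
nat_lit 0x2c2973fb330995044, nat_lit 0x34750fe1aa0fbf509d707648, nat_lit 0xc5bf886d1f81238e5f83ba6ee68fda, nat_lit 0, nat_lit 0, nat_lit 0,
nat_lit 0, nat_lit 0, nat_lit 0, nat_lit 0x11c44b8d9905e287ff58393, nat_lit 0x82e042a3846ea9bb03afc11f04, nat_lit 0x68346038b8666605d384,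
nat_lit 0xc4daafc5e383381506e, nat_lit 0, nat_lit 0, nat_lit 0x9fe6a7e119d1f7bc83060d6, nat_lit 0, nat_lit 0,
nat_lit 0, nat_lit 0, nat_lit 0, nat_lit 0, nat_lit 0, nat_lit 0,
nat_lit 0, nat_lit 0, nat_lit 0, nat_lit 0, nat_lit 0, nat_lit 0,
nat_lit 0, nat_lit 0, nat_lit 0, nat_lit 0, nat_lit 0, nat_lit 0,
nat_lit 0x19d574c4e6068872c68209c8f, nat_lit 0x5dbc92aa81f105d955748e11, nat_lit 0x1cbfb18de3058fdc06970fc8, nat_lit 0x11bc3d753ec924d923fbbd4, nat_lit 0, nat_lit 0,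
nat_lit 0x6108f51866147d0dfd88, nat_lit 0, nat_lit 0, nat_lit 0, nat_lit 0, nat_lit 0,
nat_lit 0, nat_lit 0, nat_lit 0, nat_lit 0, nat_lit 0, nat_lit 0,
nat_lit 0, nat_lit 0, nat_lit 0, nat_lit 0, nat_lit 0, nat_lit 0,
nat_lit 0, nat_lit 0, nat_lit 0, nat_lit 0x18d932e9c73caf34c4, nat_lit 0, nat_lit 0,
nat_lit 0x20501265144cef0a3a7cbef608a07, nat_lit 0, nat_lit 0, nat_lit 0x5d13e16f357ac5db797668a, nat_lit 0x1411748fbd159a584a3, nat_lit 0x1291b344d468994417f500a,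
nat_lit 0xba34a273a4327a3186c8ad5, nat_lit 0, nat_lit 0, nat_lit 0, nat_lit 0, nat_lit 0,
nat_lit 0, nat_lit 0, nat_lit 0, nat_lit 0x80476f0e03f121aa039, nat_lit 0, nat_lit 0,
nat_lit 0, nat_lit 0, nat_lit 0, nat_lit 0, nat_lit 0, nat_lit 0,
nat_lit 0xa6a4d910615a91302af1ced, nat_lit 0, nat_lit 0, nat_lit 0x149197051e855e03d3ad2e35b7, nat_lit 0, nat_lit 0,
nat_lit 0x2da564d1d548f56b84ee, nat_lit 0x5d292ac56aa31994948a9c4, nat_lit 0x1eb3d59c7a73b78f01d927, nat_lit 0, nat_lit 0, nat_lit 0xc0ed5587e260b2391277ab9dd9,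
nat_lit 0, nat_lit 0, nat_lit 0, nat_lit 0, nat_lit 0, nat_lit 0,
nat_lit 0, nat_lit 0x30d59ef6f63ecfb1e68b7, nat_lit 0, nat_lit 0, nat_lit 0, nat_lit 0,
nat_lit 0, nat_lit 0, nat_lit 0, nat_lit 0x1cb7be385d2bb78e347791f7, nat_lit 0, nat_lit 0,
nat_lit 0x49d4c6414f7b96ae2b21bd03359656, nat_lit 0, nat_lit 0, nat_lit 0x8ff07ca73203c1fa9164bb768d, nat_lit 0x82e042a38466114753a938b8a0, nat_lit 0x8055a76816d57af8e73f6a8a4a,
nat_lit 0, nat_lit 0xab4160f00b71feb, nat_lit 0, nat_lit 0, nat_lit 0, nat_lit 0,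
nat_lit 0, nat_lit 0, nat_lit 0, nat_lit 0, nat_lit 0, nat_lit 0x51260877990ecc86cc1,
nat_lit 0, nat_lit 0, nat_lit 0, nat_lit 0, nat_lit 0, nat_lit 0,
nat_lit 0x381d12d24b42c5ee, nat_lit 0, nat_lit 0, nat_lit 0x3971e7fa80037a4428bcd263bc47, nat_lit 0, nat_lit 0,
nat_lit 0x2da565589990bb6648d2, nat_lit 0x7410953ba6856916195c, nat_lit 0x1d734a542ea1f247b6ffcfa0c, nat_lit 0x62a54863, nat_lit 0, nat_lit 0,
nat_lit 0, nat_lit 0, nat_lit 0, nat_lit 0, nat_lit 0, nat_lit 0,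
nat_lit 0x1845dffe5b0065d, nat_lit 0, nat_lit 0, nat_lit 0, nat_lit 0, nat_lit 0,
nat_lit 0, nat_lit 0, nat_lit 0, nat_lit 0x72cc5d6c01599d7, nat_lit 0, nat_lit 0,
nat_lit 0x1da8aee07dbb9effab3c4dc53c, nat_lit 0, nat_lit 0, nat_lit 0x14a5cfab4434ddf4577, nat_lit 0x499e2d4a881ebc7a60fb3e59a50, nat_lit 0xa158bddda00a29c3e15b50bcc3e,
nat_lit 0, nat_lit 0x50a23d98813cc, nat_lit 0, nat_lit 0, nat_lit 0, nat_lit 0,
nat_lit 0, nat_lit 0, nat_lit 0, nat_lit 0, nat_lit 0, nat_lit 0x1098dc4e5e7c16f0387ae25971,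
nat_lit 0, nat_lit 0, nat_lit 0, nat_lit 0, nat_lit 0, nat_lit 0,
nat_lit 0x33561cb63d990e0a006c7c637, nat_lit 0, nat_lit 0, nat_lit 0x34d7eabbb4eb50e397a4dd80d, nat_lit 0, nat_lit 0,
nat_lit 0x312def6bb86fe55308c7f3c36, nat_lit 0x250e76bad12266e8d82238db2108, nat_lit 0x1136c36bab4796f56aaa05, nat_lit 0, nat_lit 0, nat_lit 0x9a63387c29e42018d4c,
nat_lit 0, nat_lit 0, nat_lit 0, nat_lit 0, nat_lit 0, nat_lit 0,
nat_lit 0, nat_lit 0x523f51c62, nat_lit 0, nat_lit 0, nat_lit 0, nat_lit 0,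
nat_lit 0, nat_lit 0, nat_lit 0, nat_lit 0x7f5b2af46b316c1f, nat_lit 0x63bdab71d171ca80c27d33d1, nat_lit 0x250e8e5baa343bc02bc3bec6f304,
nat_lit 0x15f4679fe2523b88972, nat_lit 0, nat_lit 0, nat_lit 0x1ff1e6229344a4a33468, nat_lit 0, nat_lit 0,
nat_lit 0x4cb96e4618b03, nat_lit 0x7590f92a61e5, nat_lit 0x82c89f331e73d30d1770e947c9, nat_lit 0, nat_lit 0, nat_lit 0,
nat_lit 0, nat_lit 0, nat_lit 0, nat_lit 0x7ae5c44404b31b5b, nat_lit 0x175147e9bfbbb4c0c47603ce8be81, nat_lit 0x1983557185eb011,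
nat_lit 0, nat_lit 0, nat_lit 0, nat_lit 0, nat_lit 0, nat_lit 0,
nat_lit 0x14d83264cc0dcefdb014561603e5b, nat_lit 0x131d6bc3a366f33c3a36ba, nat_lit 0x638b81dafac, nat_lit 0x388a24d80076a08262075a7d9, nat_lit 0, nat_lit 0,
nat_lit 0x11c44b8ac9fae2a32b00ac8, nat_lit 0, nat_lit 0, nat_lit 0, nat_lit 0, nat_lit 0,
nat_lit 0, nat_lit 0, nat_lit 0, nat_lit 0, nat_lit 0, nat_lit 0,
nat_lit 0, nat_lit 0, nat_lit 0, nat_lit 0, nat_lit 0, nat_lit 0,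
nat_lit 0, nat_lit 0, nat_lit 0, nat_lit 0xd035c0263b34c9061a6cb7bf7, nat_lit 0x4ec6a43331080db45317e60e6961, nat_lit 0x10c34bd02c32beb65925620ca1f,
nat_lit 0x13a21a214d475d, nat_lit 0, nat_lit 0, nat_lit 0x211e90c46acc183480b1968de2, nat_lit 0, nat_lit 0,
nat_lit 0, nat_lit 0, nat_lit 0, nat_lit 0, nat_lit 0, nat_lit 0,
nat_lit 0, nat_lit 0, nat_lit 0, nat_lit 0, nat_lit 0, nat_lit 0,
nat_lit 0, nat_lit 0, nat_lit 0, nat_lit 0, nat_lit 0, nat_lit 0,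
nat_lit 0x28cd884119cc40077e, nat_lit 0, nat_lit 0, nat_lit 0x51ba592dc40434caaaeeb50fb6, nat_lit 0, nat_lit 0,
nat_lit 0x103075c4062663be4e3f60d90, nat_lit 0x1f3724613d9e50de05ccc6, nat_lit 0x250e8b756247dc78a01e1370420c, nat_lit 0xfd14cafeb7880d, nat_lit 0, nat_lit 0,
nat_lit 0, nat_lit 0, nat_lit 0, nat_lit 0, nat_lit 0, nat_lit 0,
nat_lit 0xf7397f87cb7a4b3bd6dd5d, nat_lit 0, nat_lit 0, nat_lit 0, nat_lit 0, nat_lit 0,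
nat_lit 0, nat_lit 0, nat_lit 0, nat_lit 0x2e1a9db83d65e16966850083d90, nat_lit 0, nat_lit 0,
nat_lit 0xb17697ea3e420ca199b, nat_lit 0, nat_lit 0, nat_lit 0x17225a46aa4847d2a7d426cb3, nat_lit 0x172244fd4dc4a25b44b481baa, nat_lit 0x3e43295278cd36c9,
nat_lit 0, nat_lit 0, nat_lit 0x60b7cf15c971be2bd35, nat_lit 0, nat_lit 0, nat_lit 0,
nat_lit 0, nat_lit 0, nat_lit 0, nat_lit 0, nat_lit 0x38a7d1f89e6d91ec, nat_lit 0,
nat_lit 0, nat_lit 0, nat_lit 0, nat_lit 0, nat_lit 0, nat_lit 0,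
nat_lit 0x63d34dd339e9a13fc98c, nat_lit 0, nat_lit 0, nat_lit 0x371038a13596fb92dfb118dfa, nat_lit 0, nat_lit 0,
nat_lit 0x6fd25d5fb79, nat_lit 0x4ec6a433310d13dbd3cceae62d49, nat_lit 0x19599c53e3dc0b261f1c5c73e, nat_lit 0, nat_lit 0x36950a01753ca376aff36, nat_lit 0,
nat_lit 0, nat_lit 0, nat_lit 0, nat_lit 0, nat_lit 0, nat_lit 0,
nat_lit 0, nat_lit 0, nat_lit 0x28e6f1cbb3e9aedf34316d82cd4f, nat_lit 0, nat_lit 0, nat_lit 0,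
nat_lit 0, nat_lit 0, nat_lit 0, nat_lit 0x128eaa266893f6d9227eef9, nat_lit 0, nat_lit 0,
nat_lit 0x198833a068bd4a687c950364c, nat_lit 0, nat_lit 0, nat_lit 0x132adb1e23ec7ecc081, nat_lit 0x172244fd4dc49f0299575fc45, nat_lit 0x388ab73309c4f890b98358d8f,
nat_lit 0x58976f4c43b7, nat_lit 0, nat_lit 0, nat_lit 0, nat_lit 0, nat_lit 0,
nat_lit 0, nat_lit 0, nat_lit 0, nat_lit 0x8f74aaadd62676698d55e6, nat_lit 0, nat_lit 0,
nat_lit 0, nat_lit 0, nat_lit 0, nat_lit 0, nat_lit 0, nat_lit 0,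
nat_lit 0x19b0728d582550294b142ab3c, nat_lit 0, nat_lit 0, nat_lit 0x2fd15847e909a5ecc1096fa78ea52, nat_lit 0, nat_lit 0,
nat_lit 0x17226737875fc81b58a1ed130, nat_lit 0x51f5523fb501b635daecf7a798, nat_lit 0x2f2c7c3f76413139b27667e36cef, nat_lit 0, nat_lit 0x8f1fc8ae1abb, nat_lit 0,
nat_lit 0, nat_lit 0, nat_lit 0, nat_lit 0, nat_lit 0, nat_lit 0,
nat_lit 0, nat_lit 0, nat_lit 0x591e33074, nat_lit 0, nat_lit 0, nat_lit 0,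
nat_lit 0, nat_lit 0, nat_lit 0, nat_lit 0x598f07542d895ccfb33, nat_lit 0, nat_lit 0,
nat_lit 0x6823ed2d0e4381002e51cddedfc, nat_lit 0, nat_lit 0, nat_lit 0x9b6e69183316c7c272c8dfa, nat_lit 0x5ac3237616aa46ce583e6c, nat_lit 0x32afccf117a18f2f54b1,
nat_lit 0, nat_lit 0, nat_lit 0xdec0dc8c5c32817b8eba2c14eb, nat_lit 0, nat_lit 0, nat_lit 0,
nat_lit 0, nat_lit 0, nat_lit 0, nat_lit 0, nat_lit 0x1a05ace41b6, nat_lit 0,
nat_lit 0, nat_lit 0, nat_lit 0, nat_lit 0, nat_lit 0, nat_lit 0,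
nat_lit 0x132adb1e23ec7ec9f48, nat_lit 0x8ff07ca462dd09204a2c14a70f, nat_lit 0x9b6e69ac06970d7b74ac569, nat_lit 0x337b0dfc88d21f6049d42366f, nat_lit 0, nat_lit 0,
nat_lit 0x27cd68ecfd4583ae876ab, nat_lit 0, nat_lit 0, nat_lit 0x3e448b74f29a2fd88bc01, nat_lit 0x51c73cae81e40a5f61e74fde22, nat_lit 0x10e57babd87c66c4939,
nat_lit 0, nat_lit 0, nat_lit 0, nat_lit 0, nat_lit 0, nat_lit 0,
nat_lit 0x1b109668f374c45d407d44, nat_lit 0x6577aa51d2ca8fb74e1a, nat_lit 0x345b2ece8bc97becbe847609, nat_lit 0, nat_lit 0, nat_lit 0,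
nat_lit 0, nat_lit 0, nat_lit 0, nat_lit 0x82de727bbf42434b12e6de0064, nat_lit 0x73343c90afe58900b815819, nat_lit 0x4cc474b3aa3f0ad2,
nat_lit 0x2f434b5b2b0f5d56ad8c82ddf24c, nat_lit 0, nat_lit 0, nat_lit 0x10aee507ba7efffe232b1b5e482, nat_lit 0, nat_lit 0,
nat_lit 0, nat_lit 0, nat_lit 0, nat_lit 0, nat_lit 0, nat_lit 0,
nat_lit 0, nat_lit 0, nat_lit 0, nat_lit 0, nat_lit 0, nat_lit 0,
nat_lit 0, nat_lit 0, nat_lit 0, nat_lit 0, nat_lit 0, nat_lit 0,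
nat_lit 0x51f5523fb500c1a50493d3b9b4, nat_lit 0x751e33b316c4b03305c9958601, nat_lit 0x2492092dcf7ba719659c3b02a, nat_lit 0x7dcb91bfa1cacf500b0, nat_lit 0, nat_lit 0,
nat_lit 0x116c21ebe7138e7a7abeca2c0e0, nat_lit 0, nat_lit 0, nat_lit 0, nat_lit 0, nat_lit 0,
nat_lit 0, nat_lit 0, nat_lit 0, nat_lit 0, nat_lit 0, nat_lit 0,
nat_lit 0, nat_lit 0, nat_lit 0, nat_lit 0, nat_lit 0, nat_lit 0,
nat_lit 0, nat_lit 0, nat_lit 0, nat_lit 0x415f36e85ecf34a21, nat_lit 0, nat_lit 0,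
nat_lit 0x380d669558a6ed1dd9c9c, nat_lit 0, nat_lit 0, nat_lit 0x27ab33e44381e666e3, nat_lit 0x9517a84a26badf386457cd034a, nat_lit 0x491d8f1839c7fe636ae17c9,
nat_lit 0x1026b601ad58fecacdf3d1, nat_lit 0, nat_lit 0, nat_lit 0, nat_lit 0, nat_lit 0,
nat_lit 0, nat_lit 0, nat_lit 0, nat_lit 0x13b349ef9799e68ea9, nat_lit 0, nat_lit 0,
nat_lit 0, nat_lit 0, nat_lit 0, nat_lit 0, nat_lit 0, nat_lit 0,
nat_lit 0x1144341900468faf08993aa, nat_lit 0, nat_lit 0, nat_lit 0x11f7982bc5c5523337649, nat_lit 0, nat_lit 0,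
nat_lit 0x4ec6a3e13d609cbaac15e0d1d064, nat_lit 0x491dbfc788954d3b06f64a7, nat_lit 0x2874a7b83af66ebd20209, nat_lit 0, nat_lit 0, nat_lit 0xea331473b6c,
nat_lit 0, nat_lit 0, nat_lit 0, nat_lit 0, nat_lit 0, nat_lit 0,
nat_lit 0, nat_lit 0x80479a26e78c701b31c, nat_lit 0, nat_lit 0, nat_lit 0, nat_lit 0,
nat_lit 0, nat_lit 0, nat_lit 0, nat_lit 0x40d4c724dda1e81bd, nat_lit 0, nat_lit 0,
nat_lit 0x971f2fc7f5285154d9c15e6315b, nat_lit 0, nat_lit 0, nat_lit 0xe8c19f599b62d2dc7e351f63d, nat_lit 0x20b6828a50bad548524bc1a9d1, nat_lit 0x1c610930ff3a512f8,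
nat_lit 0, nat_lit 0x22c47979b24e17d5, nat_lit 0, nat_lit 0, nat_lit 0, nat_lit 0,
nat_lit 0, nat_lit 0, nat_lit 0, nat_lit 0, nat_lit 0, nat_lit 0x751d7d4259b375e14cfd201e58,
nat_lit 0, nat_lit 0, nat_lit 0, nat_lit 0, nat_lit 0, nat_lit 0,
nat_lit 0xbe24294f40b8ad460da, nat_lit 0, nat_lit 0, nat_lit 0x9f9e291f35124ba2430e765, nat_lit 0, nat_lit 0,
nat_lit 0x11bc3d7536d973573d2bc2e, nat_lit 0x8055a767ab53493f9213885744, nat_lit 0x1e32f4509f04271ca1db4c, nat_lit 0x3ef488575331eeb, nat_lit 0, nat_lit 0,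
nat_lit 0, nat_lit 0, nat_lit 0, nat_lit 0, nat_lit 0, nat_lit 0,
nat_lit 0x4173491250c7348ac, nat_lit 0, nat_lit 0, nat_lit 0, nat_lit 0, nat_lit 0,
nat_lit 0, nat_lit 0, nat_lit 0, nat_lit 0x5af5725d9936f02354f2c4, nat_lit 0, nat_lit 0,
nat_lit 0xb7a6550ca7086f5a95, nat_lit 0, nat_lit 0, nat_lit 0x50ddf3e12cd9ad1fe845ead, nat_lit 0x2f84a1675bcb276fde3637, nat_lit 0x5de3d96268aa1323fb5a00a7,
nat_lit 0, nat_lit 0x34bd0feacbd8fbf761, nat_lit 0, nat_lit 0, nat_lit 0, nat_lit 0,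
nat_lit 0, nat_lit 0, nat_lit 0, nat_lit 0, nat_lit 0, nat_lit 0xc9b2bfc486a819d6cc5,
nat_lit 0, nat_lit 0, nat_lit 0, nat_lit 0, nat_lit 0, nat_lit 0,
nat_lit 0x61e37227f0999d1cac75c987, nat_lit 0, nat_lit 0, nat_lit 0x3826dbc6d0936ab45f155, nat_lit 0, nat_lit 0,
nat_lit 0x2fe24dc6d8, nat_lit 0x312def25a57a8c87d782eeb64, nat_lit 0x501e5fd97de2c7069337b49, nat_lit 0, nat_lit 0, nat_lit 0x1f8efec658b8501deab33b7272,
nat_lit 0, nat_lit 0, nat_lit 0, nat_lit 0, nat_lit 0, nat_lit 0,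
nat_lit 0, nat_lit 0x6868eeed45e51d3df15e204f, nat_lit 0, nat_lit 0, nat_lit 0, nat_lit 0,
nat_lit 0, nat_lit 0, nat_lit 0]

theorem len4 : cd4.length = 729 := by decide +kernel

theorem hC4 : allZ (chkN ap bsL ixL yW 7) cd4 (729 * 4) = true := by decide +kernel

end Cfsg.Agent.TcChain36.O7C
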