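import Mathlib
import Cfsg.Agent.TcChain36.O7C.Tab

set_option autoImplicit false
set_option maxRecDepth 1000000
set_option linter.all false

namespace Cfsg.Agent.TcChain36.O7C

open Cfsg.Agent.Lib.OutTree36 Cfsg.Agent.Lib.PcClass36

set_option Elab.async false

/-- The certificates of a block. -/
def cd5 : List ℕ := [
nat_lit 0x132adb0a11baafdd2ec, nat_lit 0xd035a0f3345010b2686c3ad53, nat_lit 0x91b4207141ca1c72e7a4b4a63, nat_lit 0x290ba70beb0b4fbfa711911feefa, nat_lit 0, nat_lit 0,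
nat_lit 0x510a15f88f60ce3cfe64557d59ae, nat_lit 0, nat_lit 0, nat_lit 0x22a6cc59055bdde10b, nat_lit 0x5e39915f47dca01eb6a7c7df2e13, nat_lit 0x5d41e3584ac6a9ae39cdb73,
nat_lit 0, nat_lit 0, nat_lit 0, nat_lit 0, nat_lit 0, nat_lit 0,
nat_lit 0x28c20c5f60803b4601, nat_lit 0x7b7405bce74eb315d5364ea088b, nat_lit 0xb2b25dc1f94a2488e797b27, nat_lit 0, nat_lit 0, nat_lit 0,
nat_lit 0, nat_lit 0, nat_lit 0, nat_lit 0xe8a7e7f87075ccf73e0c4be9b, nat_lit 0x5abf846d23f3916546a, nat_lit 0xbe23f7c60f38d4f9496,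
nat_lit 0x59f1be6e9e861b5a09b61f51, nat_lit 0, nat_lit 0, nat_lit 0x1aee0875cd5, nat_lit 0, nat_lit 0,
nat_lit 0, nat_lit 0, nat_lit 0, nat_lit 0, nat_lit 0, nat_lit 0,
nat_lit 0, nat_lit 0, nat_lit 0, nat_lit 0, nat_lit 0, nat_lit 0,
nat_lit 0, nat_lit 0, nat_lit 0, nat_lit 0, nat_lit 0, nat_lit 0,
nat_lit 0xe4267ef1861e92c75d89f4683, nat_lit 0xabf1f08bb80d8a5cb1, nat_lit 0x38a99583d159c5d2011, nat_lit 0xf08024b5ca115dbcf52e432, nat_lit 0, nat_lit 0,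
nat_lit 0x5ad1be6d3953b2fabc5477, nat_lit 0, nat_lit 0, nat_lit 0, nat_lit 0, nat_lit 0,
nat_lit 0, nat_lit 0, nat_lit 0, nat_lit 0, nat_lit 0, nat_lit 0,
nat_lit 0, nat_lit 0, nat_lit 0, nat_lit 0, nat_lit 0, nat_lit 0,
nat_lit 0, nat_lit 0, nat_lit 0, nat_lit 0xc97fe35b804bb416844060, nat_lit 0, nat_lit 0,
nat_lit 0x11aadd0b8a5a3e6138576802101, nat_lit 0x4889cb36c013bfcbc, nat_lit 0x41e0fd14bccea31cbff5a88d23b, nat_lit 0x8fc378acb4605caf0c9a3c, nat_lit 0, nat_lit 0,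
nat_lit 0x3aeaa76696f3f8a9aba57f118, nat_lit 0, nat_lit 0, nat_lit 0, nat_lit 0, nat_lit 0,
nat_lit 0, nat_lit 0, nat_lit 0, nat_lit 0x16d4b0b4148b15e5f67085, nat_lit 0, nat_lit 0,
nat_lit 0, nat_lit 0, nat_lit 0, nat_lit 0, nat_lit 0, nat_lit 0,
nat_lit 0x38ca6417da8631c52e9, nat_lit 0, nat_lit 0, nat_lit 0x19ad08b607f90a0c65bdc, nat_lit 0x81455b02389d10976638c69af1, nat_lit 0x81fbfdb55cb3ed79a69d9d,
nat_lit 0x1d9afe5edfd591923ee3373c4a, nat_lit 0, nat_lit 0, nat_lit 0, nat_lit 0, nat_lit 0x736f78e86,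
nat_lit 0, nat_lit 0, nat_lit 0, nat_lit 0, nat_lit 0, nat_lit 0,
nat_lit 0, nat_lit 0x6823c66dfdc96ff3f5a77914748, nat_lit 0, nat_lit 0, nat_lit 0, nat_lit 0,
nat_lit 0, nat_lit 0, nat_lit 0, nat_lit 0x19599c53b9919e87edf2e244d, nat_lit 0, nat_lit 0,
nat_lit 0x11f77f25e9134a5b56332, nat_lit 0xb1455ac8f13ccce19f, nat_lit 0x41e0f7ecf38d5548b1dfe04e922, nat_lit 0x61e45007a2b5390c1850c91b, nat_lit 0, nat_lit 0,
nat_lit 0, nat_lit 0x128bd27240ebdddadc510d7, nat_lit 0, nat_lit 0, nat_lit 0, nat_lit 0,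
nat_lit 0, nat_lit 0, nat_lit 0, nat_lit 0, nat_lit 0, nat_lit 0x111f9ed0c2ef0df37e4,
nat_lit 0, nat_lit 0, nat_lit 0, nat_lit 0, nat_lit 0, nat_lit 0,
nat_lit 0x1e9ba06027, nat_lit 0, nat_lit 0, nat_lit 0x8f74aaad4630d73a78d6d7, nat_lit 0x8b1b0fd7615a8c2c5acdd9b, nat_lit 0x81fbff9b44cc1b6001e9db,
nat_lit 0x371038a409b92a6c3b4d986f4, nat_lit 0, nat_lit 0, nat_lit 0x26e16d09f565f691d4, nat_lit 0, nat_lit 0,
nat_lit 0, nat_lit 0, nat_lit 0, nat_lit 0, nat_lit 0, nat_lit 0,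
nat_lit 0x63c1e5220e0c155, nat_lit 0, nat_lit 0, nat_lit 0, nat_lit 0, nat_lit 0,
nat_lit 0, nat_lit 0, nat_lit 0, nat_lit 0x77801c7250e7, nat_lit 0, nat_lit 0,
nat_lit 0x469e5cc159d6aa5b1, nat_lit 0xffd8cfe0aeddfcdf596f1dfd0, nat_lit 0x3473a56a3188605537267c7a, nat_lit 0xa7f9d7d35e054f06c22e7f9d86a, nat_lit 0, nat_lit 0,
nat_lit 0, nat_lit 0x576e1aed97f64f2a62af4f60, nat_lit 0, nat_lit 0, nat_lit 0, nat_lit 0,
nat_lit 0, nat_lit 0, nat_lit 0, nat_lit 0, nat_lit 0, nat_lit 0x8b92d0778296412,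
nat_lit 0, nat_lit 0, nat_lit 0, nat_lit 0, nat_lit 0, nat_lit 0,
nat_lit 0xf4e3701e7ddda46aa9bc013001, nat_lit 0, nat_lit 0, nat_lit 0x1cc70101281dae080446329c, nat_lit 0x1991eaad744dbb1b1ee43, nat_lit 0x149144b1e948ea9b8c3ca37b43,
nat_lit 0x10aee6df1ccf2f4c54faeda590a, nat_lit 0, nat_lit 0, nat_lit 0, nat_lit 0, nat_lit 0x330c2fad10a50d9a935a,
nat_lit 0, nat_lit 0, nat_lit 0, nat_lit 0, nat_lit 0, nat_lit 0,
nat_lit 0, nat_lit 0x68d68aa97ec8ee3e7b7f3736, nat_lit 0, nat_lit 0, nat_lit 0, nat_lit 0,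
nat_lit 0, nat_lit 0, nat_lit 0, nat_lit 0x19ad08fb7fdf50489d13a, nat_lit 0x81418088b340d887cc2522895d, nat_lit 0xd0346ce7bbe9b3fb15bb434cf,
nat_lit 0x211e90c46acc183480b196408f, nat_lit 0, nat_lit 0, nat_lit 0x700d6b5141de28, nat_lit 0, nat_lit 0,
nat_lit 0x1cbfb1933e4b55eb6edb9611, nat_lit 0x1090d9cf5a3ac035e847ec0ee3, nat_lit 0x5f71a22f5910bd723308, nat_lit 0, nat_lit 0, nat_lit 0,
nat_lit 0, nat_lit 0, nat_lit 0, nat_lit 0x61160801aff1cc3fc190, nat_lit 0x14b65598dab96032b1d29d3, nat_lit 0x8e6ee349c35a456104f375,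
nat_lit 0, nat_lit 0, nat_lit 0, nat_lit 0, nat_lit 0, nat_lit 0,
nat_lit 0xe8a7e7f87075cd2dbe5b3a7ef, nat_lit 0xe8a7e663eaadd258ffc1d424e, nat_lit 0x16e3eefe863fe20f3eb, nat_lit 0x9fe6a7e119d1f7bc830ae2b, nat_lit 0, nat_lit 0,
nat_lit 0x499e2d4a881ebc849c757d14f6d, nat_lit 0, nat_lit 0, nat_lit 0, nat_lit 0, nat_lit 0,
nat_lit 0, nat_lit 0, nat_lit 0, nat_lit 0, nat_lit 0, nat_lit 0,
nat_lit 0, nat_lit 0, nat_lit 0, nat_lit 0, nat_lit 0, nat_lit 0,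
nat_lit 0, nat_lit 0, nat_lit 0, nat_lit 0x2d1115ea2d6adee55b7851d7, nat_lit 0x37d67b66d8253499db3e0078f, nat_lit 0x682404a256bd0ed28867a991b47,
nat_lit 0x3fc176e21c71293dc0487eea, nat_lit 0, nat_lit 0, nat_lit 0x1f95ab6a60fb0e7d7314c1, nat_lit 0, nat_lit 0,
nat_lit 0, nat_lit 0, nat_lit 0, nat_lit 0, nat_lit 0, nat_lit 0,
nat_lit 0, nat_lit 0, nat_lit 0, nat_lit 0, nat_lit 0, nat_lit 0,
nat_lit 0, nat_lit 0, nat_lit 0, nat_lit 0, nat_lit 0, nat_lit 0,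
nat_lit 0x24575c974b01013b9, nat_lit 0, nat_lit 0, nat_lit 0x179c309113e, nat_lit 0x8e6ee34a1f84a3bead2a15, nat_lit 0xd035b13e4f35120dcbf5f1344,
nat_lit 0xeed13500a5de6e64c71795263d26d, nat_lit 0, nat_lit 0, nat_lit 0x24d0df00e97cff81a2, nat_lit 0, nat_lit 0,
nat_lit 0, nat_lit 0, nat_lit 0, nat_lit 0, nat_lit 0, nat_lit 0,
nat_lit 0x30d29d54dd038fe2c0d89, nat_lit 0, nat_lit 0, nat_lit 0, nat_lit 0, nat_lit 0,
nat_lit 0, nat_lit 0, nat_lit 0, nat_lit 0x95487c51ea9f9865c88e14e9bd, nat_lit 0, nat_lit 0,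
nat_lit 0xae07aab83d947b3b34a1ee3, nat_lit 0x142aafa82590f5b7c4f1835e02, nat_lit 0x9a6336c75a0d73a991c, nat_lit 0x4d7bf679a5d320fe48ec36919005, nat_lit 0, nat_lit 0,
nat_lit 0, nat_lit 0, nat_lit 0xd61f24b2d19e4dcb09ff27, nat_lit 0, nat_lit 0, nat_lit 0,
nat_lit 0, nat_lit 0, nat_lit 0, nat_lit 0, nat_lit 0x1b782a9d4f7f5db1643ae4, nat_lit 0,
nat_lit 0, nat_lit 0, nat_lit 0, nat_lit 0, nat_lit 0, nat_lit 0,
nat_lit 0x2d4718c29e2029, nat_lit 0, nat_lit 0, nat_lit 0x29207aa5df967559e3bbd129, nat_lit 0x2f84a167b47a400328dbe8, nat_lit 0xcd72f098e95c33652a70d1,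
nat_lit 0x34cfdd45122284ce0a09323d9, nat_lit 0, nat_lit 0, nat_lit 0, nat_lit 0x1988f5885708e3c2f94d73df8, nat_lit 0,
nat_lit 0, nat_lit 0, nat_lit 0, nat_lit 0, nat_lit 0, nat_lit 0,
nat_lit 0, nat_lit 0, nat_lit 0x11e991662154932a98, nat_lit 0, nat_lit 0, nat_lit 0,
nat_lit 0, nat_lit 0, nat_lit 0, nat_lit 0x361e088ab89f9a079, nat_lit 0, nat_lit 0,
nat_lit 0xffe46bd3e7231ff657cf8f4b4, nat_lit 0x30c2b58c65753c0f368d9, nat_lit 0x30d5a0adab7aba2c1ee34, nat_lit 0x103106d9285339f4c55d48b94, nat_lit 0, nat_lit 0,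
nat_lit 0x6eb083e6c7430fb, nat_lit 0, nat_lit 0, nat_lit 0, nat_lit 0, nat_lit 0,
nat_lit 0, nat_lit 0, nat_lit 0, nat_lit 0x9a1b867922f1a4ced7d, nat_lit 0, nat_lit 0,
nat_lit 0, nat_lit 0, nat_lit 0, nat_lit 0, nat_lit 0, nat_lit 0,
nat_lit 0x312b385b39b70007aea6cfc48, nat_lit 0, nat_lit 0, nat_lit 0x250e927a4e516ffbe3b260272364, nat_lit 0x28f54337c4def58908375487, nat_lit 0x13e0cfdf126222,
nat_lit 0xb12731404df55434c9b, nat_lit 0, nat_lit 0, nat_lit 0, nat_lit 0xa7faa38d3fa2ab4333841e2963f, nat_lit 0,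
nat_lit 0, nat_lit 0, nat_lit 0, nat_lit 0, nat_lit 0, nat_lit 0,
nat_lit 0, nat_lit 0, nat_lit 0x504ae23095d9d, nat_lit 0, nat_lit 0, nat_lit 0,
nat_lit 0, nat_lit 0, nat_lit 0, nat_lit 0x142c368f54871bf1a0b35c81f7, nat_lit 0, nat_lit 0,
nat_lit 0x13b3542b1d48019f55, nat_lit 0x41e0fd14bccea31cbf868717fce, nat_lit 0x1b81c7e192dec7bcdbe042502a06f, nat_lit 0x48b4db03f55316d06c6528b2920, nat_lit 0, nat_lit 0,
nat_lit 0, nat_lit 0, nat_lit 0x37814db3aa123c5e12629, nat_lit 0, nat_lit 0, nat_lit 0,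
nat_lit 0, nat_lit 0, nat_lit 0, nat_lit 0, nat_lit 0x250e6ed71b363849bf984d134d85, nat_lit 0,
nat_lit 0, nat_lit 0, nat_lit 0, nat_lit 0, nat_lit 0, nat_lit 0,
nat_lit 0x13bea634bf, nat_lit 0xe4267ef30d90094e5cf3f8bf6, nat_lit 0x1d81d8f37de851857bfc1804f, nat_lit 0x3a936412e6c9bd123de67daeedd4, nat_lit 0, nat_lit 0,
nat_lit 0x26d66560f175a6, nat_lit 0, nat_lit 0, nat_lit 0x45213e6642a6c4909, nat_lit 0x3e41a5c276796fd1, nat_lit 0xa782c98ce89a7e6cf7893d992f3,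
nat_lit 0, nat_lit 0, nat_lit 0, nat_lit 0, nat_lit 0, nat_lit 0,
nat_lit 0x13c13eaf5e4300, nat_lit 0xe8811b058b6f8c3b8f79fb012, nat_lit 0x1844bca9bd84b50, nat_lit 0, nat_lit 0, nat_lit 0,
nat_lit 0, nat_lit 0, nat_lit 0, nat_lit 0x1cc678438ed7c6d63f4c3a61, nat_lit 0x1090d9cf5a3b1859bf26b0d5af, nat_lit 0x20f892923a86dfbdf9739b,
nat_lit 0x1da8b39bf6371c6e77691435db, nat_lit 0, nat_lit 0, nat_lit 0x199dc045585102c09c9604c80d2ce, nat_lit 0, nat_lit 0,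
nat_lit 0, nat_lit 0, nat_lit 0, nat_lit 0, nat_lit 0, nat_lit 0,
nat_lit 0, nat_lit 0, nat_lit 0, nat_lit 0, nat_lit 0, nat_lit 0,
nat_lit 0, nat_lit 0, nat_lit 0, nat_lit 0, nat_lit 0, nat_lit 0,
nat_lit 0x149197051e860139aea0812abc, nat_lit 0x3d0b180ffea09863fd6fa682be99, nat_lit 0xe4267ef1308edd9cbc15e685d, nat_lit 0x370ff03677566860210293934, nat_lit 0, nat_lit 0,
nat_lit 0x13a251e0e8dfc7, nat_lit 0, nat_lit 0, nat_lit 0, nat_lit 0, nat_lit 0,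
nat_lit 0, nat_lit 0, nat_lit 0, nat_lit 0, nat_lit 0, nat_lit 0,
nat_lit 0, nat_lit 0, nat_lit 0, nat_lit 0, nat_lit 0, nat_lit 0,
nat_lit 0, nat_lit 0, nat_lit 0, nat_lit 0x148e094fbbbb, nat_lit 0, nat_lit 0,
nat_lit 0x2920b77f298dd585f2e92250, nat_lit 0x9a1c9568edcaa7930a0, nat_lit 0xc918da4157055620d16, nat_lit 0x59c8f7218dda4a8b45bada58, nat_lit 0, nat_lit 0,
nat_lit 0xcd37f519, nat_lit 0, nat_lit 0, nat_lit 0, nat_lit 0, nat_lit 0,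
nat_lit 0, nat_lit 0, nat_lit 0, nat_lit 0x21c93ca8772ebb, nat_lit 0, nat_lit 0,
nat_lit 0, nat_lit 0, nat_lit 0, nat_lit 0, nat_lit 0, nat_lit 0,
nat_lit 0x12841612fc1c3423686df49, nat_lit 0, nat_lit 0, nat_lit 0xe8ab2122b28893c26d293bcda, nat_lit 0x7410953bca58bca6ec38, nat_lit 0xac98f1ca1ad8abb4863,
nat_lit 0x61e441b90f8958b82e7fedc3, nat_lit 0, nat_lit 0, nat_lit 0, nat_lit 0, nat_lit 0x41736d71f58d1b35a,
nat_lit 0, nat_lit 0, nat_lit 0, nat_lit 0, nat_lit 0, nat_lit 0,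
nat_lit 0, nat_lit 0x129caa6cc88701da671207c8b56, nat_lit 0, nat_lit 0, nat_lit 0, nat_lit 0,
nat_lit 0, nat_lit 0, nat_lit 0, nat_lit 0x122d0a4912fc198bb20dcdf416cb50, nat_lit 0, nat_lit 0,
nat_lit 0x64f2e8828c2edea392, nat_lit 0x1098dc4e5e7c16ee359912b14d, nat_lit 0x8c0bce023439fa2f60f63f56437, nat_lit 0x3971e7fa8f3093f02164956a2026, nat_lit 0, nat_lit 0,
nat_lit 0, nat_lit 0x41e096755274f244d1964c7db37, nat_lit 0, nat_lit 0, nat_lit 0, nat_lit 0,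
nat_lit 0, nat_lit 0, nat_lit 0, nat_lit 0, nat_lit 0, nat_lit 0x17225a46aa4847d8c42a0bcb3,
nat_lit 0, nat_lit 0, nat_lit 0, nat_lit 0, nat_lit 0, nat_lit 0,
nat_lit 0x23743ef4b5d74ce1, nat_lit 0, nat_lit 0, nat_lit 0x1c228bb5f9bdf0221de1d, nat_lit 0x751e40bc0d36a973a9e57b35d1, nat_lit 0x2e19fe43d5d091a60815a16378c,
nat_lit 0x8140165aadacf45a07cc6d986c, nat_lit 0, nat_lit 0, nat_lit 0x2bf531ba9c9c29, nat_lit 0, nat_lit 0,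
nat_lit 0, nat_lit 0, nat_lit 0, nat_lit 0, nat_lit 0, nat_lit 0,
nat_lit 0xdc1f71ce4c7fb69, nat_lit 0, nat_lit 0, nat_lit 0, nat_lit 0, nat_lit 0,
nat_lit 0, nat_lit 0, nat_lit 0, nat_lit 0x492776347f789182752b406bd3b, nat_lit 0, nat_lit 0,
nat_lit 0x8e6ee3490b361337cbfc28, nat_lit 0x1ba9d6a224817865c4684721b1, nat_lit 0xb462f5e6cea92bb3592, nat_lit 0xa1b45989f3efe3cce6547, nat_lit 0, nat_lit 0,
nat_lit 0, nat_lit 0x13e91b98afcebad5d, nat_lit 0, nat_lit 0, nat_lit 0, nat_lit 0,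
nat_lit 0, nat_lit 0, nat_lit 0, nat_lit 0, nat_lit 0, nat_lit 0x3eed60515a658d9,
nat_lit 0, nat_lit 0, nat_lit 0, nat_lit 0, nat_lit 0, nat_lit 0,
nat_lit 0xc97fe32fc22feaa38cc785, nat_lit 0, nat_lit 0, nat_lit 0x2df4eb238a02badd4ae4eea6, nat_lit 0x41e096755274f255e6a61142dab, nat_lit 0x5479841862378f896e27f,
nat_lit 0x337d91dc887609dba8a3c07ac, nat_lit 0, nat_lit 0, nat_lit 0, nat_lit 0, nat_lit 0x8b1051ad4338db5bc22a22f,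
nat_lit 0, nat_lit 0, nat_lit 0, nat_lit 0, nat_lit 0, nat_lit 0,
nat_lit 0, nat_lit 0x2b2e81a50fc3767ae, nat_lit 0, nat_lit 0, nat_lit 0, nat_lit 0,
nat_lit 0, nat_lit 0, nat_lit 0]

theorem len5 : cd5.length = 729 := by decide +kernel

theorem hC5 : allZ (chkN ap bsL ixL yW 7) cd5 (729 * 5) = true := by decide +kernel

end Cfsg.Agent.TcChain36.O7C
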