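import Mathlib
import Cfsg.Agent.TcChain36.O7C.Tab

set_option autoImplicit false
set_option maxRecDepth 1000000
set_option linter.all false

namespace Cfsg.Agent.TcChain36.O7C

open Cfsg.Agent.Lib.OutTree36 Cfsg.Agent.Lib.PcClass36

set_option Elab.async false

/-- The certificates of a block. -/
def cd6 : List ℕ := [
nat_lit 0x9b0608ad, nat_lit 0x1c3d0d5, nat_lit 0x2d5ddf5d8e, nat_lit 0x19dc9fed830afafc0e05e70b6, nat_lit 0x5498b0b8ebfa8a9c204abecfb2c5, nat_lit 0xa7b1e66b16b6d1bbe4666259395,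
nat_lit 0x491dbdce5cb42d9db83e1d0, nat_lit 0x312def58cefc57781ba814eb6, nat_lit 0x41e101c1e87e74d22464fddaaac, nat_lit 0xfb9e1ad08f8220, nat_lit 0x445ec159b0be5, nat_lit 0x58e87f43a7ad3d238cc999be,
nat_lit 0, nat_lit 0, nat_lit 0, nat_lit 0, nat_lit 0, nat_lit 0,
nat_lit 0x20ecc3ca6ad2ef6, nat_lit 0xa729c09fea3b88780628dad, nat_lit 0xcdb8267ddb9ffb0, nat_lit 0, nat_lit 0, nat_lit 0,
nat_lit 0, nat_lit 0, nat_lit 0, nat_lit 0x3e51adcd99547f08a, nat_lit 0x58e184748921, nat_lit 0x8b92d093d3d6212,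
nat_lit 0xe8811aec163acc08f959dfae4, nat_lit 0x41e0fd0c2e85fa21535a7cd88f0, nat_lit 0x102bd3dfcfb320ebc3b51926c, nat_lit 0x312def6bb86fe55308c7eeee2, nat_lit 0x709d4c386090e458, nat_lit 0xa15a9a4ecf1f97dc0d9f2,
nat_lit 0, nat_lit 0, nat_lit 0, nat_lit 0, nat_lit 0, nat_lit 0,
nat_lit 0, nat_lit 0, nat_lit 0, nat_lit 0, nat_lit 0, nat_lit 0,
nat_lit 0, nat_lit 0, nat_lit 0, nat_lit 0, nat_lit 0, nat_lit 0,
nat_lit 0x13e74557754b88, nat_lit 0x151e6931323, nat_lit 0x3f09ec15e026b3d, nat_lit 0x345b2ece9286612bd2b05e98, nat_lit 0x7f60d53ac34, nat_lit 0x1cb12dd03381ac5bdc92e,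
nat_lit 0x5d13e16f3f5603ff57a673e, nat_lit 0x10307561eadd6bd7be4d28624, nat_lit 0x312defa26195c8f9dc7d8c689, nat_lit 0, nat_lit 0, nat_lit 0,
nat_lit 0, nat_lit 0, nat_lit 0, nat_lit 0, nat_lit 0, nat_lit 0,
nat_lit 0, nat_lit 0, nat_lit 0, nat_lit 0, nat_lit 0, nat_lit 0,
nat_lit 0, nat_lit 0, nat_lit 0, nat_lit 0x40d4c8482682e1761, nat_lit 0, nat_lit 0,
nat_lit 0x2050127cf08b533712db5bc74ee2d, nat_lit 0, nat_lit 0, nat_lit 0x91b695cb43a85cab1a971b159, nat_lit 0, nat_lit 0,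
nat_lit 0x1845dffe5b00370, nat_lit 0, nat_lit 0, nat_lit 0, nat_lit 0, nat_lit 0,
nat_lit 0, nat_lit 0, nat_lit 0, nat_lit 0x26e16d09f5660ec288, nat_lit 0, nat_lit 0,
nat_lit 0, nat_lit 0, nat_lit 0, nat_lit 0, nat_lit 0, nat_lit 0,
nat_lit 0x34a1c5c894e7d9d582c8bdd78, nat_lit 0, nat_lit 0, nat_lit 0x10275affb468973ffd82eac6b, nat_lit 0, nat_lit 0,
nat_lit 0x576e1b6a2b7197b00f9c5374, nat_lit 0, nat_lit 0, nat_lit 0, nat_lit 0, nat_lit 0x149fca0f4388e954ed4ea83,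
nat_lit 0, nat_lit 0, nat_lit 0, nat_lit 0, nat_lit 0, nat_lit 0,
nat_lit 0, nat_lit 0x118fe995d8cfc519c379bfc, nat_lit 0, nat_lit 0, nat_lit 0, nat_lit 0,
nat_lit 0, nat_lit 0, nat_lit 0, nat_lit 0x5d13e16f357ac5db797668b, nat_lit 0, nat_lit 0,
nat_lit 0x13ad1afdef9aaf, nat_lit 0, nat_lit 0, nat_lit 0x1984020f115ca9f, nat_lit 0, nat_lit 0,
nat_lit 0, nat_lit 0x9485bd8e, nat_lit 0, nat_lit 0, nat_lit 0, nat_lit 0,
nat_lit 0, nat_lit 0, nat_lit 0, nat_lit 0, nat_lit 0, nat_lit 0x8de7c214f4896e9,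
nat_lit 0, nat_lit 0, nat_lit 0, nat_lit 0, nat_lit 0, nat_lit 0,
nat_lit 0x3260741f5bafbdba268f, nat_lit 0, nat_lit 0, nat_lit 0xa7aabce25eff477e905b0c60bd7, nat_lit 0, nat_lit 0,
nat_lit 0x1da8aee07dbb9effab3c4dc53b, nat_lit 0, nat_lit 0, nat_lit 0x415bb90f8005eff8cca66, nat_lit 0, nat_lit 0,
nat_lit 0, nat_lit 0, nat_lit 0, nat_lit 0, nat_lit 0, nat_lit 0,
nat_lit 0x14b083d3f5ccd965fca6cb2, nat_lit 0, nat_lit 0, nat_lit 0, nat_lit 0, nat_lit 0,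
nat_lit 0, nat_lit 0, nat_lit 0, nat_lit 0xa2bc4517fd39450545f1b8c, nat_lit 0, nat_lit 0,
nat_lit 0x11da835f111e2b2f6540a28df51, nat_lit 0, nat_lit 0, nat_lit 0x89bfef1126ccac7bff79c0ab64c, nat_lit 0, nat_lit 0,
nat_lit 0, nat_lit 0x17225a46aa4847d8c42a0be9d, nat_lit 0, nat_lit 0, nat_lit 0, nat_lit 0,
nat_lit 0, nat_lit 0, nat_lit 0, nat_lit 0, nat_lit 0, nat_lit 0x36950a01753ca376ab1e2,
nat_lit 0, nat_lit 0, nat_lit 0, nat_lit 0, nat_lit 0, nat_lit 0,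
nat_lit 0xff084bdeb5ac294b74e10, nat_lit 0, nat_lit 0, nat_lit 0x23743ef4b5d7457f, nat_lit 0, nat_lit 0,
nat_lit 0x5b856e32b73e5d1b04ef43cb, nat_lit 0, nat_lit 0, nat_lit 0, nat_lit 0, nat_lit 0x1b782a8d74256f93b0f63f,
nat_lit 0, nat_lit 0, nat_lit 0, nat_lit 0, nat_lit 0, nat_lit 0,
nat_lit 0, nat_lit 0x40bb043d8e, nat_lit 0, nat_lit 0, nat_lit 0, nat_lit 0,
nat_lit 0, nat_lit 0, nat_lit 0, nat_lit 0x680fd3aca39f3, nat_lit 0x5964cf33b, nat_lit 0x28794a1da4b56b,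
nat_lit 0x2920b9303503968f7abcc6b0, nat_lit 0x4f684bf1077a6, nat_lit 0x1c228bb5f9bdf02179283, nat_lit 0x491dc02d4a75b5207f79453, nat_lit 0x312def58cefe42e5cb7309225, nat_lit 0x102b8b750a674b8bf878c289f,
nat_lit 0x1309e7bf2fe56ef, nat_lit 0x148cd4c05bbec078368, nat_lit 0x120f02caf90a3bb9329a87a, nat_lit 0, nat_lit 0, nat_lit 0,
nat_lit 0, nat_lit 0, nat_lit 0, nat_lit 0x130743ac5cf2c2b, nat_lit 0xb802e6cbf4c84fea67, nat_lit 0xda567b18d50388b,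
nat_lit 0, nat_lit 0, nat_lit 0, nat_lit 0, nat_lit 0, nat_lit 0,
nat_lit 0x975d13b7, nat_lit 0x1ea3592, nat_lit 0x32483731eb, nat_lit 0x17226aaeea224f39912886320, nat_lit 0x174b09dc3a40d3546eefe78ca09fe, nat_lit 0x4ec6a47e8c93734150bfed8269a9,
nat_lit 0x9b6e69183316c7c272df730, nat_lit 0x1f68a569d983fd819256c25d56, nat_lit 0x53ec49e35e9de92098fdd2c7bf0, nat_lit 0, nat_lit 0, nat_lit 0,
nat_lit 0, nat_lit 0, nat_lit 0, nat_lit 0, nat_lit 0, nat_lit 0,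
nat_lit 0, nat_lit 0, nat_lit 0, nat_lit 0, nat_lit 0, nat_lit 0,
nat_lit 0, nat_lit 0, nat_lit 0, nat_lit 0xc73b5f5606c97, nat_lit 0x372992705, nat_lit 0x13e70742bc6620,
nat_lit 0x2d7cd92ea93a7161f2a6b8b1, nat_lit 0x2ad045d9dc6ab779bcdce3db38, nat_lit 0x34d02a475adfaac43d62c0a43, nat_lit 0x1d734a54326b96a8a6826a049, nat_lit 0x605ab8df97e509b6, nat_lit 0x20fd4d395f629cf0589d31,
nat_lit 0, nat_lit 0, nat_lit 0, nat_lit 0, nat_lit 0, nat_lit 0,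
nat_lit 0, nat_lit 0, nat_lit 0, nat_lit 0, nat_lit 0, nat_lit 0,
nat_lit 0, nat_lit 0, nat_lit 0, nat_lit 0, nat_lit 0, nat_lit 0,
nat_lit 0x1874f2aa2c5b700, nat_lit 0, nat_lit 0, nat_lit 0x2ce65a7a2b460c074, nat_lit 0, nat_lit 0,
nat_lit 0x51f5523fb500c1a50493d3b9b5, nat_lit 0, nat_lit 0, nat_lit 0x809cf2f8145051a3, nat_lit 0, nat_lit 0,
nat_lit 0, nat_lit 0, nat_lit 0, nat_lit 0, nat_lit 0, nat_lit 0,
nat_lit 0xb95cff528472b9be210, nat_lit 0, nat_lit 0, nat_lit 0, nat_lit 0, nat_lit 0,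
nat_lit 0, nat_lit 0, nat_lit 0, nat_lit 0x8140165aadacf45a07cc6d986b, nat_lit 0, nat_lit 0,
nat_lit 0x1c65d24e5c84cfeff5e05, nat_lit 0, nat_lit 0, nat_lit 0x2d4718c2a04c9b, nat_lit 0, nat_lit 0,
nat_lit 0, nat_lit 0, nat_lit 0x4d02ae577f7c2, nat_lit 0, nat_lit 0, nat_lit 0,
nat_lit 0, nat_lit 0, nat_lit 0, nat_lit 0, nat_lit 0x1c6ebfae01ad9028264568b01, nat_lit 0,
nat_lit 0, nat_lit 0, nat_lit 0, nat_lit 0, nat_lit 0, nat_lit 0,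
nat_lit 0x918a72de4d695b6595f89f38b, nat_lit 0, nat_lit 0, nat_lit 0x8c0bce023439fa2f6ad18fad5b2, nat_lit 0, nat_lit 0,
nat_lit 0x5af5725d9936f0234f90f1, nat_lit 0, nat_lit 0, nat_lit 0, nat_lit 0x91b3c494f2b17c04c7286e9c3, nat_lit 0,
nat_lit 0, nat_lit 0, nat_lit 0, nat_lit 0, nat_lit 0, nat_lit 0,
nat_lit 0, nat_lit 0, nat_lit 0x12a1fd28612ccf2cfa508d4d58d, nat_lit 0, nat_lit 0, nat_lit 0,
nat_lit 0, nat_lit 0, nat_lit 0, nat_lit 0x5b856e32bd0a017c293e628f, nat_lit 0, nat_lit 0,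
nat_lit 0x24910c7ae0ee3b113672a0093, nat_lit 0, nat_lit 0, nat_lit 0xb177a6ccd8bbc9553ab, nat_lit 0, nat_lit 0,
nat_lit 0x451a7ad25943, nat_lit 0, nat_lit 0, nat_lit 0, nat_lit 0, nat_lit 0,
nat_lit 0, nat_lit 0, nat_lit 0, nat_lit 0x63d34de751ef8db0002f, nat_lit 0, nat_lit 0,
nat_lit 0, nat_lit 0, nat_lit 0, nat_lit 0, nat_lit 0, nat_lit 0,
nat_lit 0x380d669558a6ed1dd9c9b, nat_lit 0, nat_lit 0, nat_lit 0x325fe5156ff72476fa84, nat_lit 0, nat_lit 0,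
nat_lit 0xb58dea811123cbf467e5a2193e, nat_lit 0, nat_lit 0, nat_lit 0, nat_lit 0x13c277ab708434, nat_lit 0,
nat_lit 0, nat_lit 0, nat_lit 0, nat_lit 0, nat_lit 0, nat_lit 0,
nat_lit 0, nat_lit 0, nat_lit 0xfb9e1b1fcf4939, nat_lit 0, nat_lit 0, nat_lit 0,
nat_lit 0, nat_lit 0, nat_lit 0, nat_lit 0x92996ad4190ec83dd44c03e679c, nat_lit 0, nat_lit 0,
nat_lit 0x5dbcafc01c4ec7f3407c3414, nat_lit 0, nat_lit 0, nat_lit 0x1eb223baab281be1d728dc, nat_lit 0, nat_lit 0,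
nat_lit 0, nat_lit 0, nat_lit 0x1421e30644e86861a8c12c3, nat_lit 0, nat_lit 0, nat_lit 0,
nat_lit 0, nat_lit 0, nat_lit 0, nat_lit 0, nat_lit 0xc06d9bd229196e779b, nat_lit 0,
nat_lit 0, nat_lit 0, nat_lit 0, nat_lit 0, nat_lit 0, nat_lit 0,
nat_lit 0x9403092892baad8, nat_lit 0x7b91ee6b20f8, nat_lit 0x3e9d9fcad41869671, nat_lit 0x41e0fd0c2e85fa215384f0d8800, nat_lit 0x4fd28bd515f0cd7b, nat_lit 0xa70259c6951214373c7da23,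
nat_lit 0x2acdce889ac6b73ef12baaf80e, nat_lit 0x295d2558e3fe05047db79a0426d7, nat_lit 0x1db517c8231dd00e62879437c4, nat_lit 0x3bf1100aa3b64, nat_lit 0x709d4a219e9f1f79, nat_lit 0x20c00338bb26974c8d986,
nat_lit 0, nat_lit 0, nat_lit 0, nat_lit 0, nat_lit 0, nat_lit 0,
nat_lit 0x70c197b0c1a5aca1, nat_lit 0xf39549b08f1ae747439758, nat_lit 0x411f364e026f2cce1, nat_lit 0, nat_lit 0, nat_lit 0,
nat_lit 0, nat_lit 0, nat_lit 0, nat_lit 0x2efecde3e9, nat_lit 0x1ea3610, nat_lit 0x9eeb57de,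
nat_lit 0x2e19fe43d5d06cecd293271872b, nat_lit 0x41e0fd0c2e54c75b2cf9f9298f8, nat_lit 0xd035b13e4f35120dcbf31b238, nat_lit 0xb91e4f2e12b60b0723a48a8073, nat_lit 0x250e54a1fe61c846b5e48b054def, nat_lit 0x312def68b66286d35bb40f524,
nat_lit 0, nat_lit 0, nat_lit 0, nat_lit 0, nat_lit 0, nat_lit 0,
nat_lit 0, nat_lit 0, nat_lit 0, nat_lit 0, nat_lit 0, nat_lit 0,
nat_lit 0, nat_lit 0, nat_lit 0, nat_lit 0, nat_lit 0, nat_lit 0,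
nat_lit 0x4e88873ecb9fd08f, nat_lit 0x3248b48d0d, nat_lit 0x1e711a56afe7da6a50, nat_lit 0x345b2ece93a0623fa15a289b, nat_lit 0x29207aa5df9675b99458c860, nat_lit 0x81fba90e9f9c6e88184ccc,
nat_lit 0x250e54a1fe61c205268a96d0e34c, nat_lit 0x1e7ad2d60e0562a389, nat_lit 0x5abf814987aec55b754, nat_lit 0, nat_lit 0, nat_lit 0,
nat_lit 0, nat_lit 0, nat_lit 0, nat_lit 0, nat_lit 0, nat_lit 0,
nat_lit 0, nat_lit 0, nat_lit 0, nat_lit 0, nat_lit 0, nat_lit 0,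
nat_lit 0, nat_lit 0, nat_lit 0, nat_lit 0x28a33128007d62, nat_lit 0, nat_lit 0,
nat_lit 0x2d1115ea2d6adee55b7851d8, nat_lit 0, nat_lit 0, nat_lit 0x4da3f2e, nat_lit 0, nat_lit 0,
nat_lit 0x289687b15006d6e5fc9ba, nat_lit 0, nat_lit 0, nat_lit 0, nat_lit 0, nat_lit 0,
nat_lit 0, nat_lit 0, nat_lit 0, nat_lit 0x1fde5edf8ff04cc11, nat_lit 0, nat_lit 0,
nat_lit 0, nat_lit 0, nat_lit 0, nat_lit 0, nat_lit 0, nat_lit 0,
nat_lit 0xe88123557f843cf6d3c228af8, nat_lit 0, nat_lit 0, nat_lit 0x73416208a673ada4, nat_lit 0, nat_lit 0,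
nat_lit 0x20d7dacc50a8d05d4cf0f9ed15561, nat_lit 0, nat_lit 0, nat_lit 0, nat_lit 0, nat_lit 0x85accfa2411f1918bb2,
nat_lit 0, nat_lit 0, nat_lit 0, nat_lit 0, nat_lit 0, nat_lit 0,
nat_lit 0, nat_lit 0x14b083d2e6ed2f5be7039b7, nat_lit 0, nat_lit 0, nat_lit 0, nat_lit 0,
nat_lit 0, nat_lit 0, nat_lit 0, nat_lit 0x2968f979ec914a0a9802165bcaa4, nat_lit 0, nat_lit 0,
nat_lit 0x48dccba24e01da05c683669864f, nat_lit 0, nat_lit 0, nat_lit 0xe73406f8194fd173a3b5804eb, nat_lit 0, nat_lit 0,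
nat_lit 0, nat_lit 0x46d467d287e0cdcc2, nat_lit 0, nat_lit 0, nat_lit 0, nat_lit 0,
nat_lit 0, nat_lit 0, nat_lit 0, nat_lit 0, nat_lit 0, nat_lit 0x2920b77f0d7e6ebe1f947416,
nat_lit 0, nat_lit 0, nat_lit 0, nat_lit 0, nat_lit 0, nat_lit 0,
nat_lit 0x61039a0227f5666b61e6, nat_lit 0, nat_lit 0, nat_lit 0x34ba28ae2ecda7f03d96828b8, nat_lit 0, nat_lit 0,
nat_lit 0x50f4657a4323194e46b05af9c5d, nat_lit 0, nat_lit 0, nat_lit 0x140afee0c1576b89465, nat_lit 0, nat_lit 0,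
nat_lit 0, nat_lit 0, nat_lit 0, nat_lit 0, nat_lit 0, nat_lit 0,
nat_lit 0x8e58c85c89db7a9, nat_lit 0, nat_lit 0, nat_lit 0, nat_lit 0, nat_lit 0,
nat_lit 0, nat_lit 0, nat_lit 0, nat_lit 0x95e0aa61b2817bbfe65acb090af, nat_lit 0, nat_lit 0,
nat_lit 0x370ff03677566860210241596, nat_lit 0, nat_lit 0, nat_lit 0x16638b20ab3ba88544a79f, nat_lit 0, nat_lit 0,
nat_lit 0, nat_lit 0x3afb31cd50599ca09cec5951b, nat_lit 0, nat_lit 0, nat_lit 0, nat_lit 0,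
nat_lit 0, nat_lit 0, nat_lit 0, nat_lit 0, nat_lit 0, nat_lit 0x73b795a031891978,
nat_lit 0, nat_lit 0, nat_lit 0, nat_lit 0, nat_lit 0, nat_lit 0,
nat_lit 0x11bc3d7536d973573d2bc2f, nat_lit 0, nat_lit 0, nat_lit 0x109646b3c4bc664432ba74138a, nat_lit 0, nat_lit 0,
nat_lit 0x9b65d4e11b8b0fe5b63498e, nat_lit 0, nat_lit 0, nat_lit 0, nat_lit 0, nat_lit 0x1223bc56810e5b2fa40fee16fdb,
nat_lit 0, nat_lit 0, nat_lit 0, nat_lit 0, nat_lit 0, nat_lit 0,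
nat_lit 0, nat_lit 0x1d0e664ba07e9aefa1065f9e1bc545, nat_lit 0, nat_lit 0, nat_lit 0, nat_lit 0,
nat_lit 0, nat_lit 0, nat_lit 0]

theorem len6 : cd6.length = 729 := by decide +kernel

theorem hC6 : allZ (chkN ap bsL ixL yW 7) cd6 (729 * 6) = true := by decide +kernel

end Cfsg.Agent.TcChain36.O7C
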