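import Mathlib
import Cfsg.Agent.TcChain36.O7C.Tab

set_option autoImplicit false
set_option maxRecDepth 1000000
set_option linter.all false

namespace Cfsg.Agent.TcChain36.O7C

open Cfsg.Agent.Lib.OutTree36 Cfsg.Agent.Lib.PcClass36

set_option Elab.async false

/-- The certificates of a block. -/
def cd7 : List ℕ := [
nat_lit 0x22134cb2265035f685, nat_lit 0x2e001222291045d5a7121cecf00, nat_lit 0x18ecd9f4328523488e0acffb07057b, nat_lit 0x28e54712b0f3b792685afcd5bed3, nat_lit 0, nat_lit 0,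
nat_lit 0x82ece9a267679293a6e927a77c, nat_lit 0, nat_lit 0, nat_lit 0x15271bd2823da1c781, nat_lit 0x1d822354cbaafa8414a876ed8, nat_lit 0x5e1333e4dabf86332241509f935d,
nat_lit 0, nat_lit 0, nat_lit 0, nat_lit 0, nat_lit 0, nat_lit 0,
nat_lit 0x22a6cc58a38b447508, nat_lit 0xa729cb544fbd9f09d950a25, nat_lit 0x5e39915f4641a75d1dadf18d4faf, nat_lit 0, nat_lit 0, nat_lit 0,
nat_lit 0, nat_lit 0, nat_lit 0, nat_lit 0x1c6eb6a5c4593c70b46c63b43, nat_lit 0x128ea86ba1d4802b3ae6b57, nat_lit 0xcb6da49dde53a395cb6,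
nat_lit 0x5d915f9d7a7fbc263dd6a6d9, nat_lit 0, nat_lit 0, nat_lit 0x874814a641a9c4ba49ea05a1, nat_lit 0, nat_lit 0,
nat_lit 0, nat_lit 0, nat_lit 0, nat_lit 0, nat_lit 0, nat_lit 0,
nat_lit 0, nat_lit 0, nat_lit 0, nat_lit 0, nat_lit 0, nat_lit 0,
nat_lit 0, nat_lit 0, nat_lit 0, nat_lit 0, nat_lit 0, nat_lit 0,
nat_lit 0x1d734a54326b96a8a682dde1c, nat_lit 0x11b7844d45e444, nat_lit 0xfd36e9676eb26fe8dda40, nat_lit 0x3ee59f2b9ed5, nat_lit 0, nat_lit 0,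
nat_lit 0x10021674539ce6be739eb5ea4ef, nat_lit 0, nat_lit 0, nat_lit 0, nat_lit 0, nat_lit 0,
nat_lit 0, nat_lit 0, nat_lit 0, nat_lit 0, nat_lit 0, nat_lit 0,
nat_lit 0, nat_lit 0, nat_lit 0, nat_lit 0, nat_lit 0, nat_lit 0,
nat_lit 0, nat_lit 0, nat_lit 0, nat_lit 0x1e9ba04d57, nat_lit 0, nat_lit 0,
nat_lit 0xa702e5df77b1253f98d2b8d, nat_lit 0, nat_lit 0, nat_lit 0x19599c53b98c1d61037356b53, nat_lit 0x1f68a569d994edb5af6b47d8e2, nat_lit 0x68242c34f119d6756c7a3977dc3,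
nat_lit 0x5c9ee279494f, nat_lit 0, nat_lit 0, nat_lit 0, nat_lit 0, nat_lit 0,
nat_lit 0, nat_lit 0, nat_lit 0, nat_lit 0x377cfd51b, nat_lit 0, nat_lit 0,
nat_lit 0, nat_lit 0, nat_lit 0, nat_lit 0, nat_lit 0, nat_lit 0,
nat_lit 0x2f42873d29cd31156468967e6591, nat_lit 0, nat_lit 0, nat_lit 0xa2b452215011c9c04954f49, nat_lit 0, nat_lit 0,
nat_lit 0x19d574c4e6068872c65f51be5, nat_lit 0x751e33a3e0ee2e742268012d32, nat_lit 0x1cbfb18de3059465ec872716, nat_lit 0, nat_lit 0, nat_lit 0x6054c68704343122,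
nat_lit 0, nat_lit 0, nat_lit 0, nat_lit 0, nat_lit 0, nat_lit 0,
nat_lit 0, nat_lit 0x2e079009f5b15ff112b6e8f8c7f, nat_lit 0, nat_lit 0, nat_lit 0, nat_lit 0,
nat_lit 0, nat_lit 0, nat_lit 0, nat_lit 0xda9a02359ff, nat_lit 0, nat_lit 0,
nat_lit 0x212e30f405ee15ee5f3ee9c460, nat_lit 0, nat_lit 0, nat_lit 0x2843021597880, nat_lit 0x82de71983401c6520fdd08df20, nat_lit 0x51b48b75e2ac43d1971b042,
nat_lit 0, nat_lit 0x8055a767ab5234d1df315ef88f, nat_lit 0, nat_lit 0, nat_lit 0, nat_lit 0,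
nat_lit 0, nat_lit 0, nat_lit 0, nat_lit 0, nat_lit 0, nat_lit 0x117fe34e531,
nat_lit 0, nat_lit 0, nat_lit 0, nat_lit 0, nat_lit 0, nat_lit 0,
nat_lit 0xff084bdeb5ac294b763f4, nat_lit 0, nat_lit 0, nat_lit 0x1db4ec76da336ab3e5a526cd65, nat_lit 0, nat_lit 0,
nat_lit 0xb58de06608e3ba7b82a57f82f5, nat_lit 0x40a1eeda47a5fcec15cb4752, nat_lit 0x8055a767ab5234c076fa91ee3c, nat_lit 0xce9081c6b25dd629851, nat_lit 0, nat_lit 0,
nat_lit 0, nat_lit 0, nat_lit 0, nat_lit 0, nat_lit 0, nat_lit 0,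
nat_lit 0x2a4baec158cc92de4a820, nat_lit 0, nat_lit 0, nat_lit 0, nat_lit 0, nat_lit 0,
nat_lit 0, nat_lit 0, nat_lit 0, nat_lit 0x312def6bb86fe55308c7eeee3, nat_lit 0, nat_lit 0,
nat_lit 0x5b89e6dd7e7036d2f757f7c4, nat_lit 0, nat_lit 0, nat_lit 0x3305b81564588536eb903f6, nat_lit 0xf072e7364def45ea331852e, nat_lit 0x751e33b316b4cfec3f7c5a941a,
nat_lit 0, nat_lit 0x1d734a542ea1f266a92856d19, nat_lit 0, nat_lit 0, nat_lit 0, nat_lit 0,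
nat_lit 0, nat_lit 0, nat_lit 0, nat_lit 0, nat_lit 0, nat_lit 0x9237adc7,
nat_lit 0, nat_lit 0, nat_lit 0, nat_lit 0, nat_lit 0, nat_lit 0,
nat_lit 0x64f5d50d4e58af1169, nat_lit 0, nat_lit 0, nat_lit 0x1d9afe5edfd591923ee33742be, nat_lit 0, nat_lit 0,
nat_lit 0x3c94167edcfe67a8a, nat_lit 0x332a891c2efae46ac746fef, nat_lit 0x82e042a3846862f9259fd6afcb, nat_lit 0, nat_lit 0, nat_lit 0x361e67b331abccb44,
nat_lit 0, nat_lit 0, nat_lit 0, nat_lit 0, nat_lit 0, nat_lit 0,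
nat_lit 0, nat_lit 0x86980ac60a1f385a2e5ef492c110b1, nat_lit 0, nat_lit 0, nat_lit 0, nat_lit 0,
nat_lit 0, nat_lit 0, nat_lit 0, nat_lit 0x13bea621ef, nat_lit 0x1eb3d58c1335e06ec4fb4f, nat_lit 0x1f68a569d994ebbe28e305ced6,
nat_lit 0x249d351079c940eac7, nat_lit 0, nat_lit 0, nat_lit 0x34d667f005bfe919e0af08ac19621, nat_lit 0, nat_lit 0,
nat_lit 0x14d0103c161, nat_lit 0x7ae5279e3a7513fc, nat_lit 0x4997d487000ec8125a354e89cac, nat_lit 0, nat_lit 0, nat_lit 0,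
nat_lit 0, nat_lit 0, nat_lit 0, nat_lit 0x8d820cd, nat_lit 0x9161eb72ac69e20ec179827d5, nat_lit 0x2304ed3d62a470685,
nat_lit 0, nat_lit 0, nat_lit 0, nat_lit 0, nat_lit 0, nat_lit 0,
nat_lit 0x2968f515bce5052d58ab51a05bd1, nat_lit 0x68b0ecde4c05ba60d1405cc1, nat_lit 0xf8f88bb197dd48a2ed1e641638, nat_lit 0x412699482b7816c83, nat_lit 0, nat_lit 0,
nat_lit 0x1cc95ab51b53c66b69aa8a5b, nat_lit 0, nat_lit 0, nat_lit 0, nat_lit 0, nat_lit 0,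
nat_lit 0, nat_lit 0, nat_lit 0, nat_lit 0, nat_lit 0, nat_lit 0,
nat_lit 0, nat_lit 0, nat_lit 0, nat_lit 0, nat_lit 0, nat_lit 0,
nat_lit 0, nat_lit 0, nat_lit 0, nat_lit 0x1f95dba6655fcb9c716ad7, nat_lit 0x128bd2601851b988683b949, nat_lit 0x250e54a1fe61c2092ecbead4dafb,
nat_lit 0x2d8a395ed5e55525ce578517893b, nat_lit 0, nat_lit 0, nat_lit 0x68ddd6c40565b437be9733c3, nat_lit 0, nat_lit 0,
nat_lit 0, nat_lit 0, nat_lit 0, nat_lit 0, nat_lit 0, nat_lit 0,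
nat_lit 0, nat_lit 0, nat_lit 0, nat_lit 0, nat_lit 0, nat_lit 0,
nat_lit 0, nat_lit 0, nat_lit 0, nat_lit 0, nat_lit 0, nat_lit 0,
nat_lit 0xb3833a223dafe635f, nat_lit 0, nat_lit 0, nat_lit 0x33a4d99d71d2adfa8814d650af6f6, nat_lit 0, nat_lit 0,
nat_lit 0x90439d33bf29f3bd59, nat_lit 0x2e0cce585675200eb26d0f7da3c, nat_lit 0x20b6b798f3ec3d9737d20fe890, nat_lit 0x21f6e8c5312faceda, nat_lit 0, nat_lit 0,
nat_lit 0, nat_lit 0, nat_lit 0, nat_lit 0, nat_lit 0, nat_lit 0,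
nat_lit 0x1983557d4155e4f, nat_lit 0, nat_lit 0, nat_lit 0, nat_lit 0, nat_lit 0,
nat_lit 0, nat_lit 0, nat_lit 0, nat_lit 0xff0577bc87f3f653cd725, nat_lit 0, nat_lit 0,
nat_lit 0x1029f4745083f8c08a3ec05ec, nat_lit 0, nat_lit 0, nat_lit 0x16638b2234b1eb51d40185, nat_lit 0x26df94f1a836e7f457, nat_lit 0x82de727bbf424339ce61cf2930,
nat_lit 0, nat_lit 0, nat_lit 0x48584898c6daf85d1, nat_lit 0, nat_lit 0, nat_lit 0,
nat_lit 0, nat_lit 0, nat_lit 0, nat_lit 0, nat_lit 0xe8ab39cf6d48829bccadf49c9, nat_lit 0,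
nat_lit 0, nat_lit 0, nat_lit 0, nat_lit 0, nat_lit 0, nat_lit 0,
nat_lit 0x492776347f789182752b4078054, nat_lit 0, nat_lit 0, nat_lit 0x5b43c143fbac7da7ecb3440f, nat_lit 0, nat_lit 0,
nat_lit 0xa6a4ac15052b4d5acb5a57b, nat_lit 0x2da564c34618528d9883, nat_lit 0x50f46ed7dec0f76da987ef0bd93, nat_lit 0, nat_lit 0x8e5bb22f473c864, nat_lit 0,
nat_lit 0, nat_lit 0, nat_lit 0, nat_lit 0, nat_lit 0, nat_lit 0,
nat_lit 0, nat_lit 0, nat_lit 0x5081e0e38f556, nat_lit 0, nat_lit 0, nat_lit 0,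
nat_lit 0, nat_lit 0, nat_lit 0, nat_lit 0x3f6ce554e80d2e025, nat_lit 0, nat_lit 0,
nat_lit 0x3315fb1d703f14ad09d8ed0, nat_lit 0, nat_lit 0, nat_lit 0x41e10467a7ad38dc3f7600431af, nat_lit 0x3104f27d9abedce0dbceaa2a, nat_lit 0x394e907e3a7039fbe035b0a55,
nat_lit 0xb30f43d3220da2, nat_lit 0, nat_lit 0, nat_lit 0, nat_lit 0, nat_lit 0,
nat_lit 0, nat_lit 0, nat_lit 0, nat_lit 0x9e6e939d, nat_lit 0, nat_lit 0,
nat_lit 0, nat_lit 0, nat_lit 0, nat_lit 0, nat_lit 0, nat_lit 0,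
nat_lit 0x319cec963892090882370b4e6c0d7, nat_lit 0, nat_lit 0, nat_lit 0xb58deb09f8bffb7ea64ebea04a, nat_lit 0, nat_lit 0,
nat_lit 0xd47dab29cec, nat_lit 0x3a1ba0e8fb850f40595d, nat_lit 0xa6a4ac657ab866df5b815d2, nat_lit 0, nat_lit 0x499d1fe59d40ff720a968b4bf83, nat_lit 0,
nat_lit 0, nat_lit 0, nat_lit 0, nat_lit 0, nat_lit 0, nat_lit 0,
nat_lit 0, nat_lit 0, nat_lit 0xa15ae9b57da07de09cc50, nat_lit 0, nat_lit 0, nat_lit 0,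
nat_lit 0, nat_lit 0, nat_lit 0, nat_lit 0x51f12c87560ddb85e8d3d87c42, nat_lit 0, nat_lit 0,
nat_lit 0x433bc669a6116, nat_lit 0, nat_lit 0, nat_lit 0x82de727bbf42434b12e6de4db8, nat_lit 0x67875e18e14312038e0b5679843, nat_lit 0x322da4c5e6857d121a46d9a,
nat_lit 0, nat_lit 0, nat_lit 0xcee36e508ef64cdb79a, nat_lit 0, nat_lit 0, nat_lit 0,
nat_lit 0, nat_lit 0, nat_lit 0, nat_lit 0, nat_lit 0x5e76304b396a3ae13403afbe, nat_lit 0,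
nat_lit 0, nat_lit 0, nat_lit 0, nat_lit 0, nat_lit 0, nat_lit 0,
nat_lit 0x6108f547ee04ceaf967d, nat_lit 0x6484d3e8f4eb236bb0698abf, nat_lit 0x8fede709c91c3ea257779488d3, nat_lit 0x64f60746d9d21a1298, nat_lit 0, nat_lit 0,
nat_lit 0x149197051e85dcfeebcb9a9a22, nat_lit 0, nat_lit 0, nat_lit 0x24591128cf9da14b9, nat_lit 0x10307561eadd916219bcf8b50, nat_lit 0x8903f9725270395ab99359f,
nat_lit 0, nat_lit 0, nat_lit 0, nat_lit 0, nat_lit 0, nat_lit 0,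
nat_lit 0xf39549b5a333d7bde09c25, nat_lit 0x3a38eb0c6f0f6e6019c1, nat_lit 0x1145282aaf22c29ab5bfd13, nat_lit 0, nat_lit 0, nat_lit 0,
nat_lit 0, nat_lit 0, nat_lit 0, nat_lit 0x1d8187a7c46ad3694135078f2, nat_lit 0x41039e8a546a0c9eed876c89, nat_lit 0x8ff07ca462dd091ee508f4bd8a,
nat_lit 0x3d1ccd7f4eabc3e7873ca, nat_lit 0, nat_lit 0, nat_lit 0xb58dd740545d08c57d04401537, nat_lit 0, nat_lit 0,
nat_lit 0, nat_lit 0, nat_lit 0, nat_lit 0, nat_lit 0, nat_lit 0,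
nat_lit 0, nat_lit 0, nat_lit 0, nat_lit 0, nat_lit 0, nat_lit 0,
nat_lit 0, nat_lit 0, nat_lit 0, nat_lit 0, nat_lit 0, nat_lit 0,
nat_lit 0x5d13e16f3f5603ff57bcba4, nat_lit 0x68d68aa97ec8ee3dc055137d, nat_lit 0x491d8f1839c7fe636ae2950, nat_lit 0x41e096755274e72599d9efaab1c, nat_lit 0, nat_lit 0,
nat_lit 0x19ef0f0819af6682fc41d560db16, nat_lit 0, nat_lit 0, nat_lit 0, nat_lit 0, nat_lit 0,
nat_lit 0, nat_lit 0, nat_lit 0, nat_lit 0, nat_lit 0, nat_lit 0,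
nat_lit 0, nat_lit 0, nat_lit 0, nat_lit 0, nat_lit 0, nat_lit 0,
nat_lit 0, nat_lit 0, nat_lit 0, nat_lit 0x1fde67896ff91344d, nat_lit 0, nat_lit 0,
nat_lit 0x91b93da26aed09882893d29cf, nat_lit 0, nat_lit 0, nat_lit 0x8055a767db713290249da092eb, nat_lit 0x1d734a54337719ab5b5686aec, nat_lit 0x1701e80295337285c60a29c773785,
nat_lit 0x83bcbb8114bb, nat_lit 0, nat_lit 0, nat_lit 0, nat_lit 0, nat_lit 0,
nat_lit 0, nat_lit 0, nat_lit 0, nat_lit 0x6af8c99159b2, nat_lit 0, nat_lit 0,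
nat_lit 0, nat_lit 0, nat_lit 0, nat_lit 0, nat_lit 0, nat_lit 0,
nat_lit 0x23dcd2aae09ec64fe1f479de9, nat_lit 0, nat_lit 0, nat_lit 0x9011ee2bab9fed4dec7f8b3d130, nat_lit 0, nat_lit 0,
nat_lit 0x2e9bab, nat_lit 0x51b369b0ca6ee6139efdb2d, nat_lit 0x48b4d84ce4d479cc62d93dc8fef, nat_lit 0, nat_lit 0, nat_lit 0x362fafb526cab4e1c,
nat_lit 0, nat_lit 0, nat_lit 0, nat_lit 0, nat_lit 0, nat_lit 0,
nat_lit 0, nat_lit 0x1f8efec658b8501deab33bbfc6, nat_lit 0, nat_lit 0, nat_lit 0, nat_lit 0,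
nat_lit 0, nat_lit 0, nat_lit 0, nat_lit 0x3297fb1e392b6f62a578e7e5d, nat_lit 0, nat_lit 0,
nat_lit 0x3f6cdac21cb666715, nat_lit 0, nat_lit 0, nat_lit 0x250e8e5ba89d49406b8e3fd8bafa, nat_lit 0xf8f88bb3488d3b93e7aa6ccb99, nat_lit 0x4676ac37a8ae23a1d0f46dce1955,
nat_lit 0, nat_lit 0x1da8b6613727513635a744e7b1, nat_lit 0, nat_lit 0, nat_lit 0, nat_lit 0,
nat_lit 0, nat_lit 0, nat_lit 0, nat_lit 0, nat_lit 0, nat_lit 0x258db73e8f,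
nat_lit 0, nat_lit 0, nat_lit 0, nat_lit 0, nat_lit 0, nat_lit 0,
nat_lit 0x2718b0718a8df91959, nat_lit 0, nat_lit 0, nat_lit 0xa341f5d8cffdd27c7cbe9bc1bfb, nat_lit 0, nat_lit 0,
nat_lit 0x84a838b3, nat_lit 0x491dc02f4bd4df13f2396d9, nat_lit 0xe6213e2a9e3b4cf499b18, nat_lit 0x30d5a0fb79261bb13c074, nat_lit 0, nat_lit 0,
nat_lit 0, nat_lit 0, nat_lit 0, nat_lit 0, nat_lit 0, nat_lit 0,
nat_lit 0x27d774e4732b4189a7, nat_lit 0, nat_lit 0, nat_lit 0, nat_lit 0, nat_lit 0,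
nat_lit 0, nat_lit 0, nat_lit 0, nat_lit 0x1575ec2763b9d991b54, nat_lit 0, nat_lit 0,
nat_lit 0x576947c35aede593097c2a6e, nat_lit 0, nat_lit 0, nat_lit 0x491dc2f3168c0a313315522, nat_lit 0x9e07282c4138ebdc34c912b, nat_lit 0x1d734a542e97a1049134d4a3a,
nat_lit 0, nat_lit 0xe5c9c80f80b11b0159c1b0b6a, nat_lit 0, nat_lit 0, nat_lit 0, nat_lit 0,
nat_lit 0, nat_lit 0, nat_lit 0, nat_lit 0, nat_lit 0, nat_lit 0x196790275f70401,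
nat_lit 0, nat_lit 0, nat_lit 0, nat_lit 0, nat_lit 0, nat_lit 0,
nat_lit 0x1d7cef787a327ceb04d9b1ea3, nat_lit 0, nat_lit 0, nat_lit 0x544e60e01be619278ed7a0586d5d, nat_lit 0, nat_lit 0,
nat_lit 0x82de727bbf424369bb13539f32, nat_lit 0xe40d8994a2d812fdd4, nat_lit 0x1d8187a7c46ad374aa214f171, nat_lit 0, nat_lit 0, nat_lit 0x482846c4716fa1af0882,
nat_lit 0, nat_lit 0, nat_lit 0, nat_lit 0, nat_lit 0, nat_lit 0,
nat_lit 0, nat_lit 0x24d0d91a4d701fec4f, nat_lit 0, nat_lit 0, nat_lit 0, nat_lit 0,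
nat_lit 0, nat_lit 0, nat_lit 0]

theorem len7 : cd7.length = 729 := by decide +kernel

theorem hC7 : allZ (chkN ap bsL ixL yW 7) cd7 (729 * 7) = true := by decide +kernel

end Cfsg.Agent.TcChain36.O7C
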