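import Mathlib
import Cfsg.Agent.TcChain36.O7C.Tab

set_option autoImplicit false
set_option maxRecDepth 1000000
set_option linter.all false

namespace Cfsg.Agent.TcChain36.O7C

open Cfsg.Agent.Lib.OutTree36 Cfsg.Agent.Lib.PcClass36

set_option Elab.async false

/-- The certificates of a block. -/
def cd8 : List ℕ := [
nat_lit 0x2381d6887, nat_lit 0x8c0bce93e56c951506c1a402bf5, nat_lit 0x2d1115ea56cf8ff3b2d159f5, nat_lit 0x1cc95ab51b53c66b69ab4d74, nat_lit 0, nat_lit 0,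
nat_lit 0x8140165aadac9c4799246da19f, nat_lit 0, nat_lit 0, nat_lit 0x1c6109611160715d8, nat_lit 0x350061c59784ee2460b2133a295cd, nat_lit 0x5403a325bdf1d75dcd886cf7b06,
nat_lit 0, nat_lit 0, nat_lit 0, nat_lit 0, nat_lit 0, nat_lit 0,
nat_lit 0x1536caf8e8b1ac9b86, nat_lit 0x34eacd30baf246491da084d35350d, nat_lit 0x53f946b560e039212947826ad71, nat_lit 0, nat_lit 0, nat_lit 0,
nat_lit 0, nat_lit 0, nat_lit 0, nat_lit 0x5ab4d57b5d0f25b6f81ce7, nat_lit 0xd035b62b9d7eec57ba6b6dded, nat_lit 0x34e43e42e2e9e9c4b3f85ef41,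
nat_lit 0xac81b3b99907fac38a1, nat_lit 0, nat_lit 0, nat_lit 0x5b89e6dd7e7036d2f757f7c3, nat_lit 0, nat_lit 0,
nat_lit 0, nat_lit 0, nat_lit 0, nat_lit 0, nat_lit 0, nat_lit 0,
nat_lit 0, nat_lit 0, nat_lit 0, nat_lit 0, nat_lit 0, nat_lit 0,
nat_lit 0, nat_lit 0, nat_lit 0, nat_lit 0, nat_lit 0, nat_lit 0,
nat_lit 0x345b2ece93a0623fa146c524, nat_lit 0x1cc7ed1fda6d207c101805b1, nat_lit 0xa7f550d1a9ba142ec0f98661ada, nat_lit 0x4ec24af5a01a9827f55f9e48d4f6, nat_lit 0, nat_lit 0,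
nat_lit 0x5ac95a03e8334550135, nat_lit 0, nat_lit 0, nat_lit 0, nat_lit 0, nat_lit 0,
nat_lit 0, nat_lit 0, nat_lit 0, nat_lit 0, nat_lit 0, nat_lit 0,
nat_lit 0, nat_lit 0, nat_lit 0, nat_lit 0, nat_lit 0, nat_lit 0,
nat_lit 0, nat_lit 0, nat_lit 0, nat_lit 0x63c1e8924caf058, nat_lit 0, nat_lit 0,
nat_lit 0x250e91030288ea4d0a2d6196e597, nat_lit 0x2920b92f3878f9890cc43390, nat_lit 0x8c0bce4c5ad730661bdd56667dd, nat_lit 0xb9236cc1e07801c76eca56ee10, nat_lit 0, nat_lit 0,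
nat_lit 0x13b485c1322d0c, nat_lit 0, nat_lit 0, nat_lit 0, nat_lit 0, nat_lit 0,
nat_lit 0, nat_lit 0, nat_lit 0, nat_lit 0x363723da5ea434af6, nat_lit 0, nat_lit 0,
nat_lit 0, nat_lit 0, nat_lit 0, nat_lit 0, nat_lit 0, nat_lit 0,
nat_lit 0x2acdce889ac6b73ef12bab934a, nat_lit 0, nat_lit 0, nat_lit 0xffe46bd3e7231ff657cf81532, nat_lit 0x14988e259cf1e368f28, nat_lit 0x56b0140b05c1fe044100,
nat_lit 0xa2bc4517fd39450545f1b8d, nat_lit 0, nat_lit 0, nat_lit 0, nat_lit 0, nat_lit 0x361e08976c80ca442,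
nat_lit 0, nat_lit 0, nat_lit 0, nat_lit 0, nat_lit 0, nat_lit 0,
nat_lit 0, nat_lit 0x1e711a56afe1dfe131, nat_lit 0, nat_lit 0, nat_lit 0, nat_lit 0,
nat_lit 0, nat_lit 0, nat_lit 0, nat_lit 0xe5a412879bd594d, nat_lit 0, nat_lit 0,
nat_lit 0x16a5b12c253c76, nat_lit 0x1ba9d6cb56ba411151015911ca, nat_lit 0x2df58e724f817f453932f645, nat_lit 0x1da8aee07dbb9effab3c4d77e8, nat_lit 0, nat_lit 0,
nat_lit 0, nat_lit 0x45a65f2774969aac9, nat_lit 0, nat_lit 0, nat_lit 0, nat_lit 0,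
nat_lit 0, nat_lit 0, nat_lit 0, nat_lit 0, nat_lit 0, nat_lit 0x19e00a3336904e648ae05cbae5c0,
nat_lit 0, nat_lit 0, nat_lit 0, nat_lit 0, nat_lit 0, nat_lit 0,
nat_lit 0xdfa2ca383c1337ae02, nat_lit 0, nat_lit 0, nat_lit 0x751e3c15814db1136edaeb6d8e, nat_lit 0x8c0bce93e56c94bce73090c7bf8, nat_lit 0x65eb8d4fbce3835aea69fb2d,
nat_lit 0x28e54712b0f3b9507c77aeb513d3, nat_lit 0, nat_lit 0, nat_lit 0x1956d5c2276ac0e60c, nat_lit 0, nat_lit 0,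
nat_lit 0, nat_lit 0, nat_lit 0, nat_lit 0, nat_lit 0, nat_lit 0,
nat_lit 0x2de872e2ec4b9d7b21b9a719, nat_lit 0, nat_lit 0, nat_lit 0, nat_lit 0, nat_lit 0,
nat_lit 0, nat_lit 0, nat_lit 0, nat_lit 0xd0346ce7bbe991b8715f005fc, nat_lit 0, nat_lit 0,
nat_lit 0x576e1b6a2b7197b00f9c5373, nat_lit 0x6577aa51d43f28887c67, nat_lit 0x6ebb9003ad0b647b308f, nat_lit 0x5b856e32bd0a017c293f2e25, nat_lit 0, nat_lit 0,
nat_lit 0, nat_lit 0x5ac054c1e4b3a6634d7, nat_lit 0, nat_lit 0, nat_lit 0, nat_lit 0,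
nat_lit 0, nat_lit 0, nat_lit 0, nat_lit 0, nat_lit 0, nat_lit 0x1c7f223677ef00bd7,
nat_lit 0, nat_lit 0, nat_lit 0, nat_lit 0, nat_lit 0, nat_lit 0,
nat_lit 0xa2b452214fb9aa4921d8c73, nat_lit 0, nat_lit 0, nat_lit 0x10078340b5eff5e49b, nat_lit 0x1cc7ed1fda6d317f8b33d38a, nat_lit 0x499e257bfa7ab77470cd41bfc97,
nat_lit 0x149197051e855e03d3ad2e3c2b, nat_lit 0, nat_lit 0, nat_lit 0, nat_lit 0, nat_lit 0x49a542abc622c29b9355598d898,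
nat_lit 0, nat_lit 0, nat_lit 0, nat_lit 0, nat_lit 0, nat_lit 0,
nat_lit 0, nat_lit 0xb986b173f07aabded81, nat_lit 0, nat_lit 0, nat_lit 0, nat_lit 0,
nat_lit 0, nat_lit 0, nat_lit 0, nat_lit 0x51260877990ecc17ea7, nat_lit 0x1cbfb1933e4b55eb6edc5fae, nat_lit 0x8e6ee349802d3aecc07d32,
nat_lit 0x68226262eac16dc5ca351a6d13e, nat_lit 0, nat_lit 0, nat_lit 0xa703fb59ad33a9f325891cd, nat_lit 0, nat_lit 0,
nat_lit 0x1b10966983d7e8ab63547b, nat_lit 0xe5c9c80f7049d095cea5a9e2d, nat_lit 0x67819eb99e8049a2781, nat_lit 0, nat_lit 0, nat_lit 0,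
nat_lit 0, nat_lit 0, nat_lit 0, nat_lit 0x24595be9d941980fb, nat_lit 0x11f29eda1be36edc6199e, nat_lit 0x1db517c8231dd05233b67b7c90,
nat_lit 0, nat_lit 0, nat_lit 0, nat_lit 0, nat_lit 0, nat_lit 0,
nat_lit 0x751e3c162fb71610a73eff87f6, nat_lit 0x2920b77f0d7e6ebe1f9997b3, nat_lit 0xd035b13e615d52e5ca33a820a, nat_lit 0x24910c7ae0edfaa8bfa2db09d, nat_lit 0, nat_lit 0,
nat_lit 0x27cd695a38f7b9a65da27, nat_lit 0, nat_lit 0, nat_lit 0, nat_lit 0, nat_lit 0,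
nat_lit 0, nat_lit 0, nat_lit 0, nat_lit 0, nat_lit 0, nat_lit 0,
nat_lit 0, nat_lit 0, nat_lit 0, nat_lit 0, nat_lit 0, nat_lit 0,
nat_lit 0, nat_lit 0, nat_lit 0, nat_lit 0x345b2ece9286612bd2aef562, nat_lit 0x10e47d6149e34d18c03, nat_lit 0x56d7cfc5d790520df77a,
nat_lit 0x3afcc8ce4309355f5b350d1aa, nat_lit 0, nat_lit 0, nat_lit 0x955fbec1525cce808ff4f939a2, nat_lit 0, nat_lit 0,
nat_lit 0, nat_lit 0, nat_lit 0, nat_lit 0, nat_lit 0, nat_lit 0,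
nat_lit 0, nat_lit 0, nat_lit 0, nat_lit 0, nat_lit 0, nat_lit 0,
nat_lit 0, nat_lit 0, nat_lit 0, nat_lit 0, nat_lit 0, nat_lit 0,
nat_lit 0x42c558102cbfe37b5, nat_lit 0, nat_lit 0, nat_lit 0x13562f69cdf40db13ed2b2e, nat_lit 0x2920a07da0807f87b4ae7c22, nat_lit 0x345b2ece89e99f2ae32a89fb,
nat_lit 0x1cbc5d408f237ba1558a527b, nat_lit 0, nat_lit 0, nat_lit 0x1967b1915f6c428, nat_lit 0, nat_lit 0,
nat_lit 0, nat_lit 0, nat_lit 0, nat_lit 0, nat_lit 0, nat_lit 0,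
nat_lit 0x9a5752770514d577e51, nat_lit 0, nat_lit 0, nat_lit 0, nat_lit 0, nat_lit 0,
nat_lit 0, nat_lit 0, nat_lit 0, nat_lit 0x332d1309142327db6677e73, nat_lit 0, nat_lit 0,
nat_lit 0x2c163576aaf300, nat_lit 0x5e0198bd4c98a974016d7bff, nat_lit 0x346ca4c9ba2864f15bcadcb4, nat_lit 0xb58dea810be36ec159e5341e10, nat_lit 0, nat_lit 0,
nat_lit 0, nat_lit 0, nat_lit 0x751dd016759b8f21f86616540b, nat_lit 0, nat_lit 0, nat_lit 0,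
nat_lit 0, nat_lit 0, nat_lit 0, nat_lit 0, nat_lit 0xd1678f4a7a1e766d091cf92b6de9a, nat_lit 0,
nat_lit 0, nat_lit 0, nat_lit 0, nat_lit 0, nat_lit 0, nat_lit 0,
nat_lit 0x5b43c143fbac7da7ecb3440e, nat_lit 0, nat_lit 0, nat_lit 0x37106d03f5c5de78f6f69abd8, nat_lit 0x19ad08aa85b5e76eb6cba, nat_lit 0x196e72d07442fa7d28123cbf431d,
nat_lit 0x18d9330d638d8f46b8, nat_lit 0, nat_lit 0, nat_lit 0, nat_lit 0x7af76f30f8da8136c09, nat_lit 0,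
nat_lit 0, nat_lit 0, nat_lit 0, nat_lit 0, nat_lit 0, nat_lit 0,
nat_lit 0, nat_lit 0, nat_lit 0x63bba90868cb1f0709b, nat_lit 0, nat_lit 0, nat_lit 0,
nat_lit 0, nat_lit 0, nat_lit 0, nat_lit 0x2457bb8d4bdb3e0e7, nat_lit 0, nat_lit 0,
nat_lit 0x149ea07df6d48fd5321, nat_lit 0x91b4207141ca277c2fde2868d, nat_lit 0x1cc7dafaa809c6578d23306c, nat_lit 0x1214eb3b88c3f6d1e09e7c6, nat_lit 0, nat_lit 0,
nat_lit 0x258f074bba1e9417c8, nat_lit 0, nat_lit 0, nat_lit 0, nat_lit 0, nat_lit 0,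
nat_lit 0, nat_lit 0, nat_lit 0, nat_lit 0x77229d9a00f, nat_lit 0, nat_lit 0,
nat_lit 0, nat_lit 0, nat_lit 0, nat_lit 0, nat_lit 0, nat_lit 0,
nat_lit 0x26269324a587ae01ad, nat_lit 0, nat_lit 0, nat_lit 0x576e1b1d9cbcd05d60914af5, nat_lit 0xc4b9d5afa308493874f, nat_lit 0x8c0bce93e56c78dba561184c567,
nat_lit 0x12a9fb894355ec5615936383482, nat_lit 0, nat_lit 0, nat_lit 0, nat_lit 0x2626c553db35803d6f, nat_lit 0,
nat_lit 0, nat_lit 0, nat_lit 0, nat_lit 0, nat_lit 0, nat_lit 0,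
nat_lit 0, nat_lit 0, nat_lit 0xe8a7e663eaadd2361e7f4fbb6, nat_lit 0, nat_lit 0, nat_lit 0,
nat_lit 0, nat_lit 0, nat_lit 0, nat_lit 0x369206a130474e03459e5, nat_lit 0, nat_lit 0,
nat_lit 0x10b5dd6093c0c538acef4691464, nat_lit 0x2492254bd4d78f15eb6f16205, nat_lit 0x1f8e52ab5f2bdce76a650, nat_lit 0x51ba592dc40434caaaeeb43035, nat_lit 0, nat_lit 0,
nat_lit 0, nat_lit 0, nat_lit 0x64b89626c32b89d, nat_lit 0, nat_lit 0, nat_lit 0,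
nat_lit 0, nat_lit 0, nat_lit 0, nat_lit 0, nat_lit 0xba34a273a433a495e1cf95a, nat_lit 0,
nat_lit 0, nat_lit 0, nat_lit 0, nat_lit 0, nat_lit 0, nat_lit 0,
nat_lit 0x284bd89755eaa7c02f, nat_lit 0x11aadd0b878fa26c1d49311d9f0, nat_lit 0x120f1c40367479df89a9411, nat_lit 0x51ba592dc40433b41953c5785b, nat_lit 0, nat_lit 0,
nat_lit 0x1644be34e2d6448, nat_lit 0, nat_lit 0, nat_lit 0x36371255cebaa3f4a, nat_lit 0x2d5b4290ede74d, nat_lit 0x1cb7b016a6cc394b9b27cd3b,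
nat_lit 0, nat_lit 0, nat_lit 0, nat_lit 0, nat_lit 0, nat_lit 0,
nat_lit 0x14d0103c088, nat_lit 0x1dccf95e18a2133d78797a9278, nat_lit 0x42218c27266d8, nat_lit 0, nat_lit 0, nat_lit 0,
nat_lit 0, nat_lit 0, nat_lit 0, nat_lit 0x345b2ece8e150f4b7452a125, nat_lit 0x8c0bcec12f5e91efefd6d37d7cb, nat_lit 0x28e5b9ab40b632cffa7c800d4f00,
nat_lit 0x12a1316e747bf89610cf04f46df, nat_lit 0, nat_lit 0, nat_lit 0x2477b002c6edb3c097, nat_lit 0, nat_lit 0,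
nat_lit 0, nat_lit 0, nat_lit 0, nat_lit 0, nat_lit 0, nat_lit 0,
nat_lit 0, nat_lit 0, nat_lit 0, nat_lit 0, nat_lit 0, nat_lit 0,
nat_lit 0, nat_lit 0, nat_lit 0, nat_lit 0, nat_lit 0, nat_lit 0,
nat_lit 0x250e927ad751a71b0f3bc4fdb859, nat_lit 0x112516985144d65eacd, nat_lit 0xa15479a5953f2d5d17, nat_lit 0x9625f5507c85da6f5885f0b5e8c, nat_lit 0, nat_lit 0,
nat_lit 0x11e3b5a8582588c9410453a53d3, nat_lit 0, nat_lit 0, nat_lit 0, nat_lit 0, nat_lit 0,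
nat_lit 0, nat_lit 0, nat_lit 0, nat_lit 0, nat_lit 0, nat_lit 0,
nat_lit 0, nat_lit 0, nat_lit 0, nat_lit 0, nat_lit 0, nat_lit 0,
nat_lit 0, nat_lit 0, nat_lit 0, nat_lit 0xba6def956012e3fcb321b12, nat_lit 0, nat_lit 0,
nat_lit 0x10078340b5eff59262, nat_lit 0x11bfbf0c151097caf38cbf, nat_lit 0xe8ab2122b28b7515601739805, nat_lit 0x9fe5b3ca8aec7bd3e353cc5, nat_lit 0, nat_lit 0,
nat_lit 0x2c2973f5c4f60a346, nat_lit 0, nat_lit 0, nat_lit 0, nat_lit 0, nat_lit 0,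
nat_lit 0, nat_lit 0, nat_lit 0, nat_lit 0x1536caf8793e9970ee, nat_lit 0, nat_lit 0,
nat_lit 0, nat_lit 0, nat_lit 0, nat_lit 0, nat_lit 0, nat_lit 0,
nat_lit 0x46c281fbb85bceed2807, nat_lit 0, nat_lit 0, nat_lit 0x50b19cfe0e95b4f3dd86840, nat_lit 0x5adc3f28d45ba6f7f33d7a, nat_lit 0x874895641234d0449f1f86e1,
nat_lit 0x23dcd2c5eb9adc583a228e09f, nat_lit 0, nat_lit 0, nat_lit 0, nat_lit 0, nat_lit 0x14a0275cab8525355f3af6d,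
nat_lit 0, nat_lit 0, nat_lit 0, nat_lit 0, nat_lit 0, nat_lit 0,
nat_lit 0, nat_lit 0x2ce66e94adde0e8bb, nat_lit 0, nat_lit 0, nat_lit 0, nat_lit 0,
nat_lit 0, nat_lit 0, nat_lit 0, nat_lit 0x19b0728d582550294b142a4c8, nat_lit 0, nat_lit 0,
nat_lit 0x5e7c8966e45420c8fa2e5014308e, nat_lit 0x48302e2a6b6939c24b463d9a272, nat_lit 0x7d44c068c24d4ddff87ffc6dd39, nat_lit 0x5a927f1883b6372de668df83a81a, nat_lit 0, nat_lit 0,
nat_lit 0, nat_lit 0x13e91b79bd9a6a709, nat_lit 0, nat_lit 0, nat_lit 0, nat_lit 0,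
nat_lit 0, nat_lit 0, nat_lit 0, nat_lit 0, nat_lit 0, nat_lit 0xda65db18e8,
nat_lit 0, nat_lit 0, nat_lit 0, nat_lit 0, nat_lit 0, nat_lit 0,
nat_lit 0x482846affc86417f5e75, nat_lit 0, nat_lit 0, nat_lit 0x1fda5dee37db2de723d7, nat_lit 0x24907a1fd79e12dba3f9e3b8d, nat_lit 0x743138125519ed9e7b8b,
nat_lit 0x10b86b75d45d5d0ddb73ff22ee2, nat_lit 0, nat_lit 0, nat_lit 0xb331f85e2e4750fcb, nat_lit 0, nat_lit 0,
nat_lit 0, nat_lit 0, nat_lit 0, nat_lit 0, nat_lit 0, nat_lit 0,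
nat_lit 0x4173538fd7fa3aec4, nat_lit 0, nat_lit 0, nat_lit 0, nat_lit 0, nat_lit 0,
nat_lit 0, nat_lit 0, nat_lit 0, nat_lit 0x1c65d24e5c84cfeffab59, nat_lit 0, nat_lit 0,
nat_lit 0xc4c76a28810445, nat_lit 0x28e5b9ab40b78482f797bf7ea599, nat_lit 0x53dd4ea9b5c94f7c00e41eb7520, nat_lit 0xa702e5df77b1253f987c9ba, nat_lit 0, nat_lit 0,
nat_lit 0, nat_lit 0xfd36e9671cc5aa4048846, nat_lit 0, nat_lit 0, nat_lit 0, nat_lit 0,
nat_lit 0, nat_lit 0, nat_lit 0, nat_lit 0, nat_lit 0, nat_lit 0x499e257bfa7ab530c6e9931dd90,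
nat_lit 0, nat_lit 0, nat_lit 0, nat_lit 0, nat_lit 0, nat_lit 0,
nat_lit 0x576947be9f7e38f1367d95d5, nat_lit 0, nat_lit 0, nat_lit 0xe8a7e7f87075cd2dbe5b3f543, nat_lit 0x7dc20b5980cf523e46b, nat_lit 0x40cd5be789c0cafdcb60f3e8,
nat_lit 0x1c7f24292345a0c3e, nat_lit 0, nat_lit 0, nat_lit 0, nat_lit 0, nat_lit 0xba1e16e0c9da43ce88976fc,
nat_lit 0, nat_lit 0, nat_lit 0, nat_lit 0, nat_lit 0, nat_lit 0,
nat_lit 0, nat_lit 0x40bb03ad97, nat_lit 0, nat_lit 0, nat_lit 0, nat_lit 0,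
nat_lit 0, nat_lit 0, nat_lit 0]

theorem len8 : cd8.length = 729 := by decide +kernel

theorem hC8 : allZ (chkN ap bsL ixL yW 7) cd8 (729 * 8) = true := by decide +kernel

end Cfsg.Agent.TcChain36.O7C
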