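import Mathlib
import Cfsg.Agent.TcChain36.O7C.Tab

set_option autoImplicit false
set_option maxRecDepth 1000000
set_option linter.all false

namespace Cfsg.Agent.TcChain36.O7C

open Cfsg.Agent.Lib.OutTree36 Cfsg.Agent.Lib.PcClass36

set_option Elab.async false

/-- The certificates of a block. -/
def cd9 : List ℕ := [
nat_lit 0x3235257d31, nat_lit 0x28a1c4326e7140e596, nat_lit 0x6484d3e8f4eeb0771f44c1b2, nat_lit 0x86f80b29, nat_lit 0x48302e2a6b6939c24b463ec8be7, nat_lit 0x81fc09638aca71a271e6f6,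
nat_lit 0x3704f6, nat_lit 0x51b36922bc76a07bb9e6433, nat_lit 0x10275b1ad60d588dff3f8730c, nat_lit 0x26754cc29c2f23, nat_lit 0x491dc02f4bd4df13f116e16, nat_lit 0x53f37338d6d1db3ee48c0752209,
nat_lit 0, nat_lit 0, nat_lit 0, nat_lit 0, nat_lit 0, nat_lit 0,
nat_lit 0x9e0f1b22c62594d5c25da06, nat_lit 0x80cd81020ba4bf6442f8fb0162, nat_lit 0x9e07282c428afb3339fa855, nat_lit 0, nat_lit 0, nat_lit 0,
nat_lit 0, nat_lit 0, nat_lit 0, nat_lit 0x327c208b5138d0c48305, nat_lit 0x8172b42eeae4f59010f362, nat_lit 0x809cf2ee8784f922,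
nat_lit 0x58eb99f347f6eb8aa0b, nat_lit 0x81418088b340c9c81102a93bc2, nat_lit 0x499e257bfa7969f8a3245236239, nat_lit 0x1ff0e20a81ea1d76c76c, nat_lit 0x1d8187a7c46ad36b2efc29672, nat_lit 0x51f5523fb501028d3536ca737f,
nat_lit 0, nat_lit 0, nat_lit 0, nat_lit 0, nat_lit 0, nat_lit 0,
nat_lit 0, nat_lit 0, nat_lit 0, nat_lit 0, nat_lit 0, nat_lit 0,
nat_lit 0, nat_lit 0, nat_lit 0, nat_lit 0, nat_lit 0, nat_lit 0,
nat_lit 0x1805619381e, nat_lit 0x41734913e4e21bd6a, nat_lit 0x63bd9d501b93f3d3584796c5, nat_lit 0x1c30493, nat_lit 0x91b3c4c1e51d09c17aabf2e48, nat_lit 0xe73407ec4aa99b847efc2af13,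
nat_lit 0x1d3ade, nat_lit 0x289b19f7cd3502b6679e9f13b996, nat_lit 0x9b6e69682be9d143f6977bc, nat_lit 0, nat_lit 0, nat_lit 0,
nat_lit 0, nat_lit 0, nat_lit 0, nat_lit 0, nat_lit 0, nat_lit 0,
nat_lit 0, nat_lit 0, nat_lit 0, nat_lit 0, nat_lit 0, nat_lit 0,
nat_lit 0, nat_lit 0, nat_lit 0, nat_lit 0xdc9dbf20ea83117, nat_lit 0, nat_lit 0,
nat_lit 0x25b6be2b4e6f207bd, nat_lit 0, nat_lit 0, nat_lit 0x192f891bde, nat_lit 0, nat_lit 0,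
nat_lit 0x4581440a53d79194d, nat_lit 0, nat_lit 0, nat_lit 0, nat_lit 0, nat_lit 0,
nat_lit 0, nat_lit 0, nat_lit 0, nat_lit 0x16f39ca44cb517ce3b0, nat_lit 0, nat_lit 0,
nat_lit 0, nat_lit 0, nat_lit 0, nat_lit 0, nat_lit 0, nat_lit 0,
nat_lit 0x20db9b2774a194c4bac248, nat_lit 0, nat_lit 0, nat_lit 0x16638b20a5550c7917d9d4, nat_lit 0, nat_lit 0,
nat_lit 0xff084bdeb5ac294b79fc1, nat_lit 0, nat_lit 0, nat_lit 0, nat_lit 0, nat_lit 0x3a9d761fe7b9996346f7c,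
nat_lit 0, nat_lit 0, nat_lit 0, nat_lit 0, nat_lit 0, nat_lit 0,
nat_lit 0, nat_lit 0x60622537da13cf4c, nat_lit 0, nat_lit 0, nat_lit 0, nat_lit 0,
nat_lit 0, nat_lit 0, nat_lit 0, nat_lit 0x452a5119b0202, nat_lit 0, nat_lit 0,
nat_lit 0x6eac71b14ba35f5, nat_lit 0, nat_lit 0, nat_lit 0x381d12d24b2e82c4, nat_lit 0, nat_lit 0,
nat_lit 0, nat_lit 0x3a88228a462a01, nat_lit 0, nat_lit 0, nat_lit 0, nat_lit 0,
nat_lit 0, nat_lit 0, nat_lit 0, nat_lit 0, nat_lit 0, nat_lit 0x19da20204cba347d6f586dd7b,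
nat_lit 0, nat_lit 0, nat_lit 0, nat_lit 0, nat_lit 0, nat_lit 0,
nat_lit 0x4f9d06bf73aab699, nat_lit 0, nat_lit 0, nat_lit 0x80d0beced7e1c426, nat_lit 0, nat_lit 0,
nat_lit 0x258db4e5de, nat_lit 0, nat_lit 0, nat_lit 0x27b908e84d72151bab, nat_lit 0, nat_lit 0,
nat_lit 0, nat_lit 0, nat_lit 0, nat_lit 0, nat_lit 0, nat_lit 0,
nat_lit 0x6639a9ebecf6c62420e06444, nat_lit 0, nat_lit 0, nat_lit 0, nat_lit 0, nat_lit 0,
nat_lit 0, nat_lit 0, nat_lit 0, nat_lit 0xb0b4e0e90c1038, nat_lit 0, nat_lit 0,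
nat_lit 0x43d3821484980c70f, nat_lit 0, nat_lit 0, nat_lit 0x11378a3614e, nat_lit 0, nat_lit 0,
nat_lit 0, nat_lit 0x27989d372be03c, nat_lit 0, nat_lit 0, nat_lit 0, nat_lit 0,
nat_lit 0, nat_lit 0, nat_lit 0, nat_lit 0, nat_lit 0, nat_lit 0xd0352c7bfc8a86883ce3ab1ff,
nat_lit 0, nat_lit 0, nat_lit 0, nat_lit 0, nat_lit 0, nat_lit 0,
nat_lit 0x63d2b57622b453b8ba06, nat_lit 0, nat_lit 0, nat_lit 0x598f075431386dbcf19, nat_lit 0, nat_lit 0,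
nat_lit 0x598f075431386dbcf5f, nat_lit 0, nat_lit 0, nat_lit 0, nat_lit 0, nat_lit 0x12a97ac1f66b100bec6084397cd,
nat_lit 0, nat_lit 0, nat_lit 0, nat_lit 0, nat_lit 0, nat_lit 0,
nat_lit 0, nat_lit 0x83bcbb02f04f, nat_lit 0, nat_lit 0, nat_lit 0, nat_lit 0,
nat_lit 0, nat_lit 0, nat_lit 0, nat_lit 0x2b5182c1b8191e, nat_lit 0x11477bccccd8585a572ba8c, nat_lit 0x1c329540c75,
nat_lit 0x27b9142cc288d362f2, nat_lit 0xffe46bcee8a5658ec06f68458, nat_lit 0x1098dc4e5e7c16f1ff63608e39, nat_lit 0x5a10399b587e317, nat_lit 0x1f68a569d994ed968b52e07d43, nat_lit 0x63bd9d501b7f3602e2a51e20,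
nat_lit 0x1656d327c9bbc870f0e, nat_lit 0xe5d0a1cb0f500c163df7b6cd2, nat_lit 0x346901a90b65d798de3d984a, nat_lit 0, nat_lit 0, nat_lit 0,
nat_lit 0, nat_lit 0, nat_lit 0, nat_lit 0x147219a4e24f255528, nat_lit 0x38158349bf41c1722f8664ec5, nat_lit 0xe967980e1042a1356d7eaccdd3a1,
nat_lit 0, nat_lit 0, nat_lit 0, nat_lit 0, nat_lit 0, nat_lit 0,
nat_lit 0x6eb0c0836295827, nat_lit 0x13b542221d32ca26d65bc7e, nat_lit 0x148b86f72b67, nat_lit 0x179c30889d6, nat_lit 0x2920bc1a9aa7bd7b37dcc7ee, nat_lit 0x28f54a6568f93c1ca93d12bd,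
nat_lit 0x6108f547ee04ceafd24a, nat_lit 0xe5c9c80f778f9f9c9004dd8d2, nat_lit 0x751d7d4259b374cabb62329a8b, nat_lit 0, nat_lit 0, nat_lit 0,
nat_lit 0, nat_lit 0, nat_lit 0, nat_lit 0, nat_lit 0, nat_lit 0,
nat_lit 0, nat_lit 0, nat_lit 0, nat_lit 0, nat_lit 0, nat_lit 0,
nat_lit 0, nat_lit 0, nat_lit 0, nat_lit 0x24582fdd7448dc44a, nat_lit 0x1c61099b2610a22ab, nat_lit 0xfd1a320c603c7b,
nat_lit 0x3ee322b99e43aad, nat_lit 0x751e3c03614bfbe8dcbcafee43, nat_lit 0xa578ad37740d5ddc8fa73b, nat_lit 0x2da564bd5f7c462140e6, nat_lit 0x918a72de4d49acd525c71268c, nat_lit 0x1eb3d5a9cc935b04013d92,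
nat_lit 0, nat_lit 0, nat_lit 0, nat_lit 0, nat_lit 0, nat_lit 0,
nat_lit 0, nat_lit 0, nat_lit 0, nat_lit 0, nat_lit 0, nat_lit 0,
nat_lit 0, nat_lit 0, nat_lit 0, nat_lit 0, nat_lit 0, nat_lit 0,
nat_lit 0x8d88f053156c16b, nat_lit 0, nat_lit 0, nat_lit 0x47a345efb7574db61, nat_lit 0, nat_lit 0,
nat_lit 0x1329cc3fa3a75e18305, nat_lit 0, nat_lit 0, nat_lit 0xba587896bb3cb617e3c, nat_lit 0, nat_lit 0,
nat_lit 0, nat_lit 0, nat_lit 0, nat_lit 0, nat_lit 0, nat_lit 0,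
nat_lit 0x13e91b98afd02dc99, nat_lit 0, nat_lit 0, nat_lit 0, nat_lit 0, nat_lit 0,
nat_lit 0, nat_lit 0, nat_lit 0, nat_lit 0x1ff30b08b81a9e68f519, nat_lit 0, nat_lit 0,
nat_lit 0x695d5224a4b9, nat_lit 0, nat_lit 0, nat_lit 0x14021059c001747d15a, nat_lit 0, nat_lit 0,
nat_lit 0, nat_lit 0, nat_lit 0x731394ca7, nat_lit 0, nat_lit 0, nat_lit 0,
nat_lit 0, nat_lit 0, nat_lit 0, nat_lit 0, nat_lit 0xa341f3550204ca0a55424833bc7, nat_lit 0,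
nat_lit 0, nat_lit 0, nat_lit 0, nat_lit 0, nat_lit 0, nat_lit 0,
nat_lit 0x6e9886b10c5f43b8, nat_lit 0, nat_lit 0, nat_lit 0x1c65d24e5c84cfeff73ea, nat_lit 0, nat_lit 0,
nat_lit 0xe5014f80308c5a2, nat_lit 0, nat_lit 0, nat_lit 0, nat_lit 0x1098dc4e5e7c16f0387ae252fd, nat_lit 0,
nat_lit 0, nat_lit 0, nat_lit 0, nat_lit 0, nat_lit 0, nat_lit 0,
nat_lit 0, nat_lit 0, nat_lit 0x26e16d1b990bfe30d0, nat_lit 0, nat_lit 0, nat_lit 0,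
nat_lit 0, nat_lit 0, nat_lit 0, nat_lit 0x23a1c474a1164d79f4, nat_lit 0, nat_lit 0,
nat_lit 0x248892a50228a293b8, nat_lit 0, nat_lit 0, nat_lit 0x337b0dfc871651da07efba87a, nat_lit 0, nat_lit 0,
nat_lit 0x42c558102cbbdbeb1, nat_lit 0, nat_lit 0, nat_lit 0, nat_lit 0, nat_lit 0,
nat_lit 0, nat_lit 0, nat_lit 0, nat_lit 0x62acfbe9ffb6ea4cd694, nat_lit 0, nat_lit 0,
nat_lit 0, nat_lit 0, nat_lit 0, nat_lit 0, nat_lit 0, nat_lit 0,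
nat_lit 0x13b2e4296278575400, nat_lit 0, nat_lit 0, nat_lit 0x659356bdbf3293f820f3, nat_lit 0, nat_lit 0,
nat_lit 0x21d8a93b357713, nat_lit 0, nat_lit 0, nat_lit 0, nat_lit 0x5b89f61e8f4cd43921ba410f, nat_lit 0,
nat_lit 0, nat_lit 0, nat_lit 0, nat_lit 0, nat_lit 0, nat_lit 0,
nat_lit 0, nat_lit 0, nat_lit 0x50d0546c3815aadb6bc, nat_lit 0, nat_lit 0, nat_lit 0,
nat_lit 0, nat_lit 0, nat_lit 0, nat_lit 0x337b0dfc8a55a0d5d7331b2fa, nat_lit 0, nat_lit 0,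
nat_lit 0x8eab8540, nat_lit 0, nat_lit 0, nat_lit 0x45a658f6f87c1d6ea, nat_lit 0, nat_lit 0,
nat_lit 0, nat_lit 0, nat_lit 0x1f8e72125480fd85e1b34, nat_lit 0, nat_lit 0, nat_lit 0,
nat_lit 0, nat_lit 0, nat_lit 0, nat_lit 0, nat_lit 0x34b893d4b2c530d706, nat_lit 0,
nat_lit 0, nat_lit 0, nat_lit 0, nat_lit 0, nat_lit 0, nat_lit 0,
nat_lit 0x2602b029836e6ce24, nat_lit 0x12da65917b978bfb552, nat_lit 0xfc4730994c8982, nat_lit 0x6108f6085d012ceb2a8d, nat_lit 0x198832ac61cf5010a52ed89ef, nat_lit 0x19ad08fb7fdf5048a98a0,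
nat_lit 0x64026c4a030c1a9, nat_lit 0x751d7d4259b375e14cfd20df08, nat_lit 0x5d13e16f314784cc1002e04, nat_lit 0xc8341202e123b74, nat_lit 0x50b19cfe11d44640d23779d, nat_lit 0x20c1d6518504a74c02ca1fa25b038,
nat_lit 0, nat_lit 0, nat_lit 0, nat_lit 0, nat_lit 0, nat_lit 0,
nat_lit 0x8903f9735074a490e37401f, nat_lit 0x1cbfb1933e4b55eb6edbcd81, nat_lit 0x120f1bea762c3e30d61613d, nat_lit 0, nat_lit 0, nat_lit 0,
nat_lit 0, nat_lit 0, nat_lit 0, nat_lit 0x72e1c12a8e52ebb, nat_lit 0x135602bee77a0d60f82cab2, nat_lit 0x1174268e2c0,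
nat_lit 0x19ad08aa85b5e7769b68c, nat_lit 0x1098dc4e5e7c16ec4a6ddbaa5e, nat_lit 0xd035a0f3345010b215993de99, nat_lit 0xb1b3d7daa6, nat_lit 0x312def621ac7f47e2d6502485, nat_lit 0xcf59c9fbf106acf0557820562,
nat_lit 0, nat_lit 0, nat_lit 0, nat_lit 0, nat_lit 0, nat_lit 0,
nat_lit 0, nat_lit 0, nat_lit 0, nat_lit 0, nat_lit 0, nat_lit 0,
nat_lit 0, nat_lit 0, nat_lit 0, nat_lit 0, nat_lit 0, nat_lit 0,
nat_lit 0xcdd143555928e3e, nat_lit 0xef0e6d248794c14e97ac15, nat_lit 0x8123d76eebb5, nat_lit 0x22134ca75c4f1a4e4a, nat_lit 0xe8a7e663eaadcf005464b22e9, nat_lit 0x874895696da2834aed75d0d6,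
nat_lit 0x284bd89755eaa5044b, nat_lit 0x955fbeda9ab94e2b0b8bb54af1, nat_lit 0x2acdf6c57a57ed465a9d3f3a40, nat_lit 0, nat_lit 0, nat_lit 0,
nat_lit 0, nat_lit 0, nat_lit 0, nat_lit 0, nat_lit 0, nat_lit 0,
nat_lit 0, nat_lit 0, nat_lit 0, nat_lit 0, nat_lit 0, nat_lit 0,
nat_lit 0, nat_lit 0, nat_lit 0, nat_lit 0x23a1c51db21d1021e4, nat_lit 0, nat_lit 0,
nat_lit 0xba6def955f8aaea79c3d72e, nat_lit 0, nat_lit 0, nat_lit 0x40f2cbd003d68413e, nat_lit 0, nat_lit 0,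
nat_lit 0x1022474856b49306a385e5, nat_lit 0, nat_lit 0, nat_lit 0, nat_lit 0, nat_lit 0,
nat_lit 0, nat_lit 0, nat_lit 0, nat_lit 0x152070d33219ded34b3, nat_lit 0, nat_lit 0,
nat_lit 0, nat_lit 0, nat_lit 0, nat_lit 0, nat_lit 0, nat_lit 0,
nat_lit 0x1cf537de0dd0e29c7b365d29f5, nat_lit 0, nat_lit 0, nat_lit 0x19566b402e663283b3, nat_lit 0, nat_lit 0,
nat_lit 0x8ee7f43c, nat_lit 0, nat_lit 0, nat_lit 0, nat_lit 0, nat_lit 0x2f3893fa92e1544a66154,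
nat_lit 0, nat_lit 0, nat_lit 0, nat_lit 0, nat_lit 0, nat_lit 0,
nat_lit 0, nat_lit 0xbeef044bbe9ef87539, nat_lit 0, nat_lit 0, nat_lit 0, nat_lit 0,
nat_lit 0, nat_lit 0, nat_lit 0, nat_lit 0x13b2e42962785989e1, nat_lit 0, nat_lit 0,
nat_lit 0xab592cde19e08d2, nat_lit 0, nat_lit 0, nat_lit 0x14b6e1bb4390523885ae693, nat_lit 0, nat_lit 0,
nat_lit 0, nat_lit 0x34bd4bd8043338ac6e, nat_lit 0, nat_lit 0, nat_lit 0, nat_lit 0,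
nat_lit 0, nat_lit 0, nat_lit 0, nat_lit 0, nat_lit 0, nat_lit 0x5130d2ac1d952c86ab38c34,
nat_lit 0, nat_lit 0, nat_lit 0, nat_lit 0, nat_lit 0, nat_lit 0,
nat_lit 0xa8bc1f6b8abfec9, nat_lit 0, nat_lit 0, nat_lit 0x38cc8564f6ac402d7e0, nat_lit 0, nat_lit 0,
nat_lit 0x43380ffece98d, nat_lit 0, nat_lit 0, nat_lit 0x56d11e62f4ee3198dfa7, nat_lit 0, nat_lit 0,
nat_lit 0, nat_lit 0, nat_lit 0, nat_lit 0, nat_lit 0, nat_lit 0,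
nat_lit 0x5013943a98128ca6, nat_lit 0, nat_lit 0, nat_lit 0, nat_lit 0, nat_lit 0,
nat_lit 0, nat_lit 0, nat_lit 0, nat_lit 0x7bd00c7d7fcf6837, nat_lit 0, nat_lit 0,
nat_lit 0x58e1e1fa4980, nat_lit 0, nat_lit 0, nat_lit 0x13f16369a649171e3, nat_lit 0, nat_lit 0,
nat_lit 0, nat_lit 0x50f7461e0c221d1d6254262b284, nat_lit 0, nat_lit 0, nat_lit 0, nat_lit 0,
nat_lit 0, nat_lit 0, nat_lit 0, nat_lit 0, nat_lit 0, nat_lit 0x3dcf10d87d57833,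
nat_lit 0, nat_lit 0, nat_lit 0, nat_lit 0, nat_lit 0, nat_lit 0,
nat_lit 0x1ff1c86935ca0f66dbee, nat_lit 0, nat_lit 0, nat_lit 0x188f1dab6, nat_lit 0, nat_lit 0,
nat_lit 0x2ce670ce09ff26510, nat_lit 0, nat_lit 0, nat_lit 0, nat_lit 0, nat_lit 0x1fde5edf8ff027807,
nat_lit 0, nat_lit 0, nat_lit 0, nat_lit 0, nat_lit 0, nat_lit 0,
nat_lit 0, nat_lit 0x3d0b180ffea098640ed7dd4fa7b3, nat_lit 0, nat_lit 0, nat_lit 0, nat_lit 0,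
nat_lit 0, nat_lit 0, nat_lit 0]

theorem len9 : cd9.length = 729 := by decide +kernel

theorem hC9 : allZ (chkN ap bsL ixL yW 7) cd9 (729 * 9) = true := by decide +kernel

end Cfsg.Agent.TcChain36.O7C
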