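import Mathlib
import Cfsg.Agent.TcChain36.O7C.Tab

set_option autoImplicit false
set_option maxRecDepth 1000000
set_option linter.all false

namespace Cfsg.Agent.TcChain36.O7C

open Cfsg.Agent.Lib.OutTree36 Cfsg.Agent.Lib.PcClass36

set_option Elab.async false

/-- The certificates of a block. -/
def cd10 : List ℕ := [
nat_lit 0x6ecac1ba64012e16, nat_lit 0x1d810d385ee1993faf9e7bfba, nat_lit 0x19599c53c4e00cccc30645110, nat_lit 0x7410953ba8433f153f25, nat_lit 0, nat_lit 0,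
nat_lit 0x22116b14347ddddd4f, nat_lit 0, nat_lit 0, nat_lit 0x7dc209a472ab07220af, nat_lit 0x3b447e3b1aee4, nat_lit 0x1e32f450f187f84841fd47,
nat_lit 0, nat_lit 0, nat_lit 0, nat_lit 0, nat_lit 0, nat_lit 0,
nat_lit 0x14a83339b42bb8fd6a957b6, nat_lit 0x5adc44302d2f613bae1c42, nat_lit 0x501e5fd9581971252c4669a, nat_lit 0, nat_lit 0, nat_lit 0,
nat_lit 0, nat_lit 0, nat_lit 0, nat_lit 0x491d4bd18d7d4266ea31742, nat_lit 0x250e76bad122678bcb378146fb16, nat_lit 0x1daa8f09612612eb9c6,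
nat_lit 0x9b65d402d8a4ec4411a6a0c, nat_lit 0, nat_lit 0, nat_lit 0x12a1316e747bf89610cf04f9433, nat_lit 0, nat_lit 0,
nat_lit 0, nat_lit 0, nat_lit 0, nat_lit 0, nat_lit 0, nat_lit 0,
nat_lit 0, nat_lit 0, nat_lit 0, nat_lit 0, nat_lit 0, nat_lit 0,
nat_lit 0, nat_lit 0, nat_lit 0, nat_lit 0, nat_lit 0, nat_lit 0,
nat_lit 0x2d6542b97e48b30f4d57cf22, nat_lit 0x3dcf10e0dc7179a, nat_lit 0xf8f88bb197dd7a336215b486b2, nat_lit 0x48b40c9301b146599d138897e68, nat_lit 0, nat_lit 0,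
nat_lit 0x10314305df5f1f9c6b6fedd0a, nat_lit 0, nat_lit 0, nat_lit 0, nat_lit 0, nat_lit 0,
nat_lit 0, nat_lit 0, nat_lit 0, nat_lit 0, nat_lit 0, nat_lit 0,
nat_lit 0, nat_lit 0, nat_lit 0, nat_lit 0, nat_lit 0, nat_lit 0,
nat_lit 0, nat_lit 0, nat_lit 0, nat_lit 0x20c04791c69f8fdd85aa9, nat_lit 0, nat_lit 0,
nat_lit 0x1480eb4c15adf5515c27bb2606, nat_lit 0, nat_lit 0, nat_lit 0x5525e2367, nat_lit 0xe713e624832048aaa357b, nat_lit 0x751de905be0debccffca354510,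
nat_lit 0x16aaaa78f9df4f862d7, nat_lit 0, nat_lit 0, nat_lit 0, nat_lit 0, nat_lit 0,
nat_lit 0, nat_lit 0, nat_lit 0, nat_lit 0x482846b5e23efed112fa, nat_lit 0, nat_lit 0,
nat_lit 0, nat_lit 0, nat_lit 0, nat_lit 0, nat_lit 0, nat_lit 0,
nat_lit 0x1da8aee07dbb9effab3c4d77e7, nat_lit 0, nat_lit 0, nat_lit 0x28e5bb3239febcd53cf8e6e3aede, nat_lit 0, nat_lit 0,
nat_lit 0x9517a84a2c10bc633130989b6e, nat_lit 0x1701387054667c9815ed57f854a0c, nat_lit 0x1491b0752db6257a1b02c2aa2a, nat_lit 0, nat_lit 0, nat_lit 0x50d0545acf6552cc9f1,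
nat_lit 0, nat_lit 0, nat_lit 0, nat_lit 0, nat_lit 0, nat_lit 0,
nat_lit 0, nat_lit 0x1126259b7257a5f0e19, nat_lit 0, nat_lit 0, nat_lit 0, nat_lit 0,
nat_lit 0, nat_lit 0, nat_lit 0, nat_lit 0x142c36801e594f8cef1983c9ef, nat_lit 0, nat_lit 0,
nat_lit 0xe88123557f843cf6d3c21f8ca, nat_lit 0, nat_lit 0, nat_lit 0x41e101cc7648bcfabcc2749a7c0, nat_lit 0x1722673777971e4af1c39a187, nat_lit 0x751e33b316b4cfec3f7c6174e7,
nat_lit 0, nat_lit 0x9517a84a26bb13aecdd4cd6fa8, nat_lit 0, nat_lit 0, nat_lit 0, nat_lit 0,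
nat_lit 0, nat_lit 0, nat_lit 0, nat_lit 0, nat_lit 0, nat_lit 0x51dde09d0b52c3412a8ca5a753,
nat_lit 0, nat_lit 0, nat_lit 0, nat_lit 0, nat_lit 0, nat_lit 0,
nat_lit 0x5db6ace0aadcb5242, nat_lit 0, nat_lit 0, nat_lit 0x20fd6974d54d2c1686cd0d, nat_lit 0, nat_lit 0,
nat_lit 0x7c1d636, nat_lit 0x51b36922bc76a044dcb3b3a, nat_lit 0x19da20204cba2974271ef86bc, nat_lit 0x5081e0e37685c, nat_lit 0, nat_lit 0,
nat_lit 0, nat_lit 0, nat_lit 0, nat_lit 0, nat_lit 0, nat_lit 0,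
nat_lit 0x2a4baec158cc92de4a7da, nat_lit 0, nat_lit 0, nat_lit 0, nat_lit 0, nat_lit 0,
nat_lit 0, nat_lit 0, nat_lit 0, nat_lit 0xb91e4f2e12b04aa72b4e22aec6, nat_lit 0, nat_lit 0,
nat_lit 0x661fd54ba939ea8e744109ac6b0, nat_lit 0, nat_lit 0, nat_lit 0x1722673777971e4cb04c2eb4f, nat_lit 0xcd79b3652516f6692aa387, nat_lit 0x8ff07ca462dd091ee508f4cf11,
nat_lit 0, nat_lit 0x258db75311, nat_lit 0, nat_lit 0, nat_lit 0, nat_lit 0,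
nat_lit 0, nat_lit 0, nat_lit 0, nat_lit 0, nat_lit 0, nat_lit 0x51f73409377cd2d2707,
nat_lit 0, nat_lit 0, nat_lit 0, nat_lit 0, nat_lit 0, nat_lit 0,
nat_lit 0x58336bb5b9e72c80e77e4cfd4791, nat_lit 0, nat_lit 0, nat_lit 0x1c757d40ff21fa00c460e7226b, nat_lit 0, nat_lit 0,
nat_lit 0xd035c0263b34c9061a68befbf, nat_lit 0x2f2c7c3f77f1e0fb12fbfca9b112, nat_lit 0x2ad0ba1aac6e2b18aae6546f0e, nat_lit 0, nat_lit 0, nat_lit 0x47ebdbacedf2ad7a631b,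
nat_lit 0, nat_lit 0, nat_lit 0, nat_lit 0, nat_lit 0, nat_lit 0,
nat_lit 0, nat_lit 0x14d830138fbd61ba319221d7be6ad, nat_lit 0, nat_lit 0, nat_lit 0, nat_lit 0,
nat_lit 0, nat_lit 0, nat_lit 0, nat_lit 0xcbd33a8d560df4, nat_lit 0x419b6220ba553cd7e602119faeb, nat_lit 0x41e101cc66674ce252b0bc4c36c,
nat_lit 0x41e0c50bbd08ba6905d7d8a92a1, nat_lit 0, nat_lit 0, nat_lit 0x312b385b39b70007aea715ccd, nat_lit 0, nat_lit 0,
nat_lit 0x8903f9762bce53bf2961121, nat_lit 0x19b0728d583bfd82887686295, nat_lit 0x118fe6921a74c38662f39f7, nat_lit 0, nat_lit 0, nat_lit 0,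
nat_lit 0, nat_lit 0, nat_lit 0, nat_lit 0x1c6109475a80b8f6d, nat_lit 0x9562d23442bad77dfefae709f9, nat_lit 0x5e07825f6cdaa9758a37f951,
nat_lit 0, nat_lit 0, nat_lit 0, nat_lit 0, nat_lit 0, nat_lit 0,
nat_lit 0x34d83d810aa230c2a74ae0c7a, nat_lit 0x11ccae78b8815bfe7b, nat_lit 0x6c85801c6f5664401a635088c6f, nat_lit 0x3e4206d4f8011d1f, nat_lit 0, nat_lit 0,
nat_lit 0x82ece9a267679293a6e927a77d, nat_lit 0, nat_lit 0, nat_lit 0, nat_lit 0, nat_lit 0,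
nat_lit 0, nat_lit 0, nat_lit 0, nat_lit 0, nat_lit 0, nat_lit 0,
nat_lit 0, nat_lit 0, nat_lit 0, nat_lit 0, nat_lit 0, nat_lit 0,
nat_lit 0, nat_lit 0, nat_lit 0, nat_lit 0x41e104689b3bd3be53f87a8db6e, nat_lit 0x5de3d97e153396832359ed4b, nat_lit 0x395487cd1db2b38e45e18f327,
nat_lit 0x2b7a92f5a3e073, nat_lit 0, nat_lit 0, nat_lit 0x396d8def813b12bd129509dfbac3, nat_lit 0, nat_lit 0,
nat_lit 0, nat_lit 0, nat_lit 0, nat_lit 0, nat_lit 0, nat_lit 0,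
nat_lit 0, nat_lit 0, nat_lit 0, nat_lit 0, nat_lit 0, nat_lit 0,
nat_lit 0, nat_lit 0, nat_lit 0, nat_lit 0, nat_lit 0, nat_lit 0,
nat_lit 0x4338100c75849, nat_lit 0, nat_lit 0, nat_lit 0xae07052f8706d83ff12a421, nat_lit 0, nat_lit 0,
nat_lit 0x19d9c470f00d16c62356b31a4, nat_lit 0x24907a1fd7fa9557435efed53, nat_lit 0x377e79906d8b3a6e20bb8, nat_lit 0xa6af35ef2b53e205, nat_lit 0, nat_lit 0,
nat_lit 0, nat_lit 0, nat_lit 0, nat_lit 0, nat_lit 0, nat_lit 0,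
nat_lit 0x56d11e30d725402c41f6, nat_lit 0, nat_lit 0, nat_lit 0, nat_lit 0, nat_lit 0,
nat_lit 0, nat_lit 0, nat_lit 0, nat_lit 0x7157f05d2ac4b74e4146842, nat_lit 0, nat_lit 0,
nat_lit 0x103106d9285339f2af2cde838, nat_lit 0, nat_lit 0, nat_lit 0xd47db508649, nat_lit 0x491dc02f4bd4df13f1881a2, nat_lit 0x48b703313fd85c367c72dccfdf0,
nat_lit 0, nat_lit 0, nat_lit 0x740ea13232f87e36, nat_lit 0, nat_lit 0, nat_lit 0,
nat_lit 0, nat_lit 0, nat_lit 0, nat_lit 0, nat_lit 0x3c2bf39f6953f, nat_lit 0,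
nat_lit 0, nat_lit 0, nat_lit 0, nat_lit 0, nat_lit 0, nat_lit 0,
nat_lit 0x409bf817a34ce251, nat_lit 0, nat_lit 0, nat_lit 0x1001fe04da2e36cfc4f11e76989, nat_lit 0, nat_lit 0,
nat_lit 0xae07aa67c8010db526de287, nat_lit 0x17225a46aa4847bc55a22832e, nat_lit 0x4e3f20169997c31d0f861259, nat_lit 0, nat_lit 0x8e58c85c8880d1e, nat_lit 0,
nat_lit 0, nat_lit 0, nat_lit 0, nat_lit 0, nat_lit 0, nat_lit 0,
nat_lit 0, nat_lit 0, nat_lit 0x499e257bfa7aaed077f479f7535, nat_lit 0, nat_lit 0, nat_lit 0,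
nat_lit 0, nat_lit 0, nat_lit 0, nat_lit 0x21f6d387ce88b8052, nat_lit 0, nat_lit 0,
nat_lit 0x296cf61af1b7fe1b04639e7eb670, nat_lit 0, nat_lit 0, nat_lit 0x5d13e16f3f5603ff579a425, nat_lit 0x953de053fbb0799a8de, nat_lit 0x2d6542b97e48b15a9ec28bc6,
nat_lit 0x1daa58f412aa08b0e47, nat_lit 0, nat_lit 0, nat_lit 0, nat_lit 0, nat_lit 0,
nat_lit 0, nat_lit 0, nat_lit 0, nat_lit 0xbed5a434343516, nat_lit 0, nat_lit 0,
nat_lit 0, nat_lit 0, nat_lit 0, nat_lit 0, nat_lit 0, nat_lit 0,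
nat_lit 0x2391e42dc7294c16fe, nat_lit 0, nat_lit 0, nat_lit 0xe5c7442f6da4a40d8207ec384, nat_lit 0, nat_lit 0,
nat_lit 0x8ff07ca73203c1fa9164c09a2b, nat_lit 0x130917d10cf491cb15a549b, nat_lit 0x2491f8fdb069e63b17a80a9e0, nat_lit 0, nat_lit 0x72b10e7f73d7364, nat_lit 0,
nat_lit 0, nat_lit 0, nat_lit 0, nat_lit 0, nat_lit 0, nat_lit 0,
nat_lit 0, nat_lit 0, nat_lit 0x1eb3d59c7a73b78f01d959, nat_lit 0, nat_lit 0, nat_lit 0,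
nat_lit 0, nat_lit 0, nat_lit 0, nat_lit 0xb58de06608e3ba7b82a57f35a2, nat_lit 0, nat_lit 0,
nat_lit 0x37106d044b85f016cdadb7246, nat_lit 0, nat_lit 0, nat_lit 0x24c58f0651a3d86828, nat_lit 0x51f5523fb50103a3c03f2f1531, nat_lit 0x332a68da0e4a4429de7f12f,
nat_lit 0, nat_lit 0, nat_lit 0x5a624fd8fa88a18e53a340cfbe46, nat_lit 0, nat_lit 0, nat_lit 0,
nat_lit 0, nat_lit 0, nat_lit 0, nat_lit 0, nat_lit 0x5e76304b399bccbb4bfab488, nat_lit 0,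
nat_lit 0, nat_lit 0, nat_lit 0, nat_lit 0, nat_lit 0, nat_lit 0,
nat_lit 0x2da564d1d548f56baccc, nat_lit 0xe73406f81b2267f15dd50ce01, nat_lit 0xfd36e966b0a07b57253f5, nat_lit 0x345b2ece8e150f4b7452a126, nat_lit 0, nat_lit 0,
nat_lit 0xf8eacd4dd42e7026fa3818d28c, nat_lit 0, nat_lit 0, nat_lit 0x5db6ad021946cf19e, nat_lit 0x63bdab71d226b55fe9de8ea5, nat_lit 0xb15130ca5867f478bcc292f,
nat_lit 0, nat_lit 0, nat_lit 0, nat_lit 0, nat_lit 0, nat_lit 0,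
nat_lit 0x3e41a5c276795774, nat_lit 0x3a37ce173fc224b8d20a, nat_lit 0x4b3134cb1ede576faa80, nat_lit 0, nat_lit 0, nat_lit 0,
nat_lit 0, nat_lit 0, nat_lit 0, nat_lit 0x10307561eadd6edf885f0bb2f, nat_lit 0x9a63387b79d656ed7c4, nat_lit 0x10306b2cfe857f8ec0cb9a77f,
nat_lit 0x337b0dfc8a55a0d5d7331772d, nat_lit 0, nat_lit 0, nat_lit 0x1ae5c1a873156aba04e9c163628993, nat_lit 0, nat_lit 0,
nat_lit 0, nat_lit 0, nat_lit 0, nat_lit 0, nat_lit 0, nat_lit 0,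
nat_lit 0, nat_lit 0, nat_lit 0, nat_lit 0, nat_lit 0, nat_lit 0,
nat_lit 0, nat_lit 0, nat_lit 0, nat_lit 0, nat_lit 0, nat_lit 0,
nat_lit 0x312def6bb86fe55308c7fce64, nat_lit 0x14a0275cab852534127dbc0, nat_lit 0x24920e360002dfee1f01867f5, nat_lit 0x64f9d0b37da40052da, nat_lit 0, nat_lit 0,
nat_lit 0x914b4934eab2230749787c94f, nat_lit 0, nat_lit 0, nat_lit 0, nat_lit 0, nat_lit 0,
nat_lit 0, nat_lit 0, nat_lit 0, nat_lit 0, nat_lit 0, nat_lit 0,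
nat_lit 0, nat_lit 0, nat_lit 0, nat_lit 0, nat_lit 0, nat_lit 0,
nat_lit 0, nat_lit 0, nat_lit 0, nat_lit 0x1284181e43b4bad81b1aa16, nat_lit 0, nat_lit 0,
nat_lit 0x12a9fb894355ec561593637e72f, nat_lit 0, nat_lit 0, nat_lit 0x5dbca0cbd2e85b8312245cb3, nat_lit 0xc4dbaab133c9b56dbd1, nat_lit 0x3fa0d3d49a92c5a70262d,
nat_lit 0x40eeb4909c, nat_lit 0, nat_lit 0, nat_lit 0, nat_lit 0, nat_lit 0,
nat_lit 0, nat_lit 0, nat_lit 0, nat_lit 0x1fde5edf8ff04ce09, nat_lit 0, nat_lit 0,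
nat_lit 0, nat_lit 0, nat_lit 0, nat_lit 0, nat_lit 0, nat_lit 0,
nat_lit 0xb37c7eb6d891d00e2, nat_lit 0, nat_lit 0, nat_lit 0x1f8789b401dde560c9be32, nat_lit 0, nat_lit 0,
nat_lit 0x296861f128748f0cf2382df5b41f, nat_lit 0xa7ee277c1fa00a0bb23797a562a, nat_lit 0x250e8e5baa342c1106a394ec0984, nat_lit 0, nat_lit 0, nat_lit 0x2cc85406b12c9f6b5,
nat_lit 0, nat_lit 0, nat_lit 0, nat_lit 0, nat_lit 0, nat_lit 0,
nat_lit 0, nat_lit 0x50159a1338b4e1ee, nat_lit 0, nat_lit 0, nat_lit 0, nat_lit 0,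
nat_lit 0, nat_lit 0, nat_lit 0, nat_lit 0x501e5fd9344c36ed1464201, nat_lit 0, nat_lit 0,
nat_lit 0x11f7982bc5c5523337648, nat_lit 0, nat_lit 0, nat_lit 0x90439d33bf29f397f1, nat_lit 0x5d13e16f3162d2be0456722, nat_lit 0x82e042a3846858cd304834a111,
nat_lit 0, nat_lit 0xa0b09bf1c07cbfb060d00a0, nat_lit 0, nat_lit 0, nat_lit 0, nat_lit 0,
nat_lit 0, nat_lit 0, nat_lit 0, nat_lit 0, nat_lit 0, nat_lit 0x916232fd57ae24166a6d71f47,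
nat_lit 0, nat_lit 0, nat_lit 0, nat_lit 0, nat_lit 0, nat_lit 0,
nat_lit 0x1329cc3fa2c1db57943, nat_lit 0, nat_lit 0, nat_lit 0x63d34dd339e9a14016e1, nat_lit 0, nat_lit 0,
nat_lit 0x5d13e16f3d60acbfaf726f9, nat_lit 0x250e54a1fe61c85051bd69b58532, nat_lit 0x751e33b319d7dc956e4552f28f, nat_lit 0x2d5b42a5cb6a55, nat_lit 0, nat_lit 0,
nat_lit 0, nat_lit 0, nat_lit 0, nat_lit 0, nat_lit 0, nat_lit 0,
nat_lit 0x34b893e6566e4592ac, nat_lit 0, nat_lit 0, nat_lit 0, nat_lit 0, nat_lit 0,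
nat_lit 0, nat_lit 0, nat_lit 0, nat_lit 0x512608917b2c5ef8546, nat_lit 0, nat_lit 0,
nat_lit 0x11bc3d753ec924d923e529e, nat_lit 0, nat_lit 0, nat_lit 0x11eda8309c2e46e011669, nat_lit 0x955fbec1525cce5fe261ac9c11, nat_lit 0x51f55343e511904b75a6737de2,
nat_lit 0, nat_lit 0x6af8d426b10f, nat_lit 0, nat_lit 0, nat_lit 0, nat_lit 0,
nat_lit 0, nat_lit 0, nat_lit 0, nat_lit 0, nat_lit 0, nat_lit 0x806ab7f017c74555,
nat_lit 0, nat_lit 0, nat_lit 0, nat_lit 0, nat_lit 0, nat_lit 0,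
nat_lit 0x10fca96aec4717be7595187, nat_lit 0, nat_lit 0, nat_lit 0x1288e4e654db7af940bcef4400509e, nat_lit 0, nat_lit 0,
nat_lit 0x11ead4d5ff6b49d204266, nat_lit 0x2f2c7c3f77f0be77057c1863afda, nat_lit 0x28cd824ecc1fecb1df, nat_lit 0, nat_lit 0, nat_lit 0x4103a77c71cc38c36dc72480,
nat_lit 0, nat_lit 0, nat_lit 0, nat_lit 0, nat_lit 0, nat_lit 0,
nat_lit 0, nat_lit 0x745b3f389c67856d, nat_lit 0, nat_lit 0, nat_lit 0, nat_lit 0,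
nat_lit 0, nat_lit 0, nat_lit 0]

theorem len10 : cd10.length = 729 := by decide +kernel

theorem hC10 : allZ (chkN ap bsL ixL yW 7) cd10 (729 * 10) = true := by decide +kernel

end Cfsg.Agent.TcChain36.O7C
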