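import Mathlib
import Cfsg.Agent.TcChain36.O7C.Tab

set_option autoImplicit false
set_option maxRecDepth 1000000
set_option linter.all false

namespace Cfsg.Agent.TcChain36.O7C

open Cfsg.Agent.Lib.OutTree36 Cfsg.Agent.Lib.PcClass36

set_option Elab.async false

/-- The certificates of a block. -/
def cd23 : List ℕ := [
nat_lit 0x7c15843835, nat_lit 0x1cc7ed1fda6d317f8b346350, nat_lit 0xa5cbc76b3c8948e761b9b1, nat_lit 0x49a525a37a8546b712fb1e667f9, nat_lit 0, nat_lit 0,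
nat_lit 0x48b4db03f55332b1ae30464c854, nat_lit 0, nat_lit 0, nat_lit 0x2105163f316dbc2459b666, nat_lit 0x501e5fd9581971252c4b3ee, nat_lit 0x331be65b19697c4d36dbd4b,
nat_lit 0, nat_lit 0, nat_lit 0, nat_lit 0, nat_lit 0, nat_lit 0,
nat_lit 0x389267f304d9c586, nat_lit 0x98e1f4d9c6c058edcda45ac, nat_lit 0x272d8c8917a997865e, nat_lit 0, nat_lit 0, nat_lit 0,
nat_lit 0, nat_lit 0, nat_lit 0, nat_lit 0x2920a07da0807f4e7f25b948, nat_lit 0x41e096755274f1f2932fe0fe9a8, nat_lit 0xa70174dd636f0aff1b59602,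
nat_lit 0x312b385b39b70007b3019acd7, nat_lit 0, nat_lit 0, nat_lit 0x361e674a9fc6d1a81, nat_lit 0, nat_lit 0,
nat_lit 0, nat_lit 0, nat_lit 0, nat_lit 0, nat_lit 0, nat_lit 0,
nat_lit 0, nat_lit 0, nat_lit 0, nat_lit 0, nat_lit 0, nat_lit 0,
nat_lit 0, nat_lit 0, nat_lit 0, nat_lit 0, nat_lit 0, nat_lit 0,
nat_lit 0x28e5b9ab40b781aae2669e3213ec, nat_lit 0x1145282a76182fb88d7539b, nat_lit 0xa7708cacd84c6d77a7454b7, nat_lit 0x7c5a8302dc, nat_lit 0, nat_lit 0,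
nat_lit 0x337d91dc971f1ed6ab210d9d1, nat_lit 0, nat_lit 0, nat_lit 0, nat_lit 0, nat_lit 0,
nat_lit 0, nat_lit 0, nat_lit 0, nat_lit 0, nat_lit 0, nat_lit 0,
nat_lit 0, nat_lit 0, nat_lit 0, nat_lit 0, nat_lit 0, nat_lit 0,
nat_lit 0, nat_lit 0, nat_lit 0, nat_lit 0x1c564151a392dab8cbfc4, nat_lit 0, nat_lit 0,
nat_lit 0x49a525a37a8546b7497b6d5514d, nat_lit 0x50f706fc56069cc7546d25b70fe, nat_lit 0x20b275e2bf6389f36d570, nat_lit 0x2d63ea00ba341280dd7ac1f7, nat_lit 0, nat_lit 0,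
nat_lit 0x13b2c5709859240aa5, nat_lit 0, nat_lit 0, nat_lit 0, nat_lit 0, nat_lit 0,
nat_lit 0, nat_lit 0, nat_lit 0, nat_lit 0x8879b2e95e7eb9c, nat_lit 0, nat_lit 0,
nat_lit 0, nat_lit 0, nat_lit 0, nat_lit 0, nat_lit 0, nat_lit 0,
nat_lit 0xb177a6d734feb1b6268, nat_lit 0, nat_lit 0, nat_lit 0x512608917b2c5ef7c59, nat_lit 0x328bf16ce265cb8fea98778a, nat_lit 0x8e6ee349c35a4561064a90,
nat_lit 0x68226262eac165bf782d4deaef6, nat_lit 0, nat_lit 0, nat_lit 0, nat_lit 0, nat_lit 0x2b2e81a50fc37613a,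
nat_lit 0, nat_lit 0, nat_lit 0, nat_lit 0, nat_lit 0, nat_lit 0,
nat_lit 0, nat_lit 0x415baf8a3190117a607a6, nat_lit 0, nat_lit 0, nat_lit 0, nat_lit 0,
nat_lit 0, nat_lit 0, nat_lit 0, nat_lit 0x51dde09d0b6df5c686868ea24d, nat_lit 0, nat_lit 0,
nat_lit 0x5af64915a8dac06dc240d8, nat_lit 0xe8ab2122b28515d292fea0e53, nat_lit 0x38abcd7d38794010, nat_lit 0x5b89e6dd7e7036d2f75734ab, nat_lit 0, nat_lit 0,
nat_lit 0, nat_lit 0x1845694748e73a8, nat_lit 0, nat_lit 0, nat_lit 0, nat_lit 0,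
nat_lit 0, nat_lit 0, nat_lit 0, nat_lit 0, nat_lit 0, nat_lit 0x506ad52714d7f,
nat_lit 0, nat_lit 0, nat_lit 0, nat_lit 0, nat_lit 0, nat_lit 0,
nat_lit 0x2a57ba54537d94, nat_lit 0, nat_lit 0, nat_lit 0x2920b77f0d7e6ec1396afdb8, nat_lit 0x41e0fd29b4851c357fcdd0fbcfc, nat_lit 0x230974cc9fada1442908ad,
nat_lit 0x1cbc5d408f2381564b1a30f9, nat_lit 0, nat_lit 0, nat_lit 0x230e2746f4583e8e53, nat_lit 0, nat_lit 0,
nat_lit 0, nat_lit 0, nat_lit 0, nat_lit 0, nat_lit 0, nat_lit 0,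
nat_lit 0x68bd9b610c5d0c944f0c6805, nat_lit 0, nat_lit 0, nat_lit 0, nat_lit 0, nat_lit 0,
nat_lit 0, nat_lit 0, nat_lit 0, nat_lit 0x26e8090959c33b, nat_lit 0, nat_lit 0,
nat_lit 0xa1360814cbbae2530f, nat_lit 0x2967e6c146e0c1c764c0436ab087, nat_lit 0x751e3c160b624fcb3dabf964b0, nat_lit 0x1288d9aa024a09008a5eae3e2d47fc, nat_lit 0, nat_lit 0,
nat_lit 0, nat_lit 0x2d4907e5ea3778, nat_lit 0, nat_lit 0, nat_lit 0, nat_lit 0,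
nat_lit 0, nat_lit 0, nat_lit 0, nat_lit 0, nat_lit 0, nat_lit 0x1988f5885708e3c2f94d73c0e,
nat_lit 0, nat_lit 0, nat_lit 0, nat_lit 0, nat_lit 0, nat_lit 0,
nat_lit 0x32f2677dca1661a75f2c134fdf70f, nat_lit 0, nat_lit 0, nat_lit 0x19ad098b29f3415c8bcf4, nat_lit 0x41e0d3133ae7d4474fdac8747bd, nat_lit 0xb346622c79639ec65,
nat_lit 0x337b0dfc8a55a0d5d73389f1c, nat_lit 0, nat_lit 0, nat_lit 0, nat_lit 0, nat_lit 0xe40d83c0bc7b176a09,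
nat_lit 0, nat_lit 0, nat_lit 0, nat_lit 0, nat_lit 0, nat_lit 0,
nat_lit 0, nat_lit 0x28b1a8e07e6d766195, nat_lit 0, nat_lit 0, nat_lit 0, nat_lit 0,
nat_lit 0, nat_lit 0, nat_lit 0, nat_lit 0xac81b40f4350752fe45, nat_lit 0x29207aa5df9670049ec20fba, nat_lit 0x5405db4cbe54340710e01808964,
nat_lit 0x149197051e85dcfeebcb9b355d, nat_lit 0, nat_lit 0, nat_lit 0xb127313fe699cc7cde4, nat_lit 0, nat_lit 0,
nat_lit 0x2304ed3d62a471ee2, nat_lit 0x506b36f529564, nat_lit 0x4e84947ddc4da052eb665fcb285, nat_lit 0, nat_lit 0, nat_lit 0,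
nat_lit 0, nat_lit 0, nat_lit 0, nat_lit 0x332bb5e2fcf1cdb7, nat_lit 0x5406bf7c775779c490b59712330, nat_lit 0x19da22db551d90ca276a00d53,
nat_lit 0, nat_lit 0, nat_lit 0, nat_lit 0, nat_lit 0, nat_lit 0,
nat_lit 0x59c8f72165acd7e9a5b49f36, nat_lit 0x47ebdbace2f1d0e7ad93, nat_lit 0xd035b13e615dab0586d009f04, nat_lit 0x576947be9f7e38f1367de32a, nat_lit 0, nat_lit 0,
nat_lit 0x53ec49e35e9de831fe02534443b, nat_lit 0, nat_lit 0, nat_lit 0, nat_lit 0, nat_lit 0,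
nat_lit 0, nat_lit 0, nat_lit 0, nat_lit 0, nat_lit 0, nat_lit 0,
nat_lit 0, nat_lit 0, nat_lit 0, nat_lit 0, nat_lit 0, nat_lit 0,
nat_lit 0, nat_lit 0, nat_lit 0, nat_lit 0x2d63691f7dbef4e9f7dbdfdf, nat_lit 0x25b6be2be164cc2ef, nat_lit 0xd035b62b9d7eec57ebad57411,
nat_lit 0x5af7d858755fa54fc5563a, nat_lit 0, nat_lit 0, nat_lit 0x46c2826781bef30cf6e0, nat_lit 0, nat_lit 0,
nat_lit 0, nat_lit 0, nat_lit 0, nat_lit 0, nat_lit 0, nat_lit 0,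
nat_lit 0, nat_lit 0, nat_lit 0, nat_lit 0, nat_lit 0, nat_lit 0,
nat_lit 0, nat_lit 0, nat_lit 0, nat_lit 0, nat_lit 0, nat_lit 0,
nat_lit 0x2bad9bb1, nat_lit 0, nat_lit 0, nat_lit 0x24b5404fcf7c85f3a9, nat_lit 0x5405db5af7083bf8367e95f284e, nat_lit 0x5405db4cbe5434272defe914089,
nat_lit 0x95e0aa61b2d7398a401fb537ef9, nat_lit 0, nat_lit 0, nat_lit 0x7ae6274bc65bfe2d, nat_lit 0, nat_lit 0,
nat_lit 0, nat_lit 0, nat_lit 0, nat_lit 0, nat_lit 0, nat_lit 0,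
nat_lit 0x13c277ab70845e, nat_lit 0, nat_lit 0, nat_lit 0, nat_lit 0, nat_lit 0,
nat_lit 0, nat_lit 0, nat_lit 0, nat_lit 0x105814cd0cf6ee1fd998115102737e7, nat_lit 0, nat_lit 0,
nat_lit 0x2920a07da0807faf634044fc, nat_lit 0xd0346ce7bbe9b51ec1c1fecf6, nat_lit 0x63017de663076fe812, nat_lit 0x32f2677dca167f09d19afdba3a0ad, nat_lit 0, nat_lit 0,
nat_lit 0, nat_lit 0, nat_lit 0x174ab72f9aee62f283164911eeafb, nat_lit 0, nat_lit 0, nat_lit 0,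
nat_lit 0, nat_lit 0, nat_lit 0, nat_lit 0, nat_lit 0x2dfea5f4573f83f7ad7bfd61, nat_lit 0,
nat_lit 0, nat_lit 0, nat_lit 0, nat_lit 0, nat_lit 0, nat_lit 0,
nat_lit 0xc1254d628188b142070, nat_lit 0, nat_lit 0, nat_lit 0x2920bb3d817568e9a06c2279, nat_lit 0xd035a9306239a4ffbdf4f6f24, nat_lit 0x250e90fd12c721b63478ce8df23a,
nat_lit 0x1492288722912b2e1aba423e27, nat_lit 0, nat_lit 0, nat_lit 0, nat_lit 0x6003d2c3303938ac, nat_lit 0,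
nat_lit 0, nat_lit 0, nat_lit 0, nat_lit 0, nat_lit 0, nat_lit 0,
nat_lit 0, nat_lit 0, nat_lit 0x331be65193981c31d2d3aaa, nat_lit 0, nat_lit 0, nat_lit 0,
nat_lit 0, nat_lit 0, nat_lit 0, nat_lit 0x3602268ddbd2f2689, nat_lit 0, nat_lit 0,
nat_lit 0x48302e2a6b6eb185c4749d72c99, nat_lit 0x48302e2a505e3db60d8bc5786af, nat_lit 0xd0346ce7bbe9b5355ea618d0d, nat_lit 0x51f8317da66a75efeaf29863fe, nat_lit 0, nat_lit 0,
nat_lit 0xc66f2cdf5e, nat_lit 0, nat_lit 0, nat_lit 0, nat_lit 0, nat_lit 0,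
nat_lit 0, nat_lit 0, nat_lit 0, nat_lit 0x7313959b2, nat_lit 0, nat_lit 0,
nat_lit 0, nat_lit 0, nat_lit 0, nat_lit 0, nat_lit 0, nat_lit 0,
nat_lit 0x1c757d41000ed5e8c2e4cf9938, nat_lit 0, nat_lit 0, nat_lit 0x2920b9303503968f7aa96339, nat_lit 0x2e19fe43d5d0920c1c238a8ab5c, nat_lit 0x8c0bce94d87f122443405ffdf98,
nat_lit 0x23ad3b0d3026999f9c, nat_lit 0, nat_lit 0, nat_lit 0, nat_lit 0x1cb7be385d2b54627ae58a10, nat_lit 0,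
nat_lit 0, nat_lit 0, nat_lit 0, nat_lit 0, nat_lit 0, nat_lit 0,
nat_lit 0, nat_lit 0, nat_lit 0x2e19e141597e30196d9a88eb5f7, nat_lit 0, nat_lit 0, nat_lit 0,
nat_lit 0, nat_lit 0, nat_lit 0, nat_lit 0x3971e7fa8f3093f02185f87ec526, nat_lit 0, nat_lit 0,
nat_lit 0x87ab45, nat_lit 0x1cc7db0388e94a9def956a7d, nat_lit 0x74a2758f8425c17dedd98ea874, nat_lit 0x971f2fc7f5285154d9c15e67eaf, nat_lit 0, nat_lit 0,
nat_lit 0, nat_lit 0, nat_lit 0x3ae3853d365bbdf436efcdab5, nat_lit 0, nat_lit 0, nat_lit 0,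
nat_lit 0, nat_lit 0, nat_lit 0, nat_lit 0, nat_lit 0xb15981638bcf7889462d382, nat_lit 0,
nat_lit 0, nat_lit 0, nat_lit 0, nat_lit 0, nat_lit 0, nat_lit 0,
nat_lit 0xdf23bb951fbbf6c, nat_lit 0x499e257bfa79695adab9c2c5235, nat_lit 0x2df4eb7371de615a2e7cec45, nat_lit 0xa6fe1f685e0609cd0ba473e67e7, nat_lit 0, nat_lit 0,
nat_lit 0x2b7a92f5a3f6d1, nat_lit 0, nat_lit 0, nat_lit 0x3260741f60cc9a7dae22, nat_lit 0x34750fe1aa0fbf720082f3c9, nat_lit 0x5407963d658919376bb005981b9,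
nat_lit 0, nat_lit 0, nat_lit 0, nat_lit 0, nat_lit 0, nat_lit 0,
nat_lit 0x8903f973507f2218167a637, nat_lit 0x128e7bc0bb5143e6dea0cda, nat_lit 0x2da5654d551b3964aa32, nat_lit 0, nat_lit 0, nat_lit 0,
nat_lit 0, nat_lit 0, nat_lit 0, nat_lit 0x1284131ec7af7a5f6bf74bf, nat_lit 0x64bbb478909f986a34, nat_lit 0x2c4fbc5ccb97523d7f53b8b438ac0,
nat_lit 0xe957c7cd659f6df44047f6a92e0d, nat_lit 0, nat_lit 0, nat_lit 0x52764c174e1850a2c76ac2345c3f, nat_lit 0, nat_lit 0,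
nat_lit 0, nat_lit 0, nat_lit 0, nat_lit 0, nat_lit 0, nat_lit 0,
nat_lit 0, nat_lit 0, nat_lit 0, nat_lit 0, nat_lit 0, nat_lit 0,
nat_lit 0, nat_lit 0, nat_lit 0, nat_lit 0, nat_lit 0, nat_lit 0,
nat_lit 0x37d67b66d8252e6a86a485893, nat_lit 0x2cc85406b1079dfa8, nat_lit 0x53dd4ea9b5c94f7c00e41e74e00, nat_lit 0x11f8117372d69c9bc3c3b, nat_lit 0, nat_lit 0,
nat_lit 0x40d4c72161a69361e, nat_lit 0, nat_lit 0, nat_lit 0, nat_lit 0, nat_lit 0,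
nat_lit 0, nat_lit 0, nat_lit 0, nat_lit 0, nat_lit 0, nat_lit 0,
nat_lit 0, nat_lit 0, nat_lit 0, nat_lit 0, nat_lit 0, nat_lit 0,
nat_lit 0, nat_lit 0, nat_lit 0, nat_lit 0x3f6ce55479d058392, nat_lit 0, nat_lit 0,
nat_lit 0x34747f6c052ba6df272e3713, nat_lit 0x4c1dbc99b8ebd27e51f155648, nat_lit 0x8750af9f5465835e3dffc025, nat_lit 0x103075bf77e6ee3baf3b59990, nat_lit 0, nat_lit 0,
nat_lit 0x111f80b7afcafc25a88, nat_lit 0, nat_lit 0, nat_lit 0, nat_lit 0, nat_lit 0,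
nat_lit 0, nat_lit 0, nat_lit 0, nat_lit 0x64b87adbd9e1576, nat_lit 0, nat_lit 0,
nat_lit 0, nat_lit 0, nat_lit 0, nat_lit 0, nat_lit 0, nat_lit 0,
nat_lit 0x103106d9285339f2af2bfe694, nat_lit 0, nat_lit 0, nat_lit 0x2c4fbc2eb286582900cc4e760535b, nat_lit 0x2920bbb01f1c3b53b30be58e, nat_lit 0x6ecb7b39e1c66b8cbe51799,
nat_lit 0x7786b611273f, nat_lit 0, nat_lit 0, nat_lit 0, nat_lit 0, nat_lit 0x28b1a8e0eeaa757075,
nat_lit 0, nat_lit 0, nat_lit 0, nat_lit 0, nat_lit 0, nat_lit 0,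
nat_lit 0, nat_lit 0x202535c5dfb241bff5d53e, nat_lit 0, nat_lit 0, nat_lit 0, nat_lit 0,
nat_lit 0, nat_lit 0, nat_lit 0, nat_lit 0x68210c89ea85aeca89b6bac4e60, nat_lit 0, nat_lit 0,
nat_lit 0x179c309d8a0, nat_lit 0x1cc7ed1fda6d207c101cfacc, nat_lit 0xf39549b547097988a0ad5f, nat_lit 0x142c36801e594f8cef1985f16e, nat_lit 0, nat_lit 0,
nat_lit 0, nat_lit 0x381d10e327e49dcf, nat_lit 0, nat_lit 0, nat_lit 0, nat_lit 0,
nat_lit 0, nat_lit 0, nat_lit 0, nat_lit 0, nat_lit 0, nat_lit 0xa781fdd30cbf10ad9fa2460e3f3,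
nat_lit 0, nat_lit 0, nat_lit 0, nat_lit 0, nat_lit 0, nat_lit 0,
nat_lit 0x61039a0227f5666b5fee, nat_lit 0, nat_lit 0, nat_lit 0xac81b40f4350750d6c6, nat_lit 0x5934b34675236c895feb8c, nat_lit 0x576e1b70c3b4f79571a0ee20,
nat_lit 0x33a4d99d71d2adfa8814d650af082, nat_lit 0, nat_lit 0, nat_lit 0xba6902b5673acd24f28cf70, nat_lit 0, nat_lit 0,
nat_lit 0, nat_lit 0, nat_lit 0, nat_lit 0, nat_lit 0, nat_lit 0,
nat_lit 0x1498232e9fc73b3495d, nat_lit 0, nat_lit 0, nat_lit 0, nat_lit 0, nat_lit 0,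
nat_lit 0, nat_lit 0, nat_lit 0, nat_lit 0x345b2ece9286612bd2b05e99, nat_lit 0, nat_lit 0,
nat_lit 0x3826dbd27b54f83291d23, nat_lit 0x685564950922f58a8cca, nat_lit 0x2acdf7465b933eb8fbee9df263, nat_lit 0x1db9a29895fb5018a29553b382, nat_lit 0, nat_lit 0,
nat_lit 0, nat_lit 0x62acfbe7c5ffebd94381, nat_lit 0, nat_lit 0, nat_lit 0, nat_lit 0,
nat_lit 0, nat_lit 0, nat_lit 0, nat_lit 0, nat_lit 0, nat_lit 0xf8f88bb3488b7d7fcaf89f9d89,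
nat_lit 0, nat_lit 0, nat_lit 0, nat_lit 0, nat_lit 0, nat_lit 0,
nat_lit 0x27cd68ecfd4583ae87432, nat_lit 0, nat_lit 0, nat_lit 0x81fbfc19885cc2df806e71, nat_lit 0x711e145d7fc37aa5f93e, nat_lit 0x48302e2a6a67407c13ec6483443,
nat_lit 0x5df1a14db353a4f3c5c61761, nat_lit 0, nat_lit 0, nat_lit 0, nat_lit 0, nat_lit 0x35264dbfaf367e34f5e4df1c767ff,
nat_lit 0, nat_lit 0, nat_lit 0, nat_lit 0, nat_lit 0, nat_lit 0,
nat_lit 0, nat_lit 0x430378a626dc, nat_lit 0, nat_lit 0, nat_lit 0, nat_lit 0,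
nat_lit 0, nat_lit 0, nat_lit 0]

theorem len23 : cd23.length = 729 := by decide +kernel

theorem hC23 : allZ (chkN ap bsL ixL yW 7) cd23 (729 * 23) = true := by decide +kernel

end Cfsg.Agent.TcChain36.O7C
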